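import Mathlib
import Groth.Agent.Lib.Helper10.FibDiagBC
import Groth.Agent.Lib.Helper10.AlgStDiag
import Groth.Agent.Lib.Helper10.AlgStSwap
import Groth.Agent.Lib.Helper28.AlgSt.Descent
import Groth.Agent.Lib.Helper28.AlgSt.FpStack

/-!
# `diagN f g : (𝒵 ×_𝒴 𝒳) ×_𝒵 (𝒵 ×_𝒴 𝒳) ⟶ 𝒳 ×_𝒴 𝒳` is a base change of `g : 𝒵 ⟶ 𝒴`

The square

    (𝒵 ×_𝒴 𝒳) ×_𝒵 (𝒵 ×_𝒴 𝒳) ──diagN──▶ 𝒳 ×_𝒴 𝒳
              │                            │ pr₁ ⋙ f
              ▼                            ▼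
              𝒵 ───────────g────────────▶ 𝒴

is 2-cartesian: `dcLam f g` is the comparison functor and it is an equivalence over the base.
Consequences: descent of properties of the diagonal along fppf covers of the target.
-/

set_option autoImplicit false
set_option backward.isDefEq.respectTransparency false
set_option backward.isDefEq.respectTransparency.types false

universe v₅ u₅ v₄ u₄ v₃ u₃ v₂ u₂ v u

open CategoryTheory Functor CategoryTheory.Limits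

namespace Groth.Agent.Lib.Helper16.AlgStDC

open Groth.Agent.Lib.Helper10.Fib

section Cat

variable {C : Type u} [Category.{v} C] {𝒳 : BasedCategory.{v₂, u₂} C}
  {𝒴 : BasedCategory.{v₃, u₃} C} {𝒵 : BasedCategory.{v₄, u₄} C}
  (f : 𝒳 ⥤ᵇ 𝒴) (g : 𝒵 ⥤ᵇ 𝒴)

/-- `𝒳 ×_𝒴 𝒳 ⟶ 𝒴`, through the first projection. -/
def dcH : FibCat.fp f f ⥤ᵇ 𝒴 := BasedFunctor.comp (FibCat.fpFst f f) f

/-- Object map of the comparison functor. -/
def dcObj (q : (FibCat.fp (FibCat.fpFst g f) (FibCat.fpFst g f)).obj) :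
    (FibCat.fp g (dcH f)).obj :=
  ⟨⟨q.obj.fst.obj.fst, (diagN f g).obj q, q.obj.fst.obj.iso⟩, q.obj.fst.property⟩

/-- Morphism map of the comparison functor. -/
def dcMap {q q' : (FibCat.fp (FibCat.fpFst g f) (FibCat.fpFst g f)).obj} (m : q ⟶ q') :
    dcObj f g q ⟶ dcObj f g q' :=
  ObjectProperty.homMk ⟨m.hom.fst.hom.fst, (diagN f g).map m, m.hom.fst.hom.w⟩

/-- The comparison functor `(𝒵 ×_𝒴 𝒳) ×_𝒵 (𝒵 ×_𝒴 𝒳) ⟶ 𝒵 ×_𝒴 (𝒳 ×_𝒴 𝒳)`. -/
def dcLam : FibCat.fp (FibCat.fpFst g f) (FibCat.fpFst g f) ⥤ᵇ FibCat.fp g (dcH f) where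
  toFunctor :=
    { obj := dcObj f g
      map := dcMap f g
      map_id := fun q => by
        apply ObjectProperty.hom_ext
        apply CategoricalPullback.hom_ext
        · rfl
        · exact (diagN f g).toFunctor.map_id _
      map_comp := fun m m' => by
        apply ObjectProperty.hom_ext
        apply CategoricalPullback.hom_ext
        · rfl
        · exact (diagN f g).toFunctor.map_comp _ _ }
  w := rfl

theorem dcLam_faithful : (dcLam f g).toFunctor.Faithful := ⟨fun {q q'} m m' hm => by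
  have h1 : m.hom.fst.hom.fst = m'.hom.fst.hom.fst := congrArg (fun t => t.hom.fst) hm
  have h2 : (diagN f g).map m = (diagN f g).map m' := congrArg (fun t => t.hom.snd) hm
  have h3 : m.hom.fst.hom.snd = m'.hom.fst.hom.snd := congrArg (fun t => t.hom.fst) h2
  have h4 : m.hom.snd.hom.snd = m'.hom.snd.hom.snd := congrArg (fun t => t.hom.snd) h2
  have h5 : m.hom.snd.hom.fst = m'.hom.snd.hom.fst := by
    have e1 : m.hom.fst.hom.fst ≫ q'.obj.iso.hom = q.obj.iso.hom ≫ m.hom.snd.hom.fst := m.hom.w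
    have e2 : m'.hom.fst.hom.fst ≫ q'.obj.iso.hom = q.obj.iso.hom ≫ m'.hom.snd.hom.fst :=
      m'.hom.w
    have e : q.obj.iso.hom ≫ m.hom.snd.hom.fst = q.obj.iso.hom ≫ m'.hom.snd.hom.fst := by
      rw [← e1, ← e2, h1]
    exact (cancel_epi q.obj.iso.hom).1 e
  apply ObjectProperty.hom_ext
  apply CategoricalPullback.hom_ext
  · apply ObjectProperty.hom_ext
    apply CategoricalPullback.hom_ext
    · exact h1
    · exact h3
  · apply ObjectProperty.hom_ext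
    apply CategoricalPullback.hom_ext
    · exact h5
    · exact h4⟩

theorem dcLam_full : (dcLam f g).toFunctor.Full := ⟨fun {q q'} n => by
  obtain ⟨s, hs⟩ : ∃ s : q.obj.fst.obj.fst ⟶ q'.obj.fst.obj.fst, s = n.hom.fst := ⟨_, rfl⟩
  obtain ⟨r₁, hr₁⟩ : ∃ r₁ : q.obj.fst.obj.snd ⟶ q'.obj.fst.obj.snd, r₁ = n.hom.snd.hom.fst :=
    ⟨_, rfl⟩
  obtain ⟨r₂, hr₂⟩ : ∃ r₂ : q.obj.snd.obj.snd ⟶ q'.obj.snd.obj.snd, r₂ = n.hom.snd.hom.snd :=
    ⟨_, rfl⟩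
  have hw1 : g.map s ≫ (pθ f g q'.obj.fst).hom = (pθ f g q.obj.fst).hom ≫ f.map r₁ := by
    rw [hs, hr₁]
    exact n.hom.w
  have hw2 : f.map r₁ ≫ ((pθ f g q'.obj.fst).inv ≫ g.map q'.obj.iso.hom ≫
        (pθ f g q'.obj.snd).hom) =
      ((pθ f g q.obj.fst).inv ≫ g.map q.obj.iso.hom ≫ (pθ f g q.obj.snd).hom) ≫ f.map r₂ := by
    rw [hr₁, hr₂]
    exact n.hom.snd.hom.w
  have key : g.map s ≫ g.map q'.obj.iso.hom ≫ (pθ f g q'.obj.snd).hom =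
      g.map q.obj.iso.hom ≫ (pθ f g q.obj.snd).hom ≫ f.map r₂ := by
    calc g.map s ≫ g.map q'.obj.iso.hom ≫ (pθ f g q'.obj.snd).hom
        = (g.map s ≫ (pθ f g q'.obj.fst).hom) ≫ (pθ f g q'.obj.fst).inv ≫
            g.map q'.obj.iso.hom ≫ (pθ f g q'.obj.snd).hom := by
          simp only [Category.assoc, Iso.hom_inv_id_assoc]
      _ = ((pθ f g q.obj.fst).hom ≫ f.map r₁) ≫ (pθ f g q'.obj.fst).inv ≫
            g.map q'.obj.iso.hom ≫ (pθ f g q'.obj.snd).hom := by rw [hw1]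
      _ = (pθ f g q.obj.fst).hom ≫ (f.map r₁ ≫ ((pθ f g q'.obj.fst).inv ≫
            g.map q'.obj.iso.hom ≫ (pθ f g q'.obj.snd).hom)) := Category.assoc _ _ _
      _ = (pθ f g q.obj.fst).hom ≫ (((pθ f g q.obj.fst).inv ≫ g.map q.obj.iso.hom ≫
            (pθ f g q.obj.snd).hom) ≫ f.map r₂) := by rw [hw2]
      _ = g.map q.obj.iso.hom ≫ (pθ f g q.obj.snd).hom ≫ f.map r₂ := by
          simp only [Category.assoc, Iso.hom_inv_id_assoc]
  have e2 : g.map q.obj.iso.inv ≫ g.map q.obj.iso.hom = 𝟙 _ := by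
    rw [← g.toFunctor.map_comp, Iso.inv_hom_id, g.toFunctor.map_id]
  have hζ2 : g.map (q.obj.iso.inv ≫ s ≫ q'.obj.iso.hom) ≫ (pθ f g q'.obj.snd).hom =
      (pθ f g q.obj.snd).hom ≫ f.map r₂ := by
    calc g.map (q.obj.iso.inv ≫ s ≫ q'.obj.iso.hom) ≫ (pθ f g q'.obj.snd).hom
        = g.map q.obj.iso.inv ≫ (g.map s ≫ g.map q'.obj.iso.hom ≫ (pθ f g q'.obj.snd).hom) := by
          rw [g.toFunctor.map_comp, g.toFunctor.map_comp]
          simp only [Category.assoc]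
      _ = g.map q.obj.iso.inv ≫ (g.map q.obj.iso.hom ≫ (pθ f g q.obj.snd).hom ≫ f.map r₂) := by
          rw [key]
      _ = (g.map q.obj.iso.inv ≫ g.map q.obj.iso.hom) ≫ (pθ f g q.obj.snd).hom ≫ f.map r₂ :=
          (Category.assoc _ _ _).symm
      _ = (pθ f g q.obj.snd).hom ≫ f.map r₂ := by rw [e2, Category.id_comp]
  let m₁ : q.obj.fst ⟶ q'.obj.fst := ObjectProperty.homMk ⟨s, r₁, hw1⟩
  let m₂ : q.obj.snd ⟶ q'.obj.snd :=
    ObjectProperty.homMk ⟨q.obj.iso.inv ≫ s ≫ q'.obj.iso.hom, r₂, hζ2⟩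
  have hm : s ≫ q'.obj.iso.hom = q.obj.iso.hom ≫ (q.obj.iso.inv ≫ s ≫ q'.obj.iso.hom) :=
    (Iso.hom_inv_id_assoc _ _).symm
  let m : q ⟶ q' := ObjectProperty.homMk ⟨m₁, m₂, hm⟩
  refine ⟨m, ?_⟩
  apply ObjectProperty.hom_ext
  apply CategoricalPullback.hom_ext
  · exact hs
  · apply ObjectProperty.hom_ext
    apply CategoricalPullback.hom_ext
    · exact hr₁
    · exact hr₂⟩

theorem dcLam_ess (y₀ : (FibCat.fp g (dcH f)).obj) :
    ∃ (q : (FibCat.fp (FibCat.fpFst g f) (FibCat.fpFst g f)).obj)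
      (e : (dcLam f g).obj q ≅ y₀),
      (FibCat.fp g (dcH f)).p.IsHomLift (𝟙 ((FibCat.fp g (dcH f)).p.obj y₀)) e.hom := by
  have hy : 𝒴.p.IsHomLift (𝟙 (𝒵.p.obj y₀.obj.fst)) y₀.obj.iso.hom := y₀.property
  have hX : 𝒴.p.IsHomLift (𝟙 (𝒳.p.obj y₀.obj.snd.obj.fst)) y₀.obj.snd.obj.iso.hom :=
    y₀.obj.snd.property
  have heq : 𝒳.p.obj y₀.obj.snd.obj.fst = 𝒵.p.obj y₀.obj.fst :=
    (f.w_obj y₀.obj.snd.obj.fst).symm.trans
      (IsHomLift.codomain_eq 𝒴.p (𝟙 (𝒵.p.obj y₀.obj.fst)) y₀.obj.iso.hom)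
  have hX' : 𝒴.p.IsHomLift (𝟙 (𝒵.p.obj y₀.obj.fst)) y₀.obj.snd.obj.iso.hom :=
    isHomLift_id_of_eq 𝒴.p heq _
  have h2 : 𝒴.p.IsHomLift (𝟙 (𝒵.p.obj y₀.obj.fst))
      (y₀.obj.iso.hom ≫ y₀.obj.snd.obj.iso.hom) := by
    have h0 : 𝒴.p.IsHomLift (𝟙 (𝒵.p.obj y₀.obj.fst) ≫ 𝟙 (𝒵.p.obj y₀.obj.fst))
        (y₀.obj.iso.hom ≫ y₀.obj.snd.obj.iso.hom) := inferInstance
    rw [Category.comp_id] at h0
    exact h0
  let p₁ : (FibCat.fp g f).obj := ⟨⟨y₀.obj.fst, y₀.obj.snd.obj.fst, y₀.obj.iso⟩, hy⟩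
  let p₂ : (FibCat.fp g f).obj :=
    ⟨⟨y₀.obj.fst, y₀.obj.snd.obj.snd, y₀.obj.iso ≪≫ y₀.obj.snd.obj.iso⟩, h2⟩
  have hq : 𝒵.p.IsHomLift (𝟙 (𝒵.p.obj y₀.obj.fst)) (𝟙 y₀.obj.fst) := IsHomLift.id rfl
  let q : (FibCat.fp (FibCat.fpFst g f) (FibCat.fpFst g f)).obj :=
    ⟨⟨p₁, p₂, Iso.refl _⟩, hq⟩
  let E2 : (diagN f g).obj q ≅ y₀.obj.snd :=
    (FibCat.fpProp f f).isoMk (X := (diagN f g).obj q) (Y := y₀.obj.snd)
      (CategoricalPullback.mkIso (Iso.refl _) (Iso.refl _) (by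
        show f.map (𝟙 y₀.obj.snd.obj.fst) ≫ y₀.obj.snd.obj.iso.hom =
          (y₀.obj.iso.inv ≫ g.map (𝟙 y₀.obj.fst) ≫
            (y₀.obj.iso.hom ≫ y₀.obj.snd.obj.iso.hom)) ≫ f.map (𝟙 y₀.obj.snd.obj.snd)
        rw [f.toFunctor.map_id, f.toFunctor.map_id, g.toFunctor.map_id, Category.id_comp,
          Category.comp_id, Category.id_comp, Iso.inv_hom_id_assoc]))
  let e : (dcLam f g).obj q ≅ y₀ :=
    (FibCat.fpProp g (dcH f)).isoMk (X := (dcLam f g).obj q) (Y := y₀)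
      (CategoricalPullback.mkIso (Iso.refl _) E2 (by
        show g.map (𝟙 y₀.obj.fst) ≫ y₀.obj.iso.hom =
          y₀.obj.iso.hom ≫ f.map (𝟙 y₀.obj.snd.obj.fst)
        exact (congrArg (fun t => t ≫ y₀.obj.iso.hom) (g.toFunctor.map_id _)).trans
          ((Category.id_comp _).trans ((Category.comp_id _).symm.trans
            (congrArg (fun t => y₀.obj.iso.hom ≫ t) (f.toFunctor.map_id _).symm)))))
  refine ⟨q, e, ?_⟩
  rw [fp_isHomLift_iff]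
  exact hq

theorem isEquivOver_dcLam : FibCat.IsEquivOver (dcLam f g) := by
  have := dcLam_faithful f g
  have := dcLam_full f g
  exact isEquivOver_of_ff _ (dcLam_ess f g)

end Cat

end Groth.Agent.Lib.Helper16.AlgStDC
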