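import Mathlib
import Groth.Agent.Lib.Helper16.AlgSt.DiagCover

/-!
# Descent of properties of the diagonal along fppf covers of the target
-/

set_option autoImplicit false
set_option backward.isDefEq.respectTransparency false
set_option backward.isDefEq.respectTransparency.types false

universe u

open CategoryTheory CategoryTheory.Limits AlgebraicGeometry Opposite

namespace Groth.Agent.Lib.Helper16.AlgStDC

open Groth.Agent.Lib.Helper10.Fib Groth.Agent.Lib.Helper10.AlgStRep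
open Groth.Agent.Lib.Helper28.AlgSt.PropInst Groth.Agent.Lib.Helper28.AlgSt.Descent
open Groth.Agent.Lib.Helper28.AlgSt.FpStack

variable {S : Scheme.{u}} {𝒳 𝒴 𝒵 : AlgSt.Cat S}

/-- `diagN f g` is a base change of `g`. -/
theorem repByAlgSpWith_diagN (Q : MorphismProperty (AlgSp.Sp S)) (f : 𝒳 ⥤ᵇ 𝒴) (g : 𝒵 ⥤ᵇ 𝒴)
    (hg : AlgSt.RepByAlgSpWith Q g) : AlgSt.RepByAlgSpWith Q (diagN f g) :=
  repByAlgSpWith_of_square' Q (FibCat.fpSnd g (dcH f)) (diagN f g) (dcLam f g)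
    (BasedFunctor.id _) (isEquivOver_dcLam f g) (isEquivOver_id _) (Iso.refl _)
    (repByAlgSpWith_fpSnd Q g (dcH f) hg)

/-- If the diagonal of the base change of `f` along an fppf cover `g` of the target is
representable with `P`, so is the diagonal of `f`. -/
theorem repByAlgSpWith_diag_of_fpFst_cover {P : MorphismProperty (AlgSp.Sp S)} (hP : Good P)
    (h𝒳 : FibCat.IsFibGrpd 𝒳.p) (h𝒴 : FibCat.IsFibGrpd 𝒴.p) (h𝒵 : FibCat.IsFibGrpd 𝒵.p)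
    (f : 𝒳 ⥤ᵇ 𝒴) (hΔ : AlgSt.RepByAlgSp1 (FibCat.diag f)) (g : 𝒵 ⥤ᵇ 𝒴)
    (hg₁ : AlgSt.RepByAlgSpWith (AlgSp.LocP @Flat) g)
    (hg₂ : AlgSt.RepByAlgSpWith (AlgSp.LocP @LocallyOfFinitePresentation) g)
    (hg₃ : AlgSt.RepByAlgSpWith AlgSp.IsSurjectiveMor g)
    (h : AlgSt.RepByAlgSpWith P (FibCat.diag (FibCat.fpFst g f))) :
    AlgSt.RepByAlgSpWith P (FibCat.diag f) := by
  have hPf : FibCat.IsFibGrpd (FibCat.fp g f).p := isFibGrpd_fp g f h𝒵 h𝒳 h𝒴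
  have H2 : AlgSt.RepByAlgSpWith P (FibCat.fpFst (diagN f g) (FibCat.diag f)) :=
    repByAlgSpWith_of_square P _ (FibCat.diag (FibCat.fpFst g f)) (diagLam f g)
      (BasedFunctor.id _) (isEquivOver_diagLam f g h𝒳 h𝒴 h𝒵) (isEquivOver_id _)
      (Iso.refl _) h
  exact repByAlgSpWith_of_fpFst_cover h𝒳 (isFibGrpd_fp f f h𝒳 h𝒳 h𝒴)
    (isFibGrpd_fp _ _ hPf hPf h𝒵) P hP.bc hP.loc (FibCat.diag f) hΔ (diagN f g)
    (repByAlgSpWith_diagN _ f g hg₁) (repByAlgSpWith_diagN _ f g hg₂)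
    (repByAlgSpWith_diagN _ f g hg₃) H2

/-- Version for morphisms of algebraic stacks. -/
theorem repByAlgSpWith_diag_of_fpFst_cover' {P : MorphismProperty (AlgSp.Sp S)} (hP : Good P)
    (h𝒳 : AlgSt.IsAlgStack Scheme.fppfPrecoverage 𝒳)
    (h𝒴 : AlgSt.IsAlgStack Scheme.fppfPrecoverage 𝒴) (h𝒵 : FibCat.IsFibGrpd 𝒵.p)
    (f : 𝒳 ⥤ᵇ 𝒴) (g : 𝒵 ⥤ᵇ 𝒴)
    (hg₁ : AlgSt.RepByAlgSpWith (AlgSp.LocP @Flat) g)
    (hg₂ : AlgSt.RepByAlgSpWith (AlgSp.LocP @LocallyOfFinitePresentation) g)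
    (hg₃ : AlgSt.RepByAlgSpWith AlgSp.IsSurjectiveMor g)
    (h : AlgSt.RepByAlgSpWith P (FibCat.diag (FibCat.fpFst g f))) :
    AlgSt.RepByAlgSpWith P (FibCat.diag f) :=
  repByAlgSpWith_diag_of_fpFst_cover hP h𝒳.isStack.1 h𝒴.isStack.1 h𝒵 f
    (repByAlgSp1_diag_of_diag_toSelf h𝒳.isStack.1 h𝒴.isStack.1 h𝒳.diag h𝒴.diag f) g hg₁ hg₂ hg₃ h

end Groth.Agent.Lib.Helper16.AlgStDC
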