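import Mathlib
import Groth.Agent.Lib.Helper10.FibMagic
import Groth.Agent.Lib.Helper10.LiftSqBC
import Groth.Agent.Lib.Helper10.AlgStDiag
import Groth.Agent.Lib.Helper10.AlgStSwap
import Groth.Agent.Lib.Helper10.AlgStGraph
import Groth.Agent.Lib.Helper28.AlgSt.DiagComp

/-!
# Products of 1-morphisms and cancellation

* `prodR F g t : 𝒳 ×_𝒯 𝒴 ⟶ 𝒳 ×_𝒯 𝒵` (`id × g`) is a base change of `g`;
* `prodL f t G : 𝒳 ×_𝒯 𝒴 ⟶ 𝒵 ×_𝒯 𝒴` (`f × id`) is a base change of `f`;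
* `magN f g t = f × g` is the composite, hence has every "good" property that `f` and `g` have;
* `repByAlgSpWith_of_comp`: cancellation `P (a ⋙ b)`, `P (Δ_b)` ⟹ `P a`.
-/

set_option autoImplicit false
set_option backward.isDefEq.respectTransparency false
set_option backward.isDefEq.respectTransparency.types false

universe v₅ u₅ v₄ u₄ v₃ u₃ v₂ u₂ v u

open CategoryTheory Functor CategoryTheory.Limits

namespace Groth.Agent.Lib.Helper16.AlgStDC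

open Groth.Agent.Lib.Helper10.Fib Groth.Agent.Lib.Helper10.LiftSqBC

section Cat

variable {C : Type u} [Category.{v} C] {𝒳 : BasedCategory.{v₂, u₂} C}
  {𝒴 : BasedCategory.{v₃, u₃} C} {𝒵 : BasedCategory.{v₄, u₄} C} {𝒯 : BasedCategory.{v₅, u₅} C}

/-- `id × g : 𝒳 ×_𝒯 𝒴 ⟶ 𝒳 ×_𝒯 𝒵`. -/
def prodR (F : 𝒳 ⥤ᵇ 𝒯) (g : 𝒴 ⥤ᵇ 𝒵) (t : 𝒵 ⥤ᵇ 𝒯) :
    FibCat.fp F (BasedFunctor.comp g t) ⥤ᵇ FibCat.fp F t :=
  FibCat.fpLift (FibCat.fpFst F (BasedFunctor.comp g t))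
    (BasedFunctor.comp (FibCat.fpSnd F (BasedFunctor.comp g t)) g)
    (FibCat.fpIso F (BasedFunctor.comp g t))

/-- `f × id : 𝒳 ×_𝒯 𝒴 ⟶ 𝒵 ×_𝒯 𝒴`. -/
def prodL (f : 𝒳 ⥤ᵇ 𝒵) (t : 𝒵 ⥤ᵇ 𝒯) (G : 𝒴 ⥤ᵇ 𝒯) :
    FibCat.fp (BasedFunctor.comp f t) G ⥤ᵇ FibCat.fp t G :=
  FibCat.fpLift (BasedFunctor.comp (FibCat.fpFst (BasedFunctor.comp f t) G) f)
    (FibCat.fpSnd (BasedFunctor.comp f t) G)
    (FibCat.fpIso (BasedFunctor.comp f t) G)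

/-- `prodR` is the base change of `g` along `fpSnd F t`, through `paste2`. -/
def prodRIso (F : 𝒳 ⥤ᵇ 𝒯) (g : 𝒴 ⥤ᵇ 𝒵) (t : 𝒵 ⥤ᵇ 𝒯) :
    BasedFunctor.comp (FibCat.fpFst (FibCat.fpSnd F t) g) (BasedFunctor.id (FibCat.fp F t)) ≅
      BasedFunctor.comp (paste2 F t g) (prodR F g t) :=
  fpTwoIso F t
    (A := BasedFunctor.comp (FibCat.fpFst (FibCat.fpSnd F t) g) (BasedFunctor.id (FibCat.fp F t)))
    (B := BasedFunctor.comp (paste2 F t g) (prodR F g t))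
    (Iso.refl _) (FibCat.fpIso (FibCat.fpSnd F t) g) (fun Q =>
      (congrArg (fun s => s ≫ ((p2θ F t g Q).hom ≫ t.map (p2η F t g Q).hom))
        (F.toFunctor.map_id _)).trans (Category.id_comp _))

/-- `prodL` is the base change of `f` along `fpFst t G`, through `paste1`. -/
def prodLIso (f : 𝒳 ⥤ᵇ 𝒵) (t : 𝒵 ⥤ᵇ 𝒯) (G : 𝒴 ⥤ᵇ 𝒯) :
    BasedFunctor.comp (FibCat.fpSnd f (FibCat.fpFst t G)) (BasedFunctor.id (FibCat.fp t G)) ≅
      BasedFunctor.comp (paste1 f t G) (prodL f t G) :=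
  fpTwoIso t G
    (A := BasedFunctor.comp (FibCat.fpSnd f (FibCat.fpFst t G)) (BasedFunctor.id (FibCat.fp t G)))
    (B := BasedFunctor.comp (paste1 f t G) (prodL f t G))
    (FibCat.fpIso f (FibCat.fpFst t G)).symm (Iso.refl _) (fun P => by
      show t.map (p1η f t G P).inv ≫ (t.map (p1η f t G P).hom ≫ (p1θ f t G P).hom) =
        (p1θ f t G P).hom ≫ G.map (𝟙 _)
      have e2 : t.map (p1η f t G P).inv ≫ t.map (p1η f t G P).hom = 𝟙 _ := by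
        rw [← t.toFunctor.map_comp, Iso.inv_hom_id, t.toFunctor.map_id]
      rw [← Category.assoc, e2, Category.id_comp]
      exact ((congrArg (fun s => (p1θ f t G P).hom ≫ s) (G.toFunctor.map_id _)).trans
        (Category.comp_id _)).symm)

/-- `f × g = (id × g) ⋙ (f × id)`. -/
def magNIso (f : 𝒳 ⥤ᵇ 𝒵) (g : 𝒴 ⥤ᵇ 𝒵) (t : 𝒵 ⥤ᵇ 𝒯) :
    magN f g t ≅ BasedFunctor.comp (prodR (BasedFunctor.comp f t) g t) (prodL f t t) :=
  Iso.refl _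

end Cat

end Groth.Agent.Lib.Helper16.AlgStDC
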