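import Mathlib
import Groth.Agent.Lib.Helper16.AlgSt.ProdCover
import Groth.Agent.Lib.Helper16.AlgSt.DiagDescent
import Groth.Agent.Lib.Helper28.AlgSt.SpaceCalc
import Groth.Agent.S9900

/-!
# Properties of the diagonal over the base from a cover with that property
-/

set_option autoImplicit false
set_option backward.isDefEq.respectTransparency false
set_option backward.isDefEq.respectTransparency.types false

universe u

open CategoryTheory CategoryTheory.Limits AlgebraicGeometry Opposite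

namespace Groth.Agent.Lib.Helper16.AlgStDC

open Groth.Agent.Lib.Helper10.Fib Groth.Agent.Lib.Helper10.AlgStRep
open Groth.Agent.Lib.Helper28.AlgSt.PropInst Groth.Agent.Lib.Helper28.AlgSt.Descent
open Groth.Agent.Lib.Helper28.AlgSt.FpStack Groth.Agent.Lib.Helper28.AlgSt.DiagComp
open Groth.Agent.Lib.Helper28.AlgSt.DiagRep Groth.Agent.Lib.Helper28.AlgSt.Basic
open Groth.Agent.Lib.Helper28.AlgSt.Key

variable {S : Scheme.{u}}

section Prod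

variable {𝒳 𝒴 𝒵 𝒯 : AlgSt.Cat S}

theorem repByAlgSpWith_prodR (Q : MorphismProperty (AlgSp.Sp S)) (F : 𝒳 ⥤ᵇ 𝒯) (g : 𝒴 ⥤ᵇ 𝒵)
    (t : 𝒵 ⥤ᵇ 𝒯) (hg : AlgSt.RepByAlgSpWith Q g) : AlgSt.RepByAlgSpWith Q (prodR F g t) :=
  repByAlgSpWith_of_square Q (prodR F g t) (FibCat.fpFst (FibCat.fpSnd F t) g) (paste2 F t g)
    (BasedFunctor.id _) (isEquivOver_paste2 F t g) (isEquivOver_id _) (prodRIso F g t)
    (repByAlgSpWith_fpFst Q g (FibCat.fpSnd F t) hg)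

theorem repByAlgSpWith_prodL (Q : MorphismProperty (AlgSp.Sp S)) (f : 𝒳 ⥤ᵇ 𝒵) (t : 𝒵 ⥤ᵇ 𝒯)
    (G : 𝒴 ⥤ᵇ 𝒯) (hf : AlgSt.RepByAlgSpWith Q f) : AlgSt.RepByAlgSpWith Q (prodL f t G) :=
  repByAlgSpWith_of_square Q (prodL f t G) (FibCat.fpSnd f (FibCat.fpFst t G)) (paste1 f t G)
    (BasedFunctor.id _) (isEquivOver_paste1 f t G) (isEquivOver_id _) (prodLIso f t G)
    (repByAlgSpWith_fpSnd Q f (FibCat.fpFst t G) hf)

/-- `f × g : 𝒳 ×_𝒯 𝒴 ⟶ 𝒵 ×_𝒯 𝒵` has every good property that `f` and `g` have. -/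
theorem repByAlgSpWith_magN {Q : MorphismProperty (AlgSp.Sp S)} (hQ : Good Q)
    (h𝒳 : FibCat.IsFibGrpd 𝒳.p) (h𝒴 : FibCat.IsFibGrpd 𝒴.p) (h𝒵 : FibCat.IsFibGrpd 𝒵.p)
    (h𝒯 : FibCat.IsFibGrpd 𝒯.p) (f : 𝒳 ⥤ᵇ 𝒵) (g : 𝒴 ⥤ᵇ 𝒵) (t : 𝒵 ⥤ᵇ 𝒯)
    (hf : AlgSt.RepByAlgSpWith Q f) (hg : AlgSt.RepByAlgSpWith Q g) :
    AlgSt.RepByAlgSpWith Q (magN f g t) :=
  repByAlgSpWith_iso Q (magNIso f g t)
    (repByAlgSpWith_comp_good hQ (isFibGrpd_fp _ _ h𝒳 h𝒴 h𝒯) (isFibGrpd_fp _ _ h𝒳 h𝒵 h𝒯)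
      (prodR (BasedFunctor.comp f t) g t) (prodL f t t)
      (repByAlgSpWith_prodR Q _ g t hg) (repByAlgSpWith_prodL Q f t t hf))

/-- Cancellation: if `a ⋙ b` and the diagonal of `b` have `P`, so does `a`. -/
theorem repByAlgSpWith_of_comp {P : MorphismProperty (AlgSp.Sp S)} (hP : Good P)
    (h𝒳 : FibCat.IsFibGrpd 𝒳.p) (h𝒴 : FibCat.IsFibGrpd 𝒴.p) (h𝒵 : FibCat.IsFibGrpd 𝒵.p)
    (a : 𝒳 ⥤ᵇ 𝒴) (b : 𝒴 ⥤ᵇ 𝒵) (hab : AlgSt.RepByAlgSpWith P (BasedFunctor.comp a b))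
    (hΔ : AlgSt.RepByAlgSpWith P (FibCat.diag b)) : AlgSt.RepByAlgSpWith P a := by
  let e : BasedFunctor.comp (BasedFunctor.id 𝒳) (BasedFunctor.comp a b) ≅
      BasedFunctor.comp a b := Iso.refl _
  have hΓ := repByAlgSpWith_graph P h𝒳 h𝒴 h𝒵 (BasedFunctor.comp a b) b a e hΔ
  have hs := repByAlgSpWith_fpSnd P (BasedFunctor.comp a b) b hab
  have hc := repByAlgSpWith_comp_good hP h𝒳 (isFibGrpd_fp _ _ h𝒳 h𝒴 h𝒵) _ _ hΓ hs
  exact repByAlgSpWith_iso P (Iso.refl _) hc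

end Prod

section Diagonals

/-- The diagonal of a morphism of algebraic spaces is unramified. -/
theorem unramified_diagonal (A B : AlgSp.Space S) (m : A ⟶ B) :
    AlgSp.LocP (@LocallyOfFiniteType ⊓ @FormallyUnramified) (pullback.diagonal m.hom) := by
  obtain ⟨h1, h2, h3, -, -⟩ := Groth.Agent.S9900.result m
  have hX : AlgSp.IsAlgSpace (pullback m.hom m.hom) :=
    Groth.Agent.Lib.Helper16.isAlgSpace_of_isPullback A.property B.property.diag A.property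
      (IsPullback.of_hasPullback m.hom m.hom)
  rw [Groth.Agent.Lib.Helper16.locP_iff_repWith Groth.Agent.Lib.Helper16.etLocalST_unramified
    A.property hX _ h1]
  refine Groth.Agent.Lib.Helper16.repWith_mono ?_ _
    (Groth.Agent.Lib.Helper16.repWith_inf _ h2 h3)
  rintro X Y g ⟨hg1, hg2⟩
  have : Mono g := hg2
  exact ⟨hg1, (inferInstance : FormallyUnramified g)⟩

/-- The diagonal of a morphism of algebraic spaces is locally of finite type. -/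
theorem lft_diagonal (A B : AlgSp.Space S) (m : A ⟶ B) :
    AlgSp.LocP @LocallyOfFiniteType (pullback.diagonal m.hom) := by
  obtain ⟨h1, h2, -, -, -⟩ := Groth.Agent.S9900.result m
  have hX : AlgSp.IsAlgSpace (pullback m.hom m.hom) :=
    Groth.Agent.Lib.Helper16.isAlgSpace_of_isPullback A.property B.property.diag A.property
      (IsPullback.of_hasPullback m.hom m.hom)
  rw [Groth.Agent.Lib.Helper16.locP_iff_repWith
    Groth.Agent.Lib.Helper16.etLocalST_locallyOfFiniteType A.property hX _ h1]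
  exact h2

/-- The diagonal of a morphism of algebraic spaces is locally quasi-finite. -/
theorem lqf_diagonal (A B : AlgSp.Space S) (m : A ⟶ B) :
    AlgSp.LocP (@LocallyQuasiFinite ⊓ @LocallyOfFiniteType) (pullback.diagonal m.hom) := by
  obtain ⟨h1, -, -, -, h5⟩ := Groth.Agent.S9900.result m
  have hX : AlgSp.IsAlgSpace (pullback m.hom m.hom) :=
    Groth.Agent.Lib.Helper16.isAlgSpace_of_isPullback A.property B.property.diag A.property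
      (IsPullback.of_hasPullback m.hom m.hom)
  rw [Groth.Agent.Lib.Helper16.locP_iff_repWith
    Groth.Agent.Lib.Helper16.etLocalST_locallyQuasiFinite A.property hX _ h1]
  exact h5

end Diagonals

section Main

variable {𝒳 𝒲 : AlgSt.Cat S}

/-- If `w : 𝒲 ⟶ 𝒳` is an fppf cover from (the category of) an algebraic space which has the good
property `P`, and diagonals of morphisms of algebraic spaces have `P`, then the diagonal of `𝒳`
over the base has `P`. -/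
theorem repByAlgSpWith_diag_toSelf_of_cover {P : MorphismProperty (AlgSp.Sp S)} (hP : Good P)
    (hPΔ : ∀ (A B : AlgSp.Space S) (m : A ⟶ B), P (pullback.diagonal m.hom))
    (h𝒳 : FibCat.IsFibGrpd 𝒳.p) (hΔ : AlgSt.RepByAlgSp1 (FibCat.diag (FibCat.toSelf 𝒳)))
    (h𝒲 : AlgSt.RepByAlgSp 𝒲) (w : 𝒲 ⥤ᵇ 𝒳)
    (hw₁ : AlgSt.RepByAlgSpWith (AlgSp.LocP @Flat) w)
    (hw₂ : AlgSt.RepByAlgSpWith (AlgSp.LocP @LocallyOfFinitePresentation) w)
    (hw₃ : AlgSt.RepByAlgSpWith AlgSp.IsSurjectiveMor w)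
    (hw₄ : AlgSt.RepByAlgSpWith P w) :
    AlgSt.RepByAlgSpWith P (FibCat.diag (FibCat.toSelf 𝒳)) := by
  have hS := isFibGrpd_selfOver (Over S)
  have f𝒲 := isFibGrpd_of_repByAlgSp h𝒲
  have hWW : FibCat.IsFibGrpd (FibCat.fp (BasedFunctor.comp w (FibCat.toSelf 𝒳))
      (BasedFunctor.comp w (FibCat.toSelf 𝒳))).p := isFibGrpd_fp _ _ f𝒲 f𝒲 hS
  have hww : FibCat.IsFibGrpd (FibCat.fp w w).p := isFibGrpd_fp _ _ f𝒲 f𝒲 h𝒳
  -- the morphism `R ⟶ W × W`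
  have hpr : AlgSt.RepByAlgSp1 (FibCat.fpFst (BasedFunctor.comp w (FibCat.toSelf 𝒳))
      (BasedFunctor.comp w (FibCat.toSelf 𝒳))) :=
    repByAlgSp1_of_repByAlgSp (repByAlgSp_fp h𝒲 h𝒲 repByAlgSp_selfOver _ _) h𝒲 _
  have hΔpr : AlgSt.RepByAlgSpWith P (FibCat.diag (FibCat.fpFst
      (BasedFunctor.comp w (FibCat.toSelf 𝒳)) (BasedFunctor.comp w (FibCat.toSelf 𝒳)))) :=
    Groth.Agent.Lib.Helper28.AlgSt.SpaceCalc.repByAlgSpWith_diag_of_forall hWW f𝒲 P hP.bc _ hpr hPΔ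
  have hi : AlgSt.RepByAlgSpWith P (FibCat.fpLift (FibCat.fpFst w w) (FibCat.fpSnd w w)
      (compE w (FibCat.toSelf 𝒳))) := by
    refine repByAlgSpWith_of_comp hP hww hWW f𝒲 _ (FibCat.fpFst _ _) ?_ hΔpr
    exact repByAlgSpWith_iso P (Iso.refl _) (repByAlgSpWith_fpFst P w w hw₄)
  have H2 : AlgSt.RepByAlgSpWith P (FibCat.fpFst (magN w w (FibCat.toSelf 𝒳))
      (FibCat.diag (FibCat.toSelf 𝒳))) :=
    repByAlgSpWith_of_square P _ (FibCat.fpLift (FibCat.fpFst w w) (FibCat.fpSnd w w)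
      (compE w (FibCat.toSelf 𝒳))) (magLam w w (FibCat.toSelf 𝒳) (compE w (FibCat.toSelf 𝒳))
      (fun _ => rfl)) (BasedFunctor.id _)
      (isEquivOver_magLam w w (FibCat.toSelf 𝒳) (compE w (FibCat.toSelf 𝒳)) (fun _ => rfl)
        f𝒲 f𝒲 h𝒳 hS) (isEquivOver_id _) (Iso.refl _) hi
  exact repByAlgSpWith_of_fpFst_cover h𝒳 (isFibGrpd_fp _ _ h𝒳 h𝒳 hS) hWW P hP.bc hP.loc
    (FibCat.diag (FibCat.toSelf 𝒳)) hΔ (magN w w (FibCat.toSelf 𝒳))
    (repByAlgSpWith_magN good_flat f𝒲 f𝒲 h𝒳 hS w w _ hw₁ hw₁)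
    (repByAlgSpWith_magN good_lfp f𝒲 f𝒲 h𝒳 hS w w _ hw₂ hw₂)
    (repByAlgSpWith_magN good_surjective f𝒲 f𝒲 h𝒳 hS w w _ hw₃ hw₃) H2

end Main

end Groth.Agent.Lib.Helper16.AlgStDC
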