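import Mathlib
import Groth.Agent.Lib.Helper16.AlgSt.DiagToSelf
import Groth.Agent.Lib.Helper16.LocPSource

/-!
# The diagonal of a morphism of algebraic stacks is locally of finite type
-/

set_option autoImplicit false
set_option backward.isDefEq.respectTransparency false
set_option backward.isDefEq.respectTransparency.types false

universe u

open CategoryTheory CategoryTheory.Limits AlgebraicGeometry Opposite

namespace Groth.Agent.Lib.Helper16.AlgStDC

open Groth.Agent.Lib.Helper10.Fib Groth.Agent.Lib.Helper10.AlgStRep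
open Groth.Agent.Lib.Helper28.AlgSt.PropInst Groth.Agent.Lib.Helper28.AlgSt.Descent
open Groth.Agent.Lib.Helper28.AlgSt.FpStack Groth.Agent.Lib.Helper28.AlgSt.DiagComp
open Groth.Agent.Lib.Helper28.AlgSt.DiagRep Groth.Agent.Lib.Helper28.AlgSt.Basic
open Groth.Agent.Lib.Helper28.AlgSt.Key

variable {S : Scheme.{u}} {𝒳 𝒴 𝒵 : AlgSt.Cat S}

theorem good_lft : Good (S := S) (AlgSp.LocP @LocallyOfFiniteType) :=
  good_locP Groth.Agent.Lib.Helper16.etLocalST_locallyOfFiniteType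

/-- Weakening of the property along an implication of properties of morphisms of schemes. -/
theorem repByAlgSpWith_locP_mono {P Q : MorphismProperty Scheme.{u}} (h : P ≤ Q)
    {𝒜 ℬ : AlgSt.Cat S} (x : 𝒜 ⥤ᵇ ℬ) (hx : AlgSt.RepByAlgSpWith (AlgSp.LocP P) x) :
    AlgSt.RepByAlgSpWith (AlgSp.LocP Q) x :=
  repByAlgSpWith_mono x (fun _ _ _ hg => Groth.Agent.Lib.Helper16.locP_mono h hg) hx

/-- The diagonal over the base of an algebraic stack is locally of finite type. -/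
theorem lft_diag_toSelf (h𝒳 : AlgSt.IsAlgStack Scheme.fppfPrecoverage 𝒳) :
    AlgSt.RepByAlgSpWith (AlgSp.LocP @LocallyOfFiniteType) (FibCat.diag (FibCat.toSelf 𝒳)) := by
  obtain ⟨U, x, hx1, hx2⟩ := h𝒳.atlas
  have hfl : AlgSt.RepByAlgSpWith (AlgSp.LocP @Flat) x :=
    repByAlgSpWith_locP_mono (fun _ _ f hf => by
      haveI : Smooth f := hf
      exact (inferInstance : Flat f)) x hx1
  have hlfp : AlgSt.RepByAlgSpWith (AlgSp.LocP @LocallyOfFinitePresentation) x :=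
    repByAlgSpWith_locP_mono (fun _ _ f hf => by
      haveI : Smooth f := hf
      exact (inferInstance : LocallyOfFinitePresentation f)) x hx1
  have hlft : AlgSt.RepByAlgSpWith (AlgSp.LocP @LocallyOfFiniteType) x :=
    repByAlgSpWith_locP_mono (fun _ _ f hf => by
      haveI : Smooth f := hf
      exact (inferInstance : LocallyOfFiniteType f)) x hx1
  exact repByAlgSpWith_diag_toSelf_of_cover good_lft lft_diagonal h𝒳.isStack.1 h𝒳.diag
    (repByAlgSp_overCat U) x hfl hlfp hx2 hlft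

/-- If the diagonal of `𝒴` over the base has the good property `P` (which all diagonals of
morphisms of algebraic spaces have) then so does the diagonal of every `g : 𝒴 ⟶ 𝒵`. -/
theorem repByAlgSpWith_diag_of_diag_toSelf {P : MorphismProperty (AlgSp.Sp S)} (hP : Good P)
    (hPΔ : ∀ (A B : AlgSp.Space S) (m : A ⟶ B), P (pullback.diagonal m.hom))
    (h𝒴 : FibCat.IsFibGrpd 𝒴.p) (h𝒵 : FibCat.IsFibGrpd 𝒵.p)
    (hΔ𝒴 : AlgSt.RepByAlgSpWith P (FibCat.diag (FibCat.toSelf 𝒴)))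
    (hΔ𝒵 : AlgSt.RepByAlgSp1 (FibCat.diag (FibCat.toSelf 𝒵))) (g : 𝒴 ⥤ᵇ 𝒵) :
    AlgSt.RepByAlgSpWith P (FibCat.diag g) := by
  have hS := isFibGrpd_selfOver (Over S)
  have hN : AlgSt.RepByAlgSp1 (toProd g) :=
    repByAlgSp1_of_with ⊤ _ (repByAlgSpWith_magic ⊤ h𝒴 h𝒴 h𝒵 hS g g (FibCat.toSelf 𝒵)
      (magE g g) (magE_app g g) (repByAlgSpWith_top _ hΔ𝒵))
  have hgg := isFibGrpd_fp g g h𝒴 h𝒴 h𝒵
  have hpp := isFibGrpd_fp (BasedFunctor.comp g (FibCat.toSelf 𝒵))
    (BasedFunctor.comp g (FibCat.toSelf 𝒵)) h𝒴 h𝒴 hS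
  have hΔN : AlgSt.RepByAlgSpWith P (FibCat.diag (toProd g)) :=
    Groth.Agent.Lib.Helper28.AlgSt.SpaceCalc.repByAlgSpWith_diag_of_forall hgg hpp P hP.bc _ hN hPΔ
  let p : 𝒴 ⥤ᵇ FibCat.fp (BasedFunctor.comp g (FibCat.toSelf 𝒵))
      (BasedFunctor.comp g (FibCat.toSelf 𝒵)) :=
    BasedFunctor.comp (FibCat.diag g) (toProd g)
  let E : FibCat.fp (FibCat.toSelf 𝒴) (FibCat.toSelf 𝒴) ⥤ᵇ
      FibCat.fp (BasedFunctor.comp g (FibCat.toSelf 𝒵)) (BasedFunctor.comp g (FibCat.toSelf 𝒵)) :=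
    fpMap (γ := BasedFunctor.id (FibCat.selfOver (Over S))) (α := BasedFunctor.id 𝒴)
      (β := BasedFunctor.id 𝒴) (G' := FibCat.toSelf 𝒴) (f' := FibCat.toSelf 𝒴)
      (G := BasedFunctor.comp g (FibCat.toSelf 𝒵)) (f := BasedFunctor.comp g (FibCat.toSelf 𝒵))
      (selfIso _ _) (selfIso _ _)
  have hE : FibCat.IsEquivOver E := by
    have := id_full (FibCat.selfOver (Over S))
    have := id_faithful (FibCat.selfOver (Over S))
    exact isEquivOver_fpMap _ _ (isEquivOver_id _) (isEquivOver_id _)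
  let iso : BasedFunctor.comp (FibCat.diag (FibCat.toSelf 𝒴)) E ≅
      BasedFunctor.comp (BasedFunctor.id 𝒴) p := fpSelfIso (Iso.refl _) (Iso.refl _)
  have hp : AlgSt.RepByAlgSpWith P p :=
    repByAlgSpWith_of_square P p (FibCat.diag (FibCat.toSelf 𝒴)) (BasedFunctor.id 𝒴) E
      (isEquivOver_id _) hE iso hΔ𝒴
  exact repByAlgSpWith_of_comp hP h𝒴 hgg hpp (FibCat.diag g) (toProd g) hp hΔN

/-- The diagonal of a morphism of algebraic stacks is locally of finite type. -/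
theorem lft_diag (h𝒳 : AlgSt.IsAlgStack Scheme.fppfPrecoverage 𝒳)
    (h𝒴 : AlgSt.IsAlgStack Scheme.fppfPrecoverage 𝒴) (f : 𝒳 ⥤ᵇ 𝒴) :
    AlgSt.RepByAlgSpWith (AlgSp.LocP @LocallyOfFiniteType) (FibCat.diag f) :=
  repByAlgSpWith_diag_of_diag_toSelf good_lft lft_diagonal h𝒳.isStack.1 h𝒴.isStack.1
    (lft_diag_toSelf h𝒳) h𝒴.diag f

end Groth.Agent.Lib.Helper16.AlgStDC
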