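import Mathlib
import Groth.Agent.Lib.Helper28.AlgSt.Descent
import Groth.Agent.Lib.Helper28.AlgSt.Good2
import Groth.Agent.Lib.Helper15.SmoothLocalST
import Groth.Agent.S10544

/-!
# Cancelling a cover on the source of a composite
-/

set_option autoImplicit false
set_option backward.isDefEq.respectTransparency false
set_option backward.isDefEq.respectTransparency.types false

universe u

open CategoryTheory CategoryTheory.Limits AlgebraicGeometry Opposite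

namespace Groth.Agent.Lib.Helper16.AlgStDC

open Groth.Agent.Lib.Helper10.Fib Groth.Agent.Lib.Helper10.StkPsh
open Groth.Agent.Lib.Helper10.AlgStRep
open Groth.Agent.Lib.Helper28.AlgSt.PshFun Groth.Agent.Lib.Helper28.AlgSt.PshPull
open Groth.Agent.Lib.Helper28.AlgSt.ClsPsh Groth.Agent.Lib.Helper28.AlgSt.Bridge
open Groth.Agent.Lib.Helper28.AlgSt.Key Groth.Agent.Lib.Helper28.AlgSt.PropInst
open Groth.Agent.Lib.Helper28.AlgSt.Comp Groth.Agent.Lib.Helper28.AlgSt.Whisker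


variable {S : Scheme.{u}} {𝒳 𝒴 𝒵 : AlgSt.Cat S}

theorem good_top : Good (S := S) ⊤ where
  bc := fun _ _ _ _ _ _ _ _ _ _ _ _ _ _ => trivial
  co := fun _ _ _ _ _ _ _ _ _ _ => trivial
  loc := fun _ _ _ _ _ _ _ _ _ _ _ _ _ _ _ => ⟨fun _ _ => trivial, fun _ => trivial⟩

/-- Representable with `R₁` and with `R₂` implies representable with both. -/
theorem repByAlgSpWith_inf (h𝒳 : FibCat.IsFibGrpd 𝒳.p) (h𝒴 : FibCat.IsFibGrpd 𝒴.p)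
    {R₁ R₂ : MorphismProperty (AlgSp.Sp S)} (hb₁ : BC R₁)
    (hl₁ : AlgSp.IsLocalOnBase AlgSp.IsFppfCover R₁) (hb₂ : BC R₂)
    (hl₂ : AlgSp.IsLocalOnBase AlgSp.IsFppfCover R₂) (x : 𝒳 ⥤ᵇ 𝒴)
    (hx₁ : AlgSt.RepByAlgSpWith R₁ x) (hx₂ : AlgSt.RepByAlgSpWith R₂ x) :
    AlgSt.RepByAlgSpWith (R₁ ⊓ R₂) x := by
  have hx : AlgSt.RepByAlgSp1 x := repByAlgSp1_of_with _ _ hx₁
  apply repByAlgSpWith_of_forall_space
  intro Z z
  obtain ⟨V, a, e, he, hiso⟩ := exists_space_fp h𝒳 h𝒴 x hx Z z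
  exact ⟨V, a, e, he, hiso,
    prop_of_repByAlgSpWith h𝒳 h𝒴 R₁ hb₁ hl₁ x hx₁ Z z V a e he hiso,
    prop_of_repByAlgSpWith h𝒳 h𝒴 R₂ hb₂ hl₂ x hx₂ Z z V a e he hiso⟩

/-- If `x ⋙ y` has `P`, `x` has the covering property `R`, and `P` can be checked after
precomposing with an `R`-morphism of spaces, then `y` has `P`. -/
theorem repByAlgSpWith_of_comp_cover (h𝒳 : FibCat.IsFibGrpd 𝒳.p) (h𝒴 : FibCat.IsFibGrpd 𝒴.p)
    (h𝒵 : FibCat.IsFibGrpd 𝒵.p) (P R : MorphismProperty (AlgSp.Sp S)) (hPb : BC P)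
    (hP : AlgSp.IsLocalOnBase AlgSp.IsFppfCover P) (hRb : BC R)
    (hR : AlgSp.IsLocalOnBase AlgSp.IsFppfCover R)
    (hsrc : ∀ (F G Z : AlgSp.Space S) (c : F ⟶ G) (a : G ⟶ Z), R c.hom → P (c ≫ a).hom → P a.hom)
    (x : 𝒳 ⥤ᵇ 𝒴) (y : 𝒴 ⥤ᵇ 𝒵) (hy : AlgSt.RepByAlgSp1 y) (hx : AlgSt.RepByAlgSpWith R x)
    (h : AlgSt.RepByAlgSpWith P (BasedFunctor.comp x y)) : AlgSt.RepByAlgSpWith P y := by
  apply repByAlgSpWith_of_forall_space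
  intro Z z
  obtain ⟨G, a, e, he, ⟨iso⟩⟩ := exists_space_fp h𝒴 h𝒵 y hy Z z
  refine ⟨G, a, e, he, ⟨iso⟩, ?_⟩
  let ζ' : AlgSt.ofSp G.obj ⥤ᵇ 𝒴 := BasedFunctor.comp e (FibCat.fpSnd z y)
  have hx1 : AlgSt.RepByAlgSp1 x := repByAlgSp1_of_with _ _ hx
  obtain ⟨F, c, eF, heF, ⟨isoF⟩⟩ := exists_space_fp h𝒳 h𝒴 x hx1 G ζ'
  have hc : R c.hom := prop_of_repByAlgSpWith h𝒳 h𝒴 R hRb hR x hx G ζ' F c eF heF ⟨isoF⟩
  refine hsrc F G Z c a hc ?_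
  let Φ₂ : FibCat.fp ζ' x ⥤ᵇ FibCat.fp (FibCat.fpSnd z y) x :=
    fpMap (γ := BasedFunctor.id 𝒴) (α := e) (β := BasedFunctor.id 𝒳) (G' := ζ')
      (G := FibCat.fpSnd z y) (f' := x) (f := x) (Iso.refl _) (Iso.refl _)
  have hΦ₂ : FibCat.IsEquivOver Φ₂ := by
    have := id_full 𝒴
    have := id_faithful 𝒴
    exact isEquivOver_fpMap _ _ he (isEquivOver_id _)
  let E : AlgSt.ofSp F.obj ⥤ᵇ FibCat.fp z (BasedFunctor.comp x y) :=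
    BasedFunctor.comp eF (BasedFunctor.comp Φ₂ (paste2 z y x))
  have hE : FibCat.IsEquivOver E :=
    isEquivOver_comp _ _ heF (isEquivOver_comp _ _ hΦ₂ (isEquivOver_paste2 _ _ _))
  have i1 : BasedFunctor.comp E (FibCat.fpFst z (BasedFunctor.comp x y)) ≅
      BasedFunctor.comp (BasedFunctor.comp eF (FibCat.fpFst ζ' x))
        (BasedFunctor.comp e (FibCat.fpFst z y)) :=
    isoOfPointwise _ _ (fun v => ⟨𝟙 _, IsHomLift.id
      ((BasedFunctor.comp E (FibCat.fpFst z (BasedFunctor.comp x y))).w_obj v)⟩)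
  have i2 : BasedFunctor.comp (AlgSt.ofSpMap c.hom) (AlgSt.ofSpMap a.hom) ≅
      AlgSt.ofSpMap (c ≫ a).hom :=
    isoOfPointwise _ _ (fun v => ⟨𝟙 _, IsHomLift.id rfl⟩)
  exact prop_of_repByAlgSpWith h𝒳 h𝒵 P hPb hP (BasedFunctor.comp x y) h Z z F (c ≫ a) E hE
    ⟨i1 ≪≫ wr isoF _ ≪≫ wl _ iso ≪≫ i2⟩

theorem bc_isEtaleMor : BC (S := S) AlgSp.IsEtaleMor :=
  fun _ _ _ _ h1 h2 _ h4 _ _ _ _ sq h =>
    Groth.Agent.Lib.Helper15.isEtaleMor_of_isPullback h1 h2 h4 sq h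

theorem loc_isEtaleMor : AlgSp.IsLocalOnBase AlgSp.IsFppfCover (AlgSp.IsEtaleMor (S := S)) :=
  isLocalOnBase_fppf_of_fpqc (Groth.Agent.S10544.result S)

end Groth.Agent.Lib.Helper16.AlgStDC
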