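import Mathlib
import Groth.Agent.Lib.Helper16.AlgSt.CancelCover
import Groth.Agent.Lib.Helper28.AlgSt.SpaceCalc
import Groth.Agent.Lib.Helper16.SmoothLocalST
import Groth.Agent.Lib.Helper16.FpqcMono
import Groth.Agent.Lib.Helper10.LiftSqBC

/-!
# Basic tools for properties local on source and target (`LocQ`)
-/

set_option autoImplicit false
set_option backward.isDefEq.respectTransparency false
set_option backward.isDefEq.respectTransparency.types false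

universe v₁ u₁ v₂ u₂ v₃ u₃ v₄ u₄ v u

open CategoryTheory CategoryTheory.Limits AlgebraicGeometry Opposite

namespace Groth.Agent.Lib.Helper16.AlgStDC

open Groth.Agent.Lib.Helper10.Fib Groth.Agent.Lib.Helper10.StkPsh
open Groth.Agent.Lib.Helper10.AlgStRep Groth.Agent.Lib.Helper10.LiftSqBC
open Groth.Agent.Lib.Helper28.AlgSt.PshFun Groth.Agent.Lib.Helper28.AlgSt.PshPull
open Groth.Agent.Lib.Helper28.AlgSt.ClsPsh Groth.Agent.Lib.Helper28.AlgSt.Bridge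
open Groth.Agent.Lib.Helper28.AlgSt.Key Groth.Agent.Lib.Helper28.AlgSt.PropInst
open Groth.Agent.Lib.Helper28.AlgSt.Comp Groth.Agent.Lib.Helper28.AlgSt.Whisker
open Groth.Agent.Lib.Helper28.AlgSt.SpaceCalc Groth.Agent.Lib.Helper28.AlgSt.Chart

section Kappa

variable {C : Type u} [Category.{v} C] {𝒲 : BasedCategory.{v₁, u₁} C}
  {𝒳 : BasedCategory.{v₂, u₂} C} {𝒴 : BasedCategory.{v₃, u₃} C} {𝒵 : BasedCategory.{v₄, u₄} C}
  (G : 𝒲 ⥤ᵇ 𝒳) (g : 𝒳 ⥤ᵇ 𝒴) (f : 𝒵 ⥤ᵇ 𝒴)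

/-- The functor `𝒲 ×_𝒴 𝒵 ⟶ 𝒳 ×_𝒴 𝒵` induced by `G : 𝒲 ⟶ 𝒳`. -/
def kappa : FibCat.fp (BasedFunctor.comp G g) f ⥤ᵇ FibCat.fp g f :=
  FibCat.fpLift (BasedFunctor.comp (FibCat.fpFst (BasedFunctor.comp G g) f) G)
    (FibCat.fpSnd (BasedFunctor.comp G g) f) (FibCat.fpIso (BasedFunctor.comp G g) f)

/-- `paste1` followed by `kappa` is the second projection of `𝒲 ×_𝒳 (𝒳 ×_𝒴 𝒵)`. -/
def pasteKappaIso :
    BasedFunctor.comp (paste1 G g f) (kappa G g f) ≅ FibCat.fpSnd G (FibCat.fpFst g f) :=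
  fpTwoIso g f (A := BasedFunctor.comp (paste1 G g f) (kappa G g f))
    (B := FibCat.fpSnd G (FibCat.fpFst g f))
    (FibCat.fpIso G (FibCat.fpFst g f)) (Iso.refl _) (fun P => by
      show g.map P.obj.iso.hom ≫ P.obj.snd.obj.iso.hom =
        (g.map P.obj.iso.hom ≫ P.obj.snd.obj.iso.hom) ≫ f.map (𝟙 P.obj.snd.obj.snd)
      rw [show f.map (𝟙 P.obj.snd.obj.snd) = 𝟙 _ from f.toFunctor.map_id _, Category.comp_id])

end Kappa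

section KappaRep

variable {S : Scheme.{u}} {𝒲 𝒳 𝒴 𝒵 : AlgSt.Cat S}

theorem repByAlgSpWith_kappa (Q : MorphismProperty (AlgSp.Sp S)) (G : 𝒲 ⥤ᵇ 𝒳) (g : 𝒳 ⥤ᵇ 𝒴)
    (f : 𝒵 ⥤ᵇ 𝒴) (hG : AlgSt.RepByAlgSpWith Q G) : AlgSt.RepByAlgSpWith Q (kappa G g f) :=
  repByAlgSpWith_of_square Q (kappa G g f) (FibCat.fpSnd G (FibCat.fpFst g f)) (paste1 G g f)
    (BasedFunctor.id _) (isEquivOver_paste1 G g f) (isEquivOver_id _) (pasteKappaIso G g f).symm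
    (repByAlgSpWith_fpSnd Q G (FibCat.fpFst g f) hG)

end KappaRep

section Pres

variable {S : Scheme.{u}} {𝒜 : BasedCategory.{v₁, u₁} (Over S)}
  {ℬ : BasedCategory.{v₂, u₂} (Over S)}

/-- Morphisms of spaces with 2-isomorphic functors are equal. -/
theorem eq_of_ofSpMap_iso {A B : AlgSp.Space S} (m m' : A ⟶ B)
    (i : AlgSt.ofSpMap m.hom ≅ AlgSt.ofSpMap m'.hom) : m = m' := by
  apply ObjectProperty.hom_ext
  apply ObjectProperty.hom_ext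
  exact (pshMapOf_ofPshMap _).symm.trans ((pshMapOf_congr i.hom).trans (pshMapOf_ofPshMap _))

/-- Two presentations of the same category by algebraic spaces are isomorphic, compatibly with
a functor to a third category presented by an algebraic space. -/
theorem exists_iso_of_presentations {B₀ B₁ G₀ : AlgSp.Space S}
    (e₀ : AlgSt.ofSp B₀.obj ⥤ᵇ 𝒜) (he₀ : FibCat.IsEquivOver e₀)
    (e₁ : AlgSt.ofSp B₁.obj ⥤ᵇ 𝒜) (he₁ : FibCat.IsEquivOver e₁)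
    (eG : AlgSt.ofSp G₀.obj ⥤ᵇ ℬ) (heG : FibCat.IsEquivOver eG) (j : 𝒜 ⥤ᵇ ℬ)
    (p₀ : B₀ ⟶ G₀) (p₁ : B₁ ⟶ G₀)
    (iso₀ : BasedFunctor.comp e₀ j ≅ BasedFunctor.comp (AlgSt.ofSpMap p₀.hom) eG)
    (iso₁ : BasedFunctor.comp e₁ j ≅ BasedFunctor.comp (AlgSt.ofSpMap p₁.hom) eG) :
    ∃ θ : B₁ ⟶ B₀, IsIso θ.hom ∧ θ ≫ p₀ = p₁ := by
  obtain ⟨r₀, ⟨η₀⟩, ⟨ε₀⟩⟩ := he₀
  obtain ⟨rG, ⟨ηG⟩, ⟨εG⟩⟩ := heG
  let E : AlgSt.ofSp B₁.obj ⥤ᵇ AlgSt.ofSp B₀.obj := BasedFunctor.comp e₁ r₀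
  have hE : FibCat.IsEquivOver E := isEquivOver_comp _ _ he₁ ⟨e₀, ⟨ε₀⟩, ⟨η₀⟩⟩
  let θs : B₁.obj ⟶ B₀.obj := ObjectProperty.homMk (pshMapOf E)
  let θ : B₁ ⟶ B₀ := ObjectProperty.homMk θs
  have isoE : E ≅ AlgSt.ofSpMap θ.hom := isoPshMapOf E
  refine ⟨θ, ?_, ?_⟩
  · haveI : IsIso ((sheafToPresheaf (AlgSp.J S) (Type (u + 1))).map θs) := isIso_pshMapOf E hE
    exact isIso_of_reflects_iso θs (sheafToPresheaf (AlgSp.J S) (Type (u + 1)))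
  · apply eq_of_ofSpMap_iso
    have i0 : AlgSt.ofSpMap (θ ≫ p₀).hom ≅
        BasedFunctor.comp (AlgSt.ofSpMap θ.hom) (AlgSt.ofSpMap p₀.hom) :=
      isoOfPointwise _ _ (fun v => ⟨𝟙 _, IsHomLift.id rfl⟩)
    have i1 : BasedFunctor.comp (AlgSt.ofSpMap (θ ≫ p₀).hom) eG ≅
        BasedFunctor.comp (AlgSt.ofSpMap p₁.hom) eG :=
      wr i0 eG ≪≫
      (Iso.refl _ : BasedFunctor.comp (BasedFunctor.comp (AlgSt.ofSpMap θ.hom)
          (AlgSt.ofSpMap p₀.hom)) eG ≅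
        BasedFunctor.comp (AlgSt.ofSpMap θ.hom) (BasedFunctor.comp (AlgSt.ofSpMap p₀.hom) eG)) ≪≫
      wl (AlgSt.ofSpMap θ.hom) iso₀.symm ≪≫
      (Iso.refl _ : BasedFunctor.comp (AlgSt.ofSpMap θ.hom) (BasedFunctor.comp e₀ j) ≅
        BasedFunctor.comp (BasedFunctor.comp (AlgSt.ofSpMap θ.hom) e₀) j) ≪≫
      wr (wr isoE.symm e₀) j ≪≫
      (Iso.refl _ : BasedFunctor.comp (BasedFunctor.comp (BasedFunctor.comp e₁ r₀) e₀) j ≅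
        BasedFunctor.comp e₁ (BasedFunctor.comp (BasedFunctor.comp r₀ e₀) j)) ≪≫
      wl e₁ (wr ε₀ j) ≪≫
      (Iso.refl _ : BasedFunctor.comp e₁ (BasedFunctor.comp (BasedFunctor.id 𝒜) j) ≅
        BasedFunctor.comp e₁ j) ≪≫ iso₁
    exact (wl (AlgSt.ofSpMap (θ ≫ p₀).hom) ηG).symm ≪≫
      (Iso.refl _ : BasedFunctor.comp (AlgSt.ofSpMap (θ ≫ p₀).hom) (BasedFunctor.comp eG rG) ≅
        BasedFunctor.comp (BasedFunctor.comp (AlgSt.ofSpMap (θ ≫ p₀).hom) eG) rG) ≪≫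
      wr i1 rG ≪≫
      (Iso.refl _ : BasedFunctor.comp (BasedFunctor.comp (AlgSt.ofSpMap p₁.hom) eG) rG ≅
        BasedFunctor.comp (AlgSt.ofSpMap p₁.hom) (BasedFunctor.comp eG rG)) ≪≫
      wl (AlgSt.ofSpMap p₁.hom) ηG

theorem locP_smooth_of_isIso {X Y : AlgSp.Sp S} (hY : AlgSp.IsAlgSpace Y) (f : X ⟶ Y) [IsIso f] :
    AlgSp.LocP @Smooth f :=
  Groth.Agent.Lib.Helper16.locP_smooth_of_isEtaleMor hY
    (Groth.Agent.Lib.Helper16.isEtaleMor_of_isIso f)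

end Pres

end Groth.Agent.Lib.Helper16.AlgStDC
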