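import Mathlib
import Groth.Agent.Lib.Helper16.AlgSt.LocQBase
import Groth.Agent.S10566

/-!
# The core comparison of chart squares for properties local on source and target
-/

set_option autoImplicit false
set_option backward.isDefEq.respectTransparency false
set_option backward.isDefEq.respectTransparency.types false

universe u

open CategoryTheory CategoryTheory.Limits AlgebraicGeometry Opposite

namespace Groth.Agent.Lib.Helper16.AlgStDC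

open Groth.Agent.Lib.Helper10.Fib Groth.Agent.Lib.Helper10.StkPsh
open Groth.Agent.Lib.Helper10.AlgStRep Groth.Agent.Lib.Helper10.LiftSqBC
open Groth.Agent.Lib.Helper28.AlgSt.PshFun Groth.Agent.Lib.Helper28.AlgSt.PshPull
open Groth.Agent.Lib.Helper28.AlgSt.ClsPsh Groth.Agent.Lib.Helper28.AlgSt.Bridge
open Groth.Agent.Lib.Helper28.AlgSt.Key Groth.Agent.Lib.Helper28.AlgSt.PropInst
open Groth.Agent.Lib.Helper28.AlgSt.Comp Groth.Agent.Lib.Helper28.AlgSt.Whisker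
open Groth.Agent.Lib.Helper28.AlgSt.SpaceCalc Groth.Agent.Lib.Helper28.AlgSt.Chart

variable {S : Scheme.{u}} {𝒳 𝒴 : AlgSt.Cat S}

/-- The base change of `h : U ⟶ V` with `P` along the smooth `V ×_𝒴 V' ⟶ V` has `P`, for any
presentation of the base change. -/
theorem locQ_baseChange_pres {P : MorphismProperty (AlgSp.Sp S)} (hP : AlgSp.IsSmoothLocalST P)
    {U V V' G₀ B : AlgSp.Space S} (h : U ⟶ V) (hPh : P h.hom)
    (y : AlgSt.ofSp V.obj ⥤ᵇ 𝒴) (y' : AlgSt.ofSp V'.obj ⥤ᵇ 𝒴) (a₀ : G₀ ⟶ V)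
    (ha₀ : AlgSp.LocP @Smooth a₀.hom)
    (eG : AlgSt.ofSp G₀.obj ⥤ᵇ FibCat.fp y y') (heG : FibCat.IsEquivOver eG)
    (isoG : BasedFunctor.comp eG (FibCat.fpFst y y') ≅ AlgSt.ofSpMap a₀.hom)
    (e₁ : AlgSt.ofSp B.obj ⥤ᵇ FibCat.fp (BasedFunctor.comp (AlgSt.ofSpMap h.hom) y) y')
    (he₁ : FibCat.IsEquivOver e₁) (q : B ⟶ G₀)
    (isoq : BasedFunctor.comp e₁ (kappa (AlgSt.ofSpMap h.hom) y y') ≅
      BasedFunctor.comp (AlgSt.ofSpMap q.hom) eG) : P q.hom := by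
  have sq := IsPullback.of_hasPullback a₀.hom h.hom
  have hB₀ : AlgSp.IsAlgSpace (pullback a₀.hom h.hom) :=
    Groth.Agent.Lib.Helper16.isAlgSpace_of_isPullback G₀.property V.property.diag U.property sq
  let B₀ : AlgSp.Space S := ⟨pullback a₀.hom h.hom, hB₀⟩
  let p₀ : B₀ ⟶ G₀ := ObjectProperty.homMk (pullback.fst a₀.hom h.hom)
  have hp₀ : P p₀.hom :=
    hP.baseChange U.property V.property hB₀ G₀.property h.hom a₀.hom (pullback.fst a₀.hom h.hom)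
      (pullback.snd a₀.hom h.hom) sq.flip ha₀ hPh
  have sqP : IsPullback (pullback.fst a₀.hom h.hom).hom (pullback.snd a₀.hom h.hom).hom
      a₀.hom.hom h.hom.hom := sq.map (sheafToPresheaf (AlgSp.J S) (Type (u + 1)))
  let Φ₁ : AlgSt.ofSp B₀.obj ⥤ᵇ FibCat.fp (AlgSt.ofSpMap h.hom) (AlgSt.ofSpMap a₀.hom) :=
    pullFun sqP
  have hΦ₁ : FibCat.IsEquivOver Φ₁ := pullFun_isEquivOver sqP
  let Φ₂ : FibCat.fp (AlgSt.ofSpMap h.hom) (AlgSt.ofSpMap a₀.hom) ⥤ᵇ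
      FibCat.fp (AlgSt.ofSpMap h.hom) (FibCat.fpFst y y') :=
    fpMap (γ := BasedFunctor.id (AlgSt.ofSp V.obj)) (α := BasedFunctor.id (AlgSt.ofSp U.obj))
      (β := eG) (G' := AlgSt.ofSpMap h.hom) (G := AlgSt.ofSpMap h.hom)
      (f' := AlgSt.ofSpMap a₀.hom) (f := FibCat.fpFst y y') (Iso.refl _) isoG.symm
  have hΦ₂ : FibCat.IsEquivOver Φ₂ := by
    have := id_full (AlgSt.ofSp V.obj)
    have := id_faithful (AlgSt.ofSp V.obj)
    exact isEquivOver_fpMap _ _ (isEquivOver_id _) heG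
  let Φ₃ := paste1 (AlgSt.ofSpMap h.hom) y y'
  have hΦ₃ : FibCat.IsEquivOver Φ₃ := isEquivOver_paste1 _ _ _
  let e₀ := BasedFunctor.comp Φ₁ (BasedFunctor.comp Φ₂ Φ₃)
  have he₀ : FibCat.IsEquivOver e₀ := isEquivOver_comp _ _ hΦ₁ (isEquivOver_comp _ _ hΦ₂ hΦ₃)
  have j1 : BasedFunctor.comp Φ₁
      (FibCat.fpSnd (AlgSt.ofSpMap h.hom) (AlgSt.ofSpMap a₀.hom)) ≅ AlgSt.ofSpMap p₀.hom :=
    isoOfPointwise _ _ (fun v => ⟨𝟙 _, IsHomLift.id rfl⟩)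
  have iso₀ : BasedFunctor.comp e₀ (kappa (AlgSt.ofSpMap h.hom) y y') ≅
      BasedFunctor.comp (AlgSt.ofSpMap p₀.hom) eG :=
    (Iso.refl _ : BasedFunctor.comp e₀ (kappa (AlgSt.ofSpMap h.hom) y y') ≅
      BasedFunctor.comp Φ₁ (BasedFunctor.comp Φ₂
        (BasedFunctor.comp Φ₃ (kappa (AlgSt.ofSpMap h.hom) y y')))) ≪≫
    wl Φ₁ (wl Φ₂ (pasteKappaIso (AlgSt.ofSpMap h.hom) y y')) ≪≫
    (Iso.refl _ : BasedFunctor.comp Φ₁ (BasedFunctor.comp Φ₂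
        (FibCat.fpSnd (AlgSt.ofSpMap h.hom) (FibCat.fpFst y y'))) ≅
      BasedFunctor.comp (BasedFunctor.comp Φ₁
        (FibCat.fpSnd (AlgSt.ofSpMap h.hom) (AlgSt.ofSpMap a₀.hom))) eG) ≪≫
    wr j1 eG
  obtain ⟨θ, hθiso, hθ⟩ := exists_iso_of_presentations e₀ he₀ e₁ he₁ eG heG
    (kappa (AlgSt.ofSpMap h.hom) y y') p₀ q iso₀ isoq
  rw [← hθ]
  haveI := hθiso
  exact hP.precomp B.property hB₀ G₀.property θ.hom p₀.hom (locP_smooth_of_isIso hB₀ θ.hom) hp₀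

/-- The core comparison: a property smooth local on source and target, known on one square of
space charts with surjective source chart, holds on every square of space charts for which the
induced morphism to the fibre product is smooth. -/
theorem locQ_core {P : MorphismProperty (AlgSp.Sp S)} (hP : AlgSp.IsSmoothLocalST P)
    (h𝒳 : FibCat.IsFibGrpd 𝒳.p) (h𝒴 : FibCat.IsFibGrpd 𝒴.p) (f : 𝒳 ⥤ᵇ 𝒴)
    {U V U' V' : AlgSp.Space S}
    (x : AlgSt.ofSp U.obj ⥤ᵇ 𝒳) (y : AlgSt.ofSp V.obj ⥤ᵇ 𝒴) (h : U ⟶ V)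
    (α : BasedFunctor.comp x f ≅ BasedFunctor.comp (AlgSt.ofSpMap h.hom) y)
    (hx₁ : AlgSt.RepByAlgSpWith (AlgSp.LocP @Smooth) x)
    (hx₂ : AlgSt.RepByAlgSpWith AlgSp.IsSurjectiveMor x)
    (hy : AlgSt.RepByAlgSpWith (AlgSp.LocP @Smooth) y) (hPh : P h.hom)
    (x' : AlgSt.ofSp U'.obj ⥤ᵇ 𝒳) (y' : AlgSt.ofSp V'.obj ⥤ᵇ 𝒴) (h' : U' ⟶ V')
    (α' : BasedFunctor.comp x' f ≅ BasedFunctor.comp (AlgSt.ofSpMap h'.hom) y')
    (hy' : AlgSt.RepByAlgSpWith (AlgSp.LocP @Smooth) y')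
    (hu' : AlgSt.RepByAlgSpWith (AlgSp.LocP @Smooth)
      (FibCat.fpLift x' (AlgSt.ofSpMap h'.hom) α')) : P h'.hom := by
  have gS := good_smooth (S := S)
  have gJ := good_surjective (S := S)
  have hU : FibCat.IsFibGrpd (AlgSt.ofSp U.obj).p := Stk.isFibGrpd_ofPsh _
  have hV : FibCat.IsFibGrpd (AlgSt.ofSp V.obj).p := Stk.isFibGrpd_ofPsh _
  have hU' : FibCat.IsFibGrpd (AlgSt.ofSp U'.obj).p := Stk.isFibGrpd_ofPsh _
  have hV' : FibCat.IsFibGrpd (AlgSt.ofSp V'.obj).p := Stk.isFibGrpd_ofPsh _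
  have hy'1 : AlgSt.RepByAlgSp1 y' := repByAlgSp1_of_with _ _ hy'
  -- Step 1: `G₀ = V ×_𝒴 V'`
  obtain ⟨G₀, a₀, eG, heG, ⟨isoG⟩⟩ := exists_space_fp hV' h𝒴 y' hy'1 V y
  have ha₀ : AlgSp.LocP @Smooth a₀.hom :=
    prop_of_repByAlgSpWith hV' h𝒴 _ gS.bc gS.loc y' hy' V y G₀ a₀ eG heG ⟨isoG⟩
  obtain ⟨b₀, ⟨isob⟩⟩ := exists_mapOf (eA := eG) (eB := BasedFunctor.id (AlgSt.ofSp V'.obj))
    (isEquivOver_id _) (FibCat.fpSnd y y')
  have hb₀ : AlgSp.LocP @Smooth b₀.hom :=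
    prop_map_of_repByAlgSpWith _ gS.bc gS.loc eG (BasedFunctor.id _) heG (isEquivOver_id _)
      (FibCat.fpSnd y y') b₀ isob (repByAlgSpWith_fpSnd _ y y' hy)
  -- Step 2: `B = U ×_𝒴 V'`
  obtain ⟨B, p₁, eB, heB, ⟨isoB⟩⟩ := exists_space_fp hV' h𝒴 y' hy'1 U (BasedFunctor.comp x f)
  let β₀ : AlgSt.ofSp B.obj ⥤ᵇ FibCat.fp f y' := BasedFunctor.comp eB (kappa x f y')
  have hβ₁ : AlgSt.RepByAlgSpWith (AlgSp.LocP @Smooth) β₀ :=
    repByAlgSpWith_equiv_comp _ eB heB (kappa x f y') (repByAlgSpWith_kappa _ x f y' hx₁)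
  have hβ₂ : AlgSt.RepByAlgSpWith AlgSp.IsSurjectiveMor β₀ :=
    repByAlgSpWith_equiv_comp _ eB heB (kappa x f y') (repByAlgSpWith_kappa _ x f y' hx₂)
  -- Step 3: the morphism `q : B ⟶ G₀`, a base change of `h`
  let Ξ : FibCat.fp (BasedFunctor.comp x f) y' ⥤ᵇ
      FibCat.fp (BasedFunctor.comp (AlgSt.ofSpMap h.hom) y) y' :=
    fpMap (γ := BasedFunctor.id 𝒴) (α := BasedFunctor.id (AlgSt.ofSp U.obj))
      (β := BasedFunctor.id (AlgSt.ofSp V'.obj)) (G' := BasedFunctor.comp x f)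
      (G := BasedFunctor.comp (AlgSt.ofSpMap h.hom) y) (f' := y') (f := y') α (Iso.refl _)
  have hΞ : FibCat.IsEquivOver Ξ := by
    have := id_full 𝒴
    have := id_faithful 𝒴
    exact isEquivOver_fpMap _ _ (isEquivOver_id _) (isEquivOver_id _)
  let e₁ : AlgSt.ofSp B.obj ⥤ᵇ FibCat.fp (BasedFunctor.comp (AlgSt.ofSpMap h.hom) y) y' :=
    BasedFunctor.comp eB Ξ
  have he₁ : FibCat.IsEquivOver e₁ := isEquivOver_comp _ _ heB hΞ
  obtain ⟨q, ⟨isoq⟩⟩ := exists_mapOf (eA := e₁) (eB := eG) heG (kappa (AlgSt.ofSpMap h.hom) y y')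
  have hPq : P q.hom := locQ_baseChange_pres hP h hPh y y' a₀ ha₀ eG heG isoG e₁ he₁ q isoq
  -- Step 4: `A = U' ×_{𝒳'} B`
  have hu'1 : AlgSt.RepByAlgSp1 (FibCat.fpLift x' (AlgSt.ofSpMap h'.hom) α') :=
    repByAlgSp1_of_with _ _ hu'
  have h𝒳' : FibCat.IsFibGrpd (FibCat.fp f y').p := isFibGrpd_fp f y' h𝒳 hV' h𝒴
  obtain ⟨A, c, eA, heA, ⟨isoA⟩⟩ := exists_space_fp hU' h𝒳'
    (FibCat.fpLift x' (AlgSt.ofSpMap h'.hom) α') hu'1 B β₀
  have hc : AlgSp.LocP @Smooth c.hom :=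
    prop_of_repByAlgSpWith hU' h𝒳' _ gS.bc gS.loc (FibCat.fpLift x' (AlgSt.ofSpMap h'.hom) α') hu'
      B β₀ A c eA heA ⟨isoA⟩
  obtain ⟨a, ⟨isoa⟩⟩ := exists_mapOf (eA := eA) (eB := BasedFunctor.id (AlgSt.ofSp U'.obj))
    (isEquivOver_id _) (FibCat.fpSnd β₀ (FibCat.fpLift x' (AlgSt.ofSpMap h'.hom) α'))
  have ha₁ : AlgSp.LocP @Smooth a.hom :=
    prop_map_of_repByAlgSpWith _ gS.bc gS.loc eA (BasedFunctor.id _) heA (isEquivOver_id _)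
      (FibCat.fpSnd β₀ (FibCat.fpLift x' (AlgSt.ofSpMap h'.hom) α')) a isoa
      (repByAlgSpWith_fpSnd _ β₀ _ hβ₁)
  have ha₂ : AlgSp.IsSurjectiveMor a.hom :=
    prop_map_of_repByAlgSpWith _ gJ.bc gJ.loc eA (BasedFunctor.id _) heA (isEquivOver_id _)
      (FibCat.fpSnd β₀ (FibCat.fpLift x' (AlgSt.ofSpMap h'.hom) α')) a isoa
      (repByAlgSpWith_fpSnd _ β₀ _ hβ₂)
  -- Step 5: commutativity
  let u' := FibCat.fpLift x' (AlgSt.ofSpMap h'.hom) α'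
  let T : AlgSt.ofSp A.obj ⥤ᵇ AlgSt.ofSp V'.obj :=
    BasedFunctor.comp (AlgSt.ofSpMap c.hom)
      (BasedFunctor.comp eB (FibCat.fpSnd (BasedFunctor.comp x f) y'))
  have L : AlgSt.ofSpMap (a ≫ h').hom ≅ T :=
    (isoOfPointwise (AlgSt.ofSpMap (a ≫ h').hom)
      (BasedFunctor.comp (AlgSt.ofSpMap a.hom) (AlgSt.ofSpMap h'.hom))
      (fun v => ⟨𝟙 _, IsHomLift.id rfl⟩)) ≪≫
    wr isoa.symm (AlgSt.ofSpMap h'.hom) ≪≫
    (Iso.refl _ : BasedFunctor.comp (BasedFunctor.comp eA (FibCat.fpSnd β₀ u'))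
        (AlgSt.ofSpMap h'.hom) ≅
      BasedFunctor.comp eA (BasedFunctor.comp
        (BasedFunctor.comp (FibCat.fpSnd β₀ u') u') (FibCat.fpSnd f y'))) ≪≫
    wl eA (wr (FibCat.fpIso β₀ u').symm (FibCat.fpSnd f y')) ≪≫
    (Iso.refl _ : BasedFunctor.comp eA (BasedFunctor.comp
        (BasedFunctor.comp (FibCat.fpFst β₀ u') β₀) (FibCat.fpSnd f y')) ≅
      BasedFunctor.comp (BasedFunctor.comp eA (FibCat.fpFst β₀ u'))
        (BasedFunctor.comp eB (FibCat.fpSnd (BasedFunctor.comp x f) y'))) ≪≫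
    wr isoA (BasedFunctor.comp eB (FibCat.fpSnd (BasedFunctor.comp x f) y'))
  have R : AlgSt.ofSpMap ((c ≫ q) ≫ b₀).hom ≅ T :=
    (isoOfPointwise (AlgSt.ofSpMap ((c ≫ q) ≫ b₀).hom)
      (BasedFunctor.comp (AlgSt.ofSpMap c.hom)
        (BasedFunctor.comp (AlgSt.ofSpMap q.hom) (AlgSt.ofSpMap b₀.hom)))
      (fun v => ⟨𝟙 _, IsHomLift.id rfl⟩)) ≪≫
    wl (AlgSt.ofSpMap c.hom)
      (wl (AlgSt.ofSpMap q.hom) isob.symm ≪≫
        (Iso.refl _ : BasedFunctor.comp (AlgSt.ofSpMap q.hom)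
            (BasedFunctor.comp eG (FibCat.fpSnd y y')) ≅
          BasedFunctor.comp (BasedFunctor.comp (AlgSt.ofSpMap q.hom) eG) (FibCat.fpSnd y y')) ≪≫
        wr isoq.symm (FibCat.fpSnd y y') ≪≫
        (Iso.refl _ : BasedFunctor.comp (BasedFunctor.comp e₁ (kappa (AlgSt.ofSpMap h.hom) y y'))
            (FibCat.fpSnd y y') ≅
          BasedFunctor.comp eB (FibCat.fpSnd (BasedFunctor.comp x f) y')))
  have hcomm : a ≫ h' = (c ≫ q) ≫ b₀ := eq_of_ofSpMap_iso _ _ (L ≪≫ R.symm)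
  -- Step 6
  have hk : P (c ≫ q).hom := hP.precomp A.property B.property G₀.property c.hom q.hom hc hPq
  exact ((Groth.Agent.S10566.result hP h').1).2 ⟨A, G₀, a, b₀, c ≫ q, ha₁, hb₀, ha₂, hcomm, hk⟩

end Groth.Agent.Lib.Helper16.AlgStDC
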