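import Mathlib
import Groth.Agent.Lib.Helper16.AlgSt.LocQCore
import Groth.Agent.Lib.Helper28.AlgSt.ChartOver
import Groth.Agent.Lib.Helper10.AlgStChartInt
import Groth.Agent.Lib.Helper10.AlgStPtsTop

/-!
# Scheme charts versus space charts for `LocQ`
-/

set_option autoImplicit false
set_option backward.isDefEq.respectTransparency false
set_option backward.isDefEq.respectTransparency.types false

universe u

open CategoryTheory CategoryTheory.Limits AlgebraicGeometry Opposite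

namespace Groth.Agent.Lib.Helper16.AlgStDC

open Groth.Agent.Lib.Helper10.Fib Groth.Agent.Lib.Helper10.StkPsh
open Groth.Agent.Lib.Helper10.AlgStRep Groth.Agent.Lib.Helper10.LiftSqBC
open Groth.Agent.Lib.Helper28.AlgSt.PshFun Groth.Agent.Lib.Helper28.AlgSt.PshPull
open Groth.Agent.Lib.Helper28.AlgSt.ClsPsh Groth.Agent.Lib.Helper28.AlgSt.Bridge
open Groth.Agent.Lib.Helper28.AlgSt.Key Groth.Agent.Lib.Helper28.AlgSt.PropInst
open Groth.Agent.Lib.Helper28.AlgSt.Comp Groth.Agent.Lib.Helper28.AlgSt.Whisker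
open Groth.Agent.Lib.Helper28.AlgSt.SpaceCalc Groth.Agent.Lib.Helper28.AlgSt.Chart
open Groth.Agent.Lib.Helper28.AlgSt.ChartOver Groth.Agent.Lib.Helper28.AlgSt.FpStack
open Groth.Agent.Lib.Helper28.AlgSt.DiagComp Groth.Agent.Lib.Helper28.AlgSt.Descent

variable {S : Scheme.{u}} {𝒳 𝒴 : AlgSt.Cat S}

/-- The algebraic space of a scheme over `S`. -/
abbrev spOf (U : Over S) : AlgSp.Space S := ⟨(AlgSp.yon S).obj U, AlgSp.IsAlgSpace.yon_obj U⟩

/-- The morphism of algebraic spaces of a morphism of schemes over `S`. -/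
abbrev spHom {U V : Over S} (h : U ⟶ V) : spOf U ⟶ spOf V :=
  ObjectProperty.homMk ((AlgSp.yon S).map h)

/-- Naturality of `toOverCat`. -/
def nuIso {U V : Over S} (h : U ⟶ V) :
    BasedFunctor.comp (AlgSt.toOverCat U) (AlgSt.overMap h) ≅
      BasedFunctor.comp (AlgSt.ofSpMap ((AlgSp.yon S).map h)) (AlgSt.toOverCat V) :=
  Iso.refl _

section ToSpace

variable (f : 𝒳 ⥤ᵇ 𝒴) {U V : Over S} (x : FibCat.overCat U ⥤ᵇ 𝒳) (y : FibCat.overCat V ⥤ᵇ 𝒴)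
  (h : U ⟶ V) (α : BasedFunctor.comp x f ≅ BasedFunctor.comp (AlgSt.overMap h) y)

/-- The 2-isomorphism of the square of space charts attached to a square of scheme charts. -/
def alphaSp : BasedFunctor.comp (BasedFunctor.comp (AlgSt.toOverCat U) x) f ≅
    BasedFunctor.comp (AlgSt.ofSpMap (spHom h).hom) (BasedFunctor.comp (AlgSt.toOverCat V) y) :=
  wl (AlgSt.toOverCat U) α

/-- `𝒳 ×_𝒴 h_V ⟶ 𝒳 ×_𝒴 (Sch/V)`. -/
def tauFp : FibCat.fp f (BasedFunctor.comp (AlgSt.toOverCat V) y) ⥤ᵇ FibCat.fp f y :=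
  fpMap (γ := BasedFunctor.id 𝒴) (α := BasedFunctor.id 𝒳) (β := AlgSt.toOverCat V) (G' := f)
    (G := f) (f' := BasedFunctor.comp (AlgSt.toOverCat V) y) (f := y) (Iso.refl _) (Iso.refl _)

theorem isEquivOver_tauFp : FibCat.IsEquivOver (tauFp f y) := by
  have := id_full 𝒴
  have := id_faithful 𝒴
  exact isEquivOver_fpMap _ _ (isEquivOver_id _) (isEquivOver_toOverCat V)

def liftSpIso :
    BasedFunctor.comp (FibCat.fpLift (BasedFunctor.comp (AlgSt.toOverCat U) x)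
      (AlgSt.ofSpMap (spHom h).hom) (alphaSp f x y h α)) (tauFp f y) ≅
    BasedFunctor.comp (AlgSt.toOverCat U) (FibCat.fpLift x (AlgSt.overMap h) α) :=
  fpTwoIso f y
    (A := BasedFunctor.comp (FibCat.fpLift (BasedFunctor.comp (AlgSt.toOverCat U) x)
      (AlgSt.ofSpMap (spHom h).hom) (alphaSp f x y h α)) (tauFp f y))
    (B := BasedFunctor.comp (AlgSt.toOverCat U) (FibCat.fpLift x (AlgSt.overMap h) α))
    (Iso.refl _) (Iso.refl _) (fun v => by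
      show f.map (𝟙 _) ≫ cmp α.hom ((AlgSt.toOverCat U).obj v) =
        (𝟙 _ ≫ cmp α.hom ((AlgSt.toOverCat U).obj v) ≫ 𝟙 _) ≫ y.map (𝟙 _)
      simp
      exact (Category.comp_id _).symm)

theorem repByAlgSpWith_liftSp (Q : MorphismProperty (AlgSp.Sp S))
    (hu : AlgSt.RepByAlgSpWith Q (FibCat.fpLift x (AlgSt.overMap h) α)) :
    AlgSt.RepByAlgSpWith Q (FibCat.fpLift (BasedFunctor.comp (AlgSt.toOverCat U) x)
      (AlgSt.ofSpMap (spHom h).hom) (alphaSp f x y h α)) :=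
  repByAlgSpWith_of_square' Q (FibCat.fpLift x (AlgSt.overMap h) α) _ (AlgSt.toOverCat U)
    (tauFp f y) (isEquivOver_toOverCat U) (isEquivOver_tauFp f y) (liftSpIso f x y h α) hu

end ToSpace

/-- A property smooth local on source and target which holds on one square of smooth scheme
charts with surjective source chart holds on every good square of smooth scheme charts. -/
theorem locQ_all_squares {P : MorphismProperty (AlgSp.Sp S)} (hP : AlgSp.IsSmoothLocalST P)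
    (h𝒳 : FibCat.IsFibGrpd 𝒳.p) (h𝒴 : FibCat.IsFibGrpd 𝒴.p) (f : 𝒳 ⥤ᵇ 𝒴)
    (hQ : AlgSt.LocQ P f) (U' V' : Over S) (x' : FibCat.overCat U' ⥤ᵇ 𝒳)
    (y' : FibCat.overCat V' ⥤ᵇ 𝒴) (h' : U' ⟶ V')
    (α' : BasedFunctor.comp x' f ≅ BasedFunctor.comp (AlgSt.overMap h') y')
    (hy' : AlgSt.RepByAlgSpWith (AlgSp.LocP @Smooth) y')
    (hu' : AlgSt.RepByAlgSpWith (AlgSp.LocP @Smooth) (FibCat.fpLift x' (AlgSt.overMap h') α')) :
    P ((AlgSp.yon S).map h') := by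
  obtain ⟨U, V, x, y, h, α, hx₁, hx₂, hy, hPh⟩ := hQ
  exact locQ_core hP h𝒳 h𝒴 f (U := spOf U) (V := spOf V) (U' := spOf U') (V' := spOf V')
    (BasedFunctor.comp (AlgSt.toOverCat U) x) (BasedFunctor.comp (AlgSt.toOverCat V) y) (spHom h)
    (alphaSp f x y h α)
    (repByAlgSpWith_equiv_comp _ _ (isEquivOver_toOverCat U) x hx₁)
    (repByAlgSpWith_equiv_comp _ _ (isEquivOver_toOverCat U) x hx₂)
    (repByAlgSpWith_equiv_comp _ _ (isEquivOver_toOverCat V) y hy) hPh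
    (BasedFunctor.comp (AlgSt.toOverCat U') x') (BasedFunctor.comp (AlgSt.toOverCat V') y')
    (spHom h') (alphaSp f x' y' h' α')
    (repByAlgSpWith_equiv_comp _ _ (isEquivOver_toOverCat V') y' hy')
    (repByAlgSpWith_liftSp f x' y' h' α' _ hu')

/-- Over any smooth scheme chart of the target there is a good square. -/
theorem exists_good_square (h𝒳 : AlgSt.IsAlgStack Scheme.fppfPrecoverage 𝒳)
    (h𝒴 : AlgSt.IsAlgStack Scheme.fppfPrecoverage 𝒴) (f : 𝒳 ⥤ᵇ 𝒴) (V : Over S)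
    (y : FibCat.overCat V ⥤ᵇ 𝒴) (hy : AlgSt.RepByAlgSpWith (AlgSp.LocP @Smooth) y) :
    ∃ (U : Over S) (x : FibCat.overCat U ⥤ᵇ 𝒳) (h : U ⟶ V)
      (α : BasedFunctor.comp x f ≅ BasedFunctor.comp (AlgSt.overMap h) y),
      AlgSt.RepByAlgSpWith (AlgSp.LocP @Smooth) x ∧
      AlgSt.RepByAlgSpWith (AlgSp.LocP @Smooth) (FibCat.fpLift x (AlgSt.overMap h) α) ∧
      AlgSt.RepByAlgSpWith AlgSp.IsSurjectiveMor (FibCat.fpLift x (AlgSt.overMap h) α) ∧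
      (AlgSt.RepByAlgSpWith AlgSp.IsSurjectiveMor y →
        AlgSt.RepByAlgSpWith AlgSp.IsSurjectiveMor x) := by
  have hP : AlgSt.IsAlgStack Scheme.fppfPrecoverage (FibCat.fp f y) :=
    isAlgStack_fp h𝒴.isStack h𝒴.diag h𝒳
      (H10PT.isAlgStack_overCat V) f y
  obtain ⟨U, x', h1, h2⟩ := hP.atlas
  have hO := isFibGrpd_overForget U
  have hfp := hP.isStack.1
  let H : FibCat.overCat U ⥤ᵇ FibCat.overCat V := BasedFunctor.comp x' (FibCat.fpSnd f y)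
  let x : FibCat.overCat U ⥤ᵇ 𝒳 := BasedFunctor.comp x' (FibCat.fpFst f y)
  let α : BasedFunctor.comp x f ≅ BasedFunctor.comp (AlgSt.overMap (homOfOver H)) y :=
    wl x' (FibCat.fpIso f y) ≪≫ wr (isoOverMap H) y
  have isoU : FibCat.fpLift x (AlgSt.overMap (homOfOver H)) α ≅ x' :=
    fpTwoIso f y (A := FibCat.fpLift x (AlgSt.overMap (homOfOver H)) α) (B := x')
      (Iso.refl _) (isoOverMap H).symm (fun w => by
        have hι : cmp (isoOverMap H).hom w ≫ cmp (isoOverMap H).inv w = 𝟙 _ :=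
          app_eq (isoOverMap H).hom_inv_id w
        show f.map (𝟙 _) ≫ (x'.obj w).obj.iso.hom =
          ((x'.obj w).obj.iso.hom ≫ y.map (cmp (isoOverMap H).hom w)) ≫
            y.map (cmp (isoOverMap H).inv w)
        rw [Category.assoc, ← y.toFunctor.map_comp, hι]
        simp
        exact ((congrArg (fun t => (x'.obj w).obj.iso.hom ≫ t) (y.toFunctor.map_id _)).trans
          (Category.comp_id _)).symm)
  refine ⟨U, x, homOfOver H, α, ?_, repByAlgSpWith_iso _ isoU h1, repByAlgSpWith_iso _ isoU h2, ?_⟩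
  · exact repByAlgSpWith_comp_smooth hO hfp x' _ h1 (repByAlgSpWith_fpFst _ y f hy)
  · intro hys
    exact repByAlgSpWith_comp_surjective hO hfp x' _ h2 (repByAlgSpWith_fpFst _ y f hys)

/-- Space-chart witness, scheme-chart conclusion. -/
theorem locQ_all_squares_sp {P : MorphismProperty (AlgSp.Sp S)} (hP : AlgSp.IsSmoothLocalST P)
    (h𝒳 : FibCat.IsFibGrpd 𝒳.p) (h𝒴 : FibCat.IsFibGrpd 𝒴.p) (f : 𝒳 ⥤ᵇ 𝒴)
    {U V : AlgSp.Space S} (x : AlgSt.ofSp U.obj ⥤ᵇ 𝒳) (y : AlgSt.ofSp V.obj ⥤ᵇ 𝒴) (h : U ⟶ V)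
    (α : BasedFunctor.comp x f ≅ BasedFunctor.comp (AlgSt.ofSpMap h.hom) y)
    (hx₁ : AlgSt.RepByAlgSpWith (AlgSp.LocP @Smooth) x)
    (hx₂ : AlgSt.RepByAlgSpWith AlgSp.IsSurjectiveMor x)
    (hy : AlgSt.RepByAlgSpWith (AlgSp.LocP @Smooth) y) (hPh : P h.hom)
    (U' V' : Over S) (x' : FibCat.overCat U' ⥤ᵇ 𝒳)
    (y' : FibCat.overCat V' ⥤ᵇ 𝒴) (h' : U' ⟶ V')
    (α' : BasedFunctor.comp x' f ≅ BasedFunctor.comp (AlgSt.overMap h') y')
    (hy' : AlgSt.RepByAlgSpWith (AlgSp.LocP @Smooth) y')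
    (hu' : AlgSt.RepByAlgSpWith (AlgSp.LocP @Smooth) (FibCat.fpLift x' (AlgSt.overMap h') α')) :
    P ((AlgSp.yon S).map h') :=
  locQ_core hP h𝒳 h𝒴 f (U' := spOf U') (V' := spOf V') x y h α hx₁ hx₂ hy hPh
    (BasedFunctor.comp (AlgSt.toOverCat U') x') (BasedFunctor.comp (AlgSt.toOverCat V') y')
    (spHom h') (alphaSp f x' y' h' α')
    (repByAlgSpWith_equiv_comp _ _ (isEquivOver_toOverCat V') y' hy')
    (repByAlgSpWith_liftSp f x' y' h' α' _ hu')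

/-- A square of space charts with `P` gives `LocQ P f`. -/
theorem locQ_of_space_square {P : MorphismProperty (AlgSp.Sp S)} (hP : AlgSp.IsSmoothLocalST P)
    (h𝒳 : AlgSt.IsAlgStack Scheme.fppfPrecoverage 𝒳)
    (h𝒴 : AlgSt.IsAlgStack Scheme.fppfPrecoverage 𝒴) (f : 𝒳 ⥤ᵇ 𝒴)
    {U V : AlgSp.Space S} (x : AlgSt.ofSp U.obj ⥤ᵇ 𝒳) (y : AlgSt.ofSp V.obj ⥤ᵇ 𝒴) (h : U ⟶ V)
    (α : BasedFunctor.comp x f ≅ BasedFunctor.comp (AlgSt.ofSpMap h.hom) y)
    (hx₁ : AlgSt.RepByAlgSpWith (AlgSp.LocP @Smooth) x)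
    (hx₂ : AlgSt.RepByAlgSpWith AlgSp.IsSurjectiveMor x)
    (hy : AlgSt.RepByAlgSpWith (AlgSp.LocP @Smooth) y) (hPh : P h.hom) : AlgSt.LocQ P f := by
  obtain ⟨V₀, y₀, hy₁, hy₂⟩ := h𝒴.atlas
  obtain ⟨U₀, x₀, h₀, α₀, hx₀, hu₀, -, hxs⟩ := exists_good_square h𝒳 h𝒴 f V₀ y₀ hy₁
  exact ⟨U₀, V₀, x₀, y₀, h₀, α₀, hx₀, hxs hy₂, hy₁,
    locQ_all_squares_sp hP h𝒳.isStack.1 h𝒴.isStack.1 f x y h α hx₁ hx₂ hy hPh U₀ V₀ x₀ y₀ h₀ α₀
      hy₁ hu₀⟩

/-- `LocQ P f` gives a square of space charts with `P`. -/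
theorem space_square_of_locQ {P : MorphismProperty (AlgSp.Sp S)} (f : 𝒳 ⥤ᵇ 𝒴)
    (hQ : AlgSt.LocQ P f) :
    ∃ (U V : AlgSp.Space S) (x : AlgSt.ofSp U.obj ⥤ᵇ 𝒳) (y : AlgSt.ofSp V.obj ⥤ᵇ 𝒴) (h : U ⟶ V)
      (_ : BasedFunctor.comp x f ≅ BasedFunctor.comp (AlgSt.ofSpMap h.hom) y),
      AlgSt.RepByAlgSpWith (AlgSp.LocP @Smooth) x ∧ AlgSt.RepByAlgSpWith AlgSp.IsSurjectiveMor x ∧
      AlgSt.RepByAlgSpWith (AlgSp.LocP @Smooth) y ∧ P h.hom := by
  obtain ⟨U, V, x, y, h, α, hx₁, hx₂, hy, hPh⟩ := hQ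
  exact ⟨spOf U, spOf V, BasedFunctor.comp (AlgSt.toOverCat U) x,
    BasedFunctor.comp (AlgSt.toOverCat V) y, spHom h, alphaSp f x y h α,
    repByAlgSpWith_equiv_comp _ _ (isEquivOver_toOverCat U) x hx₁,
    repByAlgSpWith_equiv_comp _ _ (isEquivOver_toOverCat U) x hx₂,
    repByAlgSpWith_equiv_comp _ _ (isEquivOver_toOverCat V) y hy, hPh⟩

section SpaceMap

/-- The identity functor of the category of an algebraic space is representable with `Q`, as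
soon as identities of algebraic spaces have `Q`. -/
theorem repByAlgSpWith_id_ofSp (Q : MorphismProperty (AlgSp.Sp S)) (hQb : BC Q) (F : AlgSp.Space S)
    (hQ : Q (𝟙 F.obj)) : AlgSt.RepByAlgSpWith Q (BasedFunctor.id (AlgSt.ofSp F.obj)) :=
  repByAlgSpWith_iso Q
    (isoOfPointwise (BasedFunctor.id (AlgSt.ofSp F.obj)) (AlgSt.ofSpMap (𝟙 F : F ⟶ F).hom)
      (fun v => ⟨𝟙 _, IsHomLift.id rfl⟩))
    (repByAlgSpWith_ofSpMap_of_prop Q hQb (𝟙 F) hQ)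

theorem locQ_ofSpMap_iff {P : MorphismProperty (AlgSp.Sp S)} (hP : AlgSp.IsSmoothLocalST P)
    {F G : AlgSp.Space S} (a : F ⟶ G) : AlgSt.LocQ P (AlgSt.ofSpMap a.hom) ↔ P a.hom := by
  have gS := good_smooth (S := S)
  have gJ := good_surjective (S := S)
  constructor
  · intro hQ
    obtain ⟨U, V, x, y, h, α, hx₁, hx₂, hy, hPh⟩ := space_square_of_locQ _ hQ
    obtain ⟨mx, ⟨ix⟩⟩ := exists_mapOf (eA := BasedFunctor.id (AlgSt.ofSp U.obj))
      (eB := BasedFunctor.id (AlgSt.ofSp F.obj)) (isEquivOver_id _) x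
    obtain ⟨my, ⟨iy⟩⟩ := exists_mapOf (eA := BasedFunctor.id (AlgSt.ofSp V.obj))
      (eB := BasedFunctor.id (AlgSt.ofSp G.obj)) (isEquivOver_id _) y
    have hmx₁ : AlgSp.LocP @Smooth mx.hom :=
      prop_map_of_repByAlgSpWith _ gS.bc gS.loc (BasedFunctor.id _) (BasedFunctor.id _)
        (isEquivOver_id _) (isEquivOver_id _) x mx ix hx₁
    have hmx₂ : AlgSp.IsSurjectiveMor mx.hom :=
      prop_map_of_repByAlgSpWith _ gJ.bc gJ.loc (BasedFunctor.id _) (BasedFunctor.id _)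
        (isEquivOver_id _) (isEquivOver_id _) x mx ix hx₂
    have hmy : AlgSp.LocP @Smooth my.hom :=
      prop_map_of_repByAlgSpWith _ gS.bc gS.loc (BasedFunctor.id _) (BasedFunctor.id _)
        (isEquivOver_id _) (isEquivOver_id _) y my iy hy
    have ix' : x ≅ AlgSt.ofSpMap mx.hom := ix
    have iy' : y ≅ AlgSt.ofSpMap my.hom := iy
    have hcomm : mx ≫ a = h ≫ my := by
      apply eq_of_ofSpMap_iso
      exact (isoOfPointwise (AlgSt.ofSpMap (mx ≫ a).hom)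
          (BasedFunctor.comp (AlgSt.ofSpMap mx.hom) (AlgSt.ofSpMap a.hom))
          (fun v => ⟨𝟙 _, IsHomLift.id rfl⟩)) ≪≫
        wr ix'.symm (AlgSt.ofSpMap a.hom) ≪≫ α ≪≫ wl (AlgSt.ofSpMap h.hom) iy' ≪≫
        (isoOfPointwise (BasedFunctor.comp (AlgSt.ofSpMap h.hom) (AlgSt.ofSpMap my.hom))
          (AlgSt.ofSpMap (h ≫ my).hom) (fun v => ⟨𝟙 _, IsHomLift.id rfl⟩))
    exact ((Groth.Agent.S10566.result hP a).1).2 ⟨U, V, mx, my, h, hmx₁, hmy, hmx₂, hcomm, hPh⟩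
  · intro hPa
    refine locQ_of_space_square hP (H10PT.isAlgStack_ofSp F) (H10PT.isAlgStack_ofSp G)
      (AlgSt.ofSpMap a.hom) (BasedFunctor.id _) (BasedFunctor.id _) a (Iso.refl _)
      (repByAlgSpWith_id_ofSp _ gS.bc F (Groth.Agent.Lib.Helper16.locP_smooth_id F.property))
      (repByAlgSpWith_id_ofSp _ gJ.bc F (fun p => ⟨p, AlgSp.Points.map_id p⟩))
      (repByAlgSpWith_id_ofSp _ gS.bc G (Groth.Agent.Lib.Helper16.locP_smooth_id G.property)) hPa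

end SpaceMap

section Composition

variable {𝒵 : AlgSt.Cat S}

/-- Functoriality of `overMap`. -/
def overMapCompIso {U V W : Over S} (h : U ⟶ V) (k : V ⟶ W) :
    BasedFunctor.comp (AlgSt.overMap h) (AlgSt.overMap k) ≅ AlgSt.overMap (h ≫ k) :=
  overIso _ _ (fun w => by
    show (w.hom ≫ h) ≫ k = eqToHom _ ≫ w.hom ≫ h ≫ k
    simp)

theorem locQ_comp {P : MorphismProperty (AlgSp.Sp S)} (hP : AlgSp.IsSmoothLocalST P)
    (hPc : CO P) (h𝒳 : AlgSt.IsAlgStack Scheme.fppfPrecoverage 𝒳)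
    (h𝒴 : AlgSt.IsAlgStack Scheme.fppfPrecoverage 𝒴) (f : 𝒳 ⥤ᵇ 𝒴) (g : 𝒴 ⥤ᵇ 𝒵)
    (hf : AlgSt.LocQ P f) (hg : AlgSt.LocQ P g) : AlgSt.LocQ P (BasedFunctor.comp f g) := by
  obtain ⟨V, W, y, w, k, β, hy₁, hy₂, hw, hPk⟩ := hg
  obtain ⟨U, x, h, α, hx, hu, -, hxs⟩ := exists_good_square h𝒳 h𝒴 f V y hy₁
  have hPh : P ((AlgSp.yon S).map h) :=
    locQ_all_squares hP h𝒳.isStack.1 h𝒴.isStack.1 f hf U V x y h α hy₁ hu
  let γ : BasedFunctor.comp x (BasedFunctor.comp f g) ≅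
      BasedFunctor.comp (AlgSt.overMap (h ≫ k)) w :=
    (show BasedFunctor.comp x (BasedFunctor.comp f g) ≅
        BasedFunctor.comp (BasedFunctor.comp (AlgSt.overMap h) y) g from wr α g) ≪≫
    (show BasedFunctor.comp (BasedFunctor.comp (AlgSt.overMap h) y) g ≅
        BasedFunctor.comp (BasedFunctor.comp (AlgSt.overMap h) (AlgSt.overMap k)) w from
      wl (AlgSt.overMap h) β) ≪≫ wr (overMapCompIso h k) w
  refine ⟨U, W, x, w, h ≫ k, γ, hx, hxs hy₂, hw, ?_⟩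
  rw [Functor.map_comp]
  exact hPc (AlgSp.IsAlgSpace.yon_obj U) (AlgSp.IsAlgSpace.yon_obj V) (AlgSp.IsAlgSpace.yon_obj W)
    _ _ hPh hPk

end Composition

end Groth.Agent.Lib.Helper16.AlgStDC
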