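import Mathlib
import Groth.Agent.Lib.Helper16.AlgSt.LocQSch
import Groth.Agent.Lib.Helper16.AlgSt.DiagLft
import Groth.Agent.Lib.Helper10.FibSwap

/-!
# `LocQ` versus `RepByAlgSpWith` for morphisms representable by algebraic spaces
-/

set_option autoImplicit false
set_option backward.isDefEq.respectTransparency false
set_option backward.isDefEq.respectTransparency.types false

universe u

open CategoryTheory CategoryTheory.Limits AlgebraicGeometry Opposite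

namespace Groth.Agent.Lib.Helper16.AlgStDC

open Groth.Agent.Lib.Helper10.Fib Groth.Agent.Lib.Helper10.StkPsh
open Groth.Agent.Lib.Helper10.AlgStRep Groth.Agent.Lib.Helper10.LiftSqBC
open Groth.Agent.Lib.Helper28.AlgSt.PshFun Groth.Agent.Lib.Helper28.AlgSt.PshPull
open Groth.Agent.Lib.Helper28.AlgSt.ClsPsh Groth.Agent.Lib.Helper28.AlgSt.Bridge
open Groth.Agent.Lib.Helper28.AlgSt.Key Groth.Agent.Lib.Helper28.AlgSt.PropInst
open Groth.Agent.Lib.Helper28.AlgSt.Comp Groth.Agent.Lib.Helper28.AlgSt.Whisker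
open Groth.Agent.Lib.Helper28.AlgSt.SpaceCalc Groth.Agent.Lib.Helper28.AlgSt.Chart
open Groth.Agent.Lib.Helper28.AlgSt.ChartOver Groth.Agent.Lib.Helper28.AlgSt.FpStack
open Groth.Agent.Lib.Helper28.AlgSt.DiagComp Groth.Agent.Lib.Helper28.AlgSt.Descent

variable {S : Scheme.{u}} {𝒳 𝒴 : AlgSt.Cat S}

section Data

variable (f : 𝒳 ⥤ᵇ 𝒴) {V₀ : Over S} (y₀ : FibCat.overCat V₀ ⥤ᵇ 𝒴) {F₀ : AlgSp.Space S}
  (e₀ : AlgSt.ofSp F₀.obj ⥤ᵇ FibCat.fp y₀ f)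

/-- The projection `F₀ ⟶ h_{V₀}` as a morphism of algebraic spaces. -/
noncomputable abbrev repM : F₀ ⟶ spOf V₀ :=
  ObjectProperty.homMk (AlgSt.spMapOfOver (BasedFunctor.comp e₀ (FibCat.fpFst y₀ f)))

/-- The 2-isomorphism of the square with charts `F₀ ⟶ 𝒳` and `h_{V₀} ⟶ 𝒴`. -/
noncomputable def repAlpha :
    BasedFunctor.comp (BasedFunctor.comp e₀ (FibCat.fpSnd y₀ f)) f ≅
      BasedFunctor.comp (AlgSt.ofSpMap (repM f y₀ e₀).hom)
        (BasedFunctor.comp (AlgSt.toOverCat V₀) y₀) :=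
  wl e₀ (FibCat.fpIso y₀ f).symm ≪≫ wr (spIso (BasedFunctor.comp e₀ (FibCat.fpFst y₀ f))) y₀

noncomputable def repLiftIso :
    BasedFunctor.comp (FibCat.fpLift (BasedFunctor.comp e₀ (FibCat.fpSnd y₀ f))
      (AlgSt.ofSpMap (repM f y₀ e₀).hom) (repAlpha f y₀ e₀)) (tauFp f y₀) ≅
    BasedFunctor.comp e₀ (fpSwap y₀ f) :=
  fpTwoIso f y₀
    (A := BasedFunctor.comp (FibCat.fpLift (BasedFunctor.comp e₀ (FibCat.fpSnd y₀ f))
      (AlgSt.ofSpMap (repM f y₀ e₀).hom) (repAlpha f y₀ e₀)) (tauFp f y₀))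
    (B := BasedFunctor.comp e₀ (fpSwap y₀ f))
    (Iso.refl _) (spIso (BasedFunctor.comp e₀ (FibCat.fpFst y₀ f))).symm (fun v => by
      have hσ : cmp (spIso (BasedFunctor.comp e₀ (FibCat.fpFst y₀ f))).hom v ≫
          cmp (spIso (BasedFunctor.comp e₀ (FibCat.fpFst y₀ f))).inv v = 𝟙 _ :=
        app_eq (spIso (BasedFunctor.comp e₀ (FibCat.fpFst y₀ f))).hom_inv_id v
      show f.map (𝟙 _) ≫ (e₀.obj v).obj.iso.inv =
        (𝟙 _ ≫ ((e₀.obj v).obj.iso.inv ≫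
          y₀.map (cmp (spIso (BasedFunctor.comp e₀ (FibCat.fpFst y₀ f))).hom v)) ≫ 𝟙 _) ≫
          y₀.map (cmp (spIso (BasedFunctor.comp e₀ (FibCat.fpFst y₀ f))).inv v)
      rw [Category.id_comp, Category.comp_id, Category.assoc, ← y₀.toFunctor.map_comp, hσ]
      simp
      exact ((congrArg (fun t => (e₀.obj v).obj.iso.inv ≫ t) (y₀.toFunctor.map_id _)).trans
        (Category.comp_id _)).symm)

theorem repByAlgSpWith_repLift (he₀ : FibCat.IsEquivOver e₀) (Q : MorphismProperty (AlgSp.Sp S))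
    (hQb : BC Q) (hQ : Q (𝟙 F₀.obj)) :
    AlgSt.RepByAlgSpWith Q (FibCat.fpLift (BasedFunctor.comp e₀ (FibCat.fpSnd y₀ f))
      (AlgSt.ofSpMap (repM f y₀ e₀).hom) (repAlpha f y₀ e₀)) := by
  have hE' : FibCat.IsEquivOver (BasedFunctor.comp e₀ (fpSwap y₀ f)) :=
    isEquivOver_comp _ _ he₀ (isEquivOver_fpSwap y₀ f)
  have h1 : AlgSt.RepByAlgSpWith Q (BasedFunctor.comp e₀ (fpSwap y₀ f)) :=
    repByAlgSpWith_of_square Q (BasedFunctor.comp e₀ (fpSwap y₀ f))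
      (BasedFunctor.id (AlgSt.ofSp F₀.obj)) (BasedFunctor.id _) (BasedFunctor.comp e₀ (fpSwap y₀ f))
      (isEquivOver_id _) hE' (Iso.refl _) (repByAlgSpWith_id_ofSp Q hQb F₀ hQ)
  exact repByAlgSpWith_of_square' Q (BasedFunctor.comp e₀ (fpSwap y₀ f)) _ (BasedFunctor.id _)
    (tauFp f y₀) (isEquivOver_id _) (isEquivOver_tauFp f y₀) (repLiftIso f y₀ e₀) h1

end Data

theorem smooth_le_flat : (@Smooth : MorphismProperty Scheme.{u}) ≤ @Flat := fun _ _ f hf => by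
  haveI : Smooth f := hf
  exact (inferInstance : Flat f)

theorem smooth_le_lfp :
    (@Smooth : MorphismProperty Scheme.{u}) ≤ @LocallyOfFinitePresentation := fun _ _ f hf => by
  haveI : Smooth f := hf
  exact (inferInstance : LocallyOfFinitePresentation f)

/-- For `f` representable by algebraic spaces, `LocQ P f` implies `RepByAlgSpWith P f`. -/
theorem repByAlgSpWith_of_locQ {P : MorphismProperty (AlgSp.Sp S)} (hP : AlgSp.IsSmoothLocalST P)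
    (hPb : BC P) (hPl : AlgSp.IsLocalOnBase AlgSp.IsFppfCover P)
    (h𝒳 : AlgSt.IsAlgStack Scheme.fppfPrecoverage 𝒳)
    (h𝒴 : AlgSt.IsAlgStack Scheme.fppfPrecoverage 𝒴) (f : 𝒳 ⥤ᵇ 𝒴) (hf : AlgSt.RepByAlgSp1 f)
    (hQ : AlgSt.LocQ P f) : AlgSt.RepByAlgSpWith P f := by
  have gS := good_smooth (S := S)
  obtain ⟨V₀, y₀, hy₁, hy₂⟩ := h𝒴.atlas
  obtain ⟨F₀, e₀, he₀⟩ := hf V₀ y₀
  obtain ⟨U, V, x, y, h, α, hx₁, hx₂, hy, hPh⟩ := space_square_of_locQ f hQ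
  have hPm : P (repM f y₀ e₀).hom :=
    locQ_core hP h𝒳.isStack.1 h𝒴.isStack.1 f x y h α hx₁ hx₂ hy hPh
      (BasedFunctor.comp e₀ (FibCat.fpSnd y₀ f)) (BasedFunctor.comp (AlgSt.toOverCat V₀) y₀)
      (repM f y₀ e₀) (repAlpha f y₀ e₀)
      (repByAlgSpWith_equiv_comp _ _ (isEquivOver_toOverCat V₀) y₀ hy₁)
      (repByAlgSpWith_repLift f y₀ e₀ he₀ _ gS.bc
        (Groth.Agent.Lib.Helper16.locP_smooth_id F₀.property))
  have h2 : AlgSt.RepByAlgSpWith P (FibCat.fpFst y₀ f) :=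
    repByAlgSpWith_of_prop_map (B := spOf V₀) P hPb e₀ (AlgSt.toOverCat V₀) he₀
      (isEquivOver_toOverCat V₀)
      (FibCat.fpFst y₀ f) (repM f y₀ e₀) (spIso (BasedFunctor.comp e₀ (FibCat.fpFst y₀ f))) hPm
  exact repByAlgSpWith_of_fpFst_cover h𝒳.isStack.1 h𝒴.isStack.1 (isFibGrpd_overForget V₀) P hPb
    hPl f hf y₀ (repByAlgSpWith_locP_mono smooth_le_flat y₀ hy₁)
    (repByAlgSpWith_locP_mono smooth_le_lfp y₀ hy₁) hy₂ h2

/-- `RepByAlgSpWith P f` implies `LocQ P f`. -/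
theorem locQ_of_repByAlgSpWith {P : MorphismProperty (AlgSp.Sp S)} (hP : AlgSp.IsSmoothLocalST P)
    (h𝒳 : AlgSt.IsAlgStack Scheme.fppfPrecoverage 𝒳)
    (h𝒴 : AlgSt.IsAlgStack Scheme.fppfPrecoverage 𝒴) (f : 𝒳 ⥤ᵇ 𝒴)
    (hR : AlgSt.RepByAlgSpWith P f) : AlgSt.LocQ P f := by
  obtain ⟨V₀, y₀, hy₁, hy₂⟩ := h𝒴.atlas
  obtain ⟨F₀, e₀, he₀, hPm⟩ := hR V₀ y₀
  exact locQ_of_space_square hP h𝒳 h𝒴 f (BasedFunctor.comp e₀ (FibCat.fpSnd y₀ f))
    (BasedFunctor.comp (AlgSt.toOverCat V₀) y₀) (repM f y₀ e₀) (repAlpha f y₀ e₀)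
    (repByAlgSpWith_equiv_comp _ e₀ he₀ _ (repByAlgSpWith_fpSnd _ y₀ f hy₁))
    (repByAlgSpWith_equiv_comp _ e₀ he₀ _ (repByAlgSpWith_fpSnd _ y₀ f hy₂))
    (repByAlgSpWith_equiv_comp _ _ (isEquivOver_toOverCat V₀) y₀ hy₁) hPm

end Groth.Agent.Lib.Helper16.AlgStDC
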