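import Mathlib
import Groth.Agent.Lib.Helper16.AlgSt.LocQRep
import Groth.Agent.Lib.Helper10.AlgStQC
import Groth.Agent.Lib.Helper15.OpenLocusInst

/-!
# `LocQ (LocP P₀)` from representability with `LocP P₀`
-/

set_option autoImplicit false
set_option backward.isDefEq.respectTransparency false
set_option backward.isDefEq.respectTransparency.types false

universe u

open CategoryTheory CategoryTheory.Limits AlgebraicGeometry Opposite

namespace Groth.Agent.Lib.Helper16.AlgStDC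

open Groth.Agent.Lib.Helper10.Fib Groth.Agent.Lib.Helper10.StkPsh
open Groth.Agent.Lib.Helper10.AlgStRep Groth.Agent.Lib.Helper10.LiftSqBC
open Groth.Agent.Lib.Helper28.AlgSt.PshFun Groth.Agent.Lib.Helper28.AlgSt.PshPull
open Groth.Agent.Lib.Helper28.AlgSt.ClsPsh Groth.Agent.Lib.Helper28.AlgSt.Bridge
open Groth.Agent.Lib.Helper28.AlgSt.Key Groth.Agent.Lib.Helper28.AlgSt.PropInst
open Groth.Agent.Lib.Helper28.AlgSt.Comp Groth.Agent.Lib.Helper28.AlgSt.Whisker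
open Groth.Agent.Lib.Helper28.AlgSt.SpaceCalc Groth.Agent.Lib.Helper28.AlgSt.Chart
open Groth.Agent.Lib.Helper28.AlgSt.ChartOver Groth.Agent.Lib.Helper28.AlgSt.FpStack
open Groth.Agent.Lib.Helper28.AlgSt.DiagComp Groth.Agent.Lib.Helper28.AlgSt.Descent

variable {S : Scheme.{u}} {𝒳 𝒴 : AlgSt.Cat S}

/-- A square with a space chart on the source and a scheme chart on the target gives `LocQ`,
if `P` holds after passing to an etale atlas of the space. -/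
theorem locQ_of_space_source {P : MorphismProperty (AlgSp.Sp S)} (h𝒳 : FibCat.IsFibGrpd 𝒳.p)
    (f : 𝒳 ⥤ᵇ 𝒴) {F : AlgSp.Space S} (xF : AlgSt.ofSp F.obj ⥤ᵇ 𝒳)
    (hx₁ : AlgSt.RepByAlgSpWith (AlgSp.LocP @Smooth) xF)
    (hx₂ : AlgSt.RepByAlgSpWith AlgSp.IsSurjectiveMor xF) {V₀ : Over S}
    (y₀ : FibCat.overCat V₀ ⥤ᵇ 𝒴) (hy₀ : AlgSt.RepByAlgSpWith (AlgSp.LocP @Smooth) y₀)
    (m : F ⟶ spOf V₀)
    (α : BasedFunctor.comp xF f ≅ BasedFunctor.comp (AlgSt.ofSpMap m.hom)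
      (BasedFunctor.comp (AlgSt.toOverCat V₀) y₀))
    (hP : ∀ (W : Over S) (w : (AlgSp.yon S).obj W ⟶ F.obj) (h : W ⟶ V₀),
      AlgSp.RepWith @Etale w → (AlgSp.yon S).map h = w ≫ m.hom → P ((AlgSp.yon S).map h)) :
    AlgSt.LocQ P f := by
  obtain ⟨W, w, hwe, hws⟩ := F.property.atlas
  obtain ⟨h, hh⟩ := (AlgSp.yon S).map_surjective (w ≫ m.hom)
  let c : FibCat.overCat W ⥤ᵇ AlgSt.ofSp F.obj :=
    BasedFunctor.comp (AlgSt.ofOverCat W) (AlgSt.ofSpMap w)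
  have hO := isFibGrpd_overForget W
  have hF : FibCat.IsFibGrpd (AlgSt.ofSp F.obj).p := Stk.isFibGrpd_ofPsh _
  let i1 : AlgSt.ofSpMap ((AlgSp.yon S).map h) ≅
      BasedFunctor.comp (AlgSt.ofSpMap w) (AlgSt.ofSpMap m.hom) :=
    eqToIso (congrArg (fun t => AlgSt.ofSpMap t) hh) ≪≫
      isoOfPointwise (AlgSt.ofSpMap (w ≫ m.hom))
        (BasedFunctor.comp (AlgSt.ofSpMap w) (AlgSt.ofSpMap m.hom))
        (fun v => ⟨𝟙 _, IsHomLift.id rfl⟩)
  let α₀ : BasedFunctor.comp (BasedFunctor.comp c xF) f ≅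
      BasedFunctor.comp (AlgSt.overMap h) y₀ :=
    (show BasedFunctor.comp (BasedFunctor.comp c xF) f ≅
        BasedFunctor.comp c (BasedFunctor.comp (AlgSt.ofSpMap m.hom)
          (BasedFunctor.comp (AlgSt.toOverCat V₀) y₀)) from wl c α) ≪≫
    (show BasedFunctor.comp c (BasedFunctor.comp (AlgSt.ofSpMap m.hom)
          (BasedFunctor.comp (AlgSt.toOverCat V₀) y₀)) ≅
        BasedFunctor.comp (AlgSt.ofOverCat W) (BasedFunctor.comp
          (BasedFunctor.comp (AlgSt.ofSpMap w) (AlgSt.ofSpMap m.hom))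
          (BasedFunctor.comp (AlgSt.toOverCat V₀) y₀)) from Iso.refl _) ≪≫
    wl (AlgSt.ofOverCat W) (wr i1.symm (BasedFunctor.comp (AlgSt.toOverCat V₀) y₀)) ≪≫
    (show BasedFunctor.comp (AlgSt.ofOverCat W) (BasedFunctor.comp
          (AlgSt.ofSpMap ((AlgSp.yon S).map h)) (BasedFunctor.comp (AlgSt.toOverCat V₀) y₀)) ≅
        BasedFunctor.comp (BasedFunctor.comp (AlgSt.ofOverCat W) (AlgSt.toOverCat W))
          (BasedFunctor.comp (AlgSt.overMap h) y₀) from Iso.refl _) ≪≫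
    wr (ofToIso W) (BasedFunctor.comp (AlgSt.overMap h) y₀)
  exact ⟨W, V₀, BasedFunctor.comp c xF, y₀, h, α₀,
    repByAlgSpWith_comp_smooth hO hF c xF (H10QC.chart_smooth W w hwe) hx₁,
    repByAlgSpWith_comp_surjective hO hF c xF (H10QC.chart_surjective W w hws) hx₂, hy₀,
    hP W w h hwe hh⟩

/-- A morphism representable by algebraic spaces with `LocP P₀` has `LocQ (LocP P₀)`. -/
theorem locQ_locP_of_repByAlgSpWith {P₀ : MorphismProperty Scheme.{u}}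
    (hP₀ : Groth.Agent.Lib.Helper16.EtLocalST P₀)
    (h𝒳 : AlgSt.IsAlgStack Scheme.fppfPrecoverage 𝒳)
    (h𝒴 : AlgSt.IsAlgStack Scheme.fppfPrecoverage 𝒴) (f : 𝒳 ⥤ᵇ 𝒴)
    (hR : AlgSt.RepByAlgSpWith (AlgSp.LocP P₀) f) : AlgSt.LocQ (AlgSp.LocP P₀) f := by
  obtain ⟨V₀, y₀, hy₁, hy₂⟩ := h𝒴.atlas
  obtain ⟨F₀, e₀, he₀, hPm⟩ := hR V₀ y₀
  refine locQ_of_space_source h𝒳.isStack.1 f (BasedFunctor.comp e₀ (FibCat.fpSnd y₀ f))
    (repByAlgSpWith_equiv_comp _ e₀ he₀ _ (repByAlgSpWith_fpSnd _ y₀ f hy₁))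
    (repByAlgSpWith_equiv_comp _ e₀ he₀ _ (repByAlgSpWith_fpSnd _ y₀ f hy₂)) y₀ hy₁
    (repM f y₀ e₀) (repAlpha f y₀ e₀) ?_
  intro W w h hwe hh
  rw [hh]
  exact Groth.Agent.Lib.Helper16.locP_comp hP₀ (AlgSp.IsAlgSpace.yon_obj W) F₀.property
    (AlgSp.IsAlgSpace.yon_obj V₀) w _
    (Groth.Agent.Lib.Helper16.locP_of_repWith_etale hP₀ (AlgSp.IsAlgSpace.yon_obj W) F₀.property
      w hwe) hPm

/-- Representable with `RepWith P₁` implies representable with `LocP P₀` when `P₁ ≤ P₀`. -/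
theorem repByAlgSpWith_locP_of_repWith {P₁ P₀ : MorphismProperty Scheme.{u}}
    (hP₀ : Groth.Agent.Lib.Helper16.EtLocalST P₀) (hle : P₁ ≤ P₀) (f : 𝒳 ⥤ᵇ 𝒴)
    (hR : AlgSt.RepByAlgSpWith (AlgSp.RepWith P₁) f) : AlgSt.RepByAlgSpWith (AlgSp.LocP P₀) f :=
  repByAlgSpWith_mono f (fun F U g hg =>
    (Groth.Agent.Lib.Helper16.locP_iff_repWith hP₀ F.property (AlgSp.IsAlgSpace.yon_obj U) g
      hg.rep).2 (Groth.Agent.Lib.Helper15.repWith_mono' hle g hg)) hR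

end Groth.Agent.Lib.Helper16.AlgStDC
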