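import Mathlib
import Groth.Agent.Lib.Helper16.AlgSt.LocQLocP
import Groth.Agent.Lib.Helper16.AlgSt.DiagLft
import Groth.Agent.Lib.Helper10.AlgStPtsSch

/-!
# One-chart tools for `LocQ`: scheme morphisms underlying functors between slices
-/

set_option autoImplicit false
set_option backward.isDefEq.respectTransparency false
set_option backward.isDefEq.respectTransparency.types false

universe u

open CategoryTheory CategoryTheory.Limits AlgebraicGeometry Opposite

namespace Groth.Agent.Lib.Helper16.AlgStDC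

open Groth.Agent.Lib.Helper10.Fib Groth.Agent.Lib.Helper10.StkPsh
open Groth.Agent.Lib.Helper10.AlgStRep Groth.Agent.Lib.Helper10.LiftSqBC
open Groth.Agent.Lib.Helper28.AlgSt.PshFun Groth.Agent.Lib.Helper28.AlgSt.PshPull
open Groth.Agent.Lib.Helper28.AlgSt.ClsPsh Groth.Agent.Lib.Helper28.AlgSt.Bridge
open Groth.Agent.Lib.Helper28.AlgSt.Key Groth.Agent.Lib.Helper28.AlgSt.PropInst
open Groth.Agent.Lib.Helper28.AlgSt.Comp Groth.Agent.Lib.Helper28.AlgSt.Whisker
open Groth.Agent.Lib.Helper28.AlgSt.SpaceCalc Groth.Agent.Lib.Helper28.AlgSt.Chart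
open Groth.Agent.Lib.Helper28.AlgSt.ChartOver Groth.Agent.Lib.Helper28.AlgSt.FpStack
open Groth.Agent.Lib.Helper28.AlgSt.DiagComp Groth.Agent.Lib.Helper28.AlgSt.Descent

variable {S : Scheme.{u}} {𝒳 𝒴 𝒵 : AlgSt.Cat S}

section HomOfOver

variable {T U V : Over S}

theorem homOfOver_overMap (h : T ⟶ U) : homOfOver (AlgSt.overMap h) = h := by
  unfold homOfOver
  show eqToHom _ ≫ (𝟙 T ≫ h) = h
  rw [eqToHom_refl, Category.id_comp, Category.id_comp]

theorem homOfOver_eq_of_iso {G G' : FibCat.overCat T ⥤ᵇ FibCat.overCat U} (e : G ≅ G') :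
    homOfOver G = homOfOver G' := by
  have hl : (FibCat.overCat U).p.IsHomLift (𝟙 ((FibCat.overCat T).p.obj (Over.mk (𝟙 T))))
      (cmp e.hom (Over.mk (𝟙 T))) := e.hom.isHomLift' (Over.mk (𝟙 T))
  have h1 : (cmp e.hom (Over.mk (𝟙 T))).left ≫ (G'.obj (Over.mk (𝟙 T))).hom =
      (G.obj (Over.mk (𝟙 T))).hom := Over.w _
  have h2 := IsHomLift.fac' (FibCat.overCat U).p
    (𝟙 ((FibCat.overCat T).p.obj (Over.mk (𝟙 T)))) (cmp e.hom (Over.mk (𝟙 T)))
  change (cmp e.hom (Over.mk (𝟙 T))).left = _ at h2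
  unfold homOfOver
  rw [← h1, h2]
  simp

theorem overMap_inj {a b : T ⟶ U} (e : AlgSt.overMap a ≅ AlgSt.overMap b) : a = b := by
  have := homOfOver_eq_of_iso e
  rwa [homOfOver_overMap, homOfOver_overMap] at this

/-- A functor between slices which is representable with `Q` comes from a morphism of schemes
with `Q`. -/
theorem prop_yon_homOfOver (Q : MorphismProperty (AlgSp.Sp S)) (hQb : BC Q)
    (hQl : AlgSp.IsLocalOnBase AlgSp.IsFppfCover Q)
    (G : FibCat.overCat T ⥤ᵇ FibCat.overCat U) (hG : AlgSt.RepByAlgSpWith Q G) :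
    Q ((AlgSp.yon S).map (homOfOver G)) := by
  have e : BasedFunctor.comp (AlgSt.ofSpMap ((AlgSp.yon S).map (homOfOver G)))
      (AlgSt.toOverCat U) ≅ BasedFunctor.comp (AlgSt.toOverCat T) G :=
    overIso _ _ (fun w => by
      have e1 := hom_eq G ((AlgSt.toOverCat T).obj w)
      show w.sec.down ≫ homOfOver G = eqToHom _ ≫ (G.obj ((AlgSt.toOverCat T).obj w)).hom
      rw [e1]
      exact H10PT.eqToHom_cancel_aux2 _ _ _)
  have h1 : AlgSt.RepByAlgSpWith Q
      (AlgSt.ofSpMap ((AlgSp.yon S).map (homOfOver G))) :=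
    repByAlgSpWith_of_square' _ G _ (AlgSt.toOverCat T) (AlgSt.toOverCat U)
      (isEquivOver_toOverCat T) (isEquivOver_toOverCat U) e hG
  exact prop_of_repByAlgSpWith_ofSpMap _ hQb hQl
    (V := ⟨(AlgSp.yon S).obj T, AlgSp.IsAlgSpace.yon_obj T⟩)
    (Z := ⟨(AlgSp.yon S).obj U, AlgSp.IsAlgSpace.yon_obj U⟩)
    (ObjectProperty.homMk ((AlgSp.yon S).map (homOfOver G))) h1

theorem surjective_of_isSurjectiveMor_yon (h : T ⟶ U)
    (hs : AlgSp.IsSurjectiveMor ((AlgSp.yon S).map h)) : Surjective h.left := by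
  refine ⟨fun u => ?_⟩
  obtain ⟨x, hx⟩ := hs (AlgSp.Points.schemeHomeo U u)
  obtain ⟨t, rfl⟩ := (AlgSp.Points.schemeHomeo T).surjective x
  rw [AlgSp.Points.map_yon_map_apply] at hx
  exact ⟨t, (AlgSp.Points.schemeHomeo U).injective hx⟩

theorem surjective_homOfOver (G : FibCat.overCat T ⥤ᵇ FibCat.overCat U)
    (hG : AlgSt.RepByAlgSpWith AlgSp.IsSurjectiveMor G) : Surjective (homOfOver G).left :=
  surjective_of_isSurjectiveMor_yon _
    (prop_yon_homOfOver _ good_surjective.bc good_surjective.loc G hG)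

theorem prop_homOfOver' {P₀ : MorphismProperty Scheme.{u}} (hP : Good (S := S) (AlgSp.LocP P₀))
    (G : FibCat.overCat T ⥤ᵇ FibCat.overCat U)
    (hG : AlgSt.RepByAlgSpWith (AlgSp.LocP P₀) G) : P₀ (homOfOver G).left :=
  AlgSp.locP_yon_map (prop_yon_homOfOver _ hP.bc hP.loc G hG)

/-- The functor of a morphism of schemes with `Q` is representable with `Q`. -/
theorem repByAlgSpWith_overMap (Q : MorphismProperty (AlgSp.Sp S)) (hQb : BC Q) (h : T ⟶ U)
    (hQ : Q ((AlgSp.yon S).map h)) : AlgSt.RepByAlgSpWith Q (AlgSt.overMap h) :=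
  repByAlgSpWith_of_prop_map Q hQb (AlgSt.toOverCat T) (AlgSt.toOverCat U)
    (isEquivOver_toOverCat T) (isEquivOver_toOverCat U) (AlgSt.overMap h) (spHom h) (nuIso h) hQ

/-- Scheme level to `LocP` on representables. -/
theorem locP_yon_of {P₀ : MorphismProperty Scheme.{u}} [P₀.IsStableUnderBaseChange]
    (hP₀ : Groth.Agent.Lib.Helper16.EtLocalST P₀) (h : T ⟶ U) (hh : P₀ h.left) :
    AlgSp.LocP P₀ ((AlgSp.yon S).map h) :=
  (Groth.Agent.Lib.Helper16.locP_iff_repWith hP₀ (AlgSp.IsAlgSpace.yon_obj T)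
    (AlgSp.IsAlgSpace.yon_obj U) _ (AlgSp.representable_yon_map h)).2
    ((AlgSp.repWith_yon_map_iff _ h).2 hh)

end HomOfOver

section AtlasSquare

variable {U V : Over S} (f : 𝒳 ⥤ᵇ 𝒴) (y : FibCat.overCat V ⥤ᵇ 𝒴)
  (u : FibCat.overCat U ⥤ᵇ FibCat.fp f y)

/-- The chart square of a functor from a slice to `𝒳 ×_𝒴 (Sch/V)`. -/
def sqAlpha : BasedFunctor.comp (BasedFunctor.comp u (FibCat.fpFst f y)) f ≅
    BasedFunctor.comp (AlgSt.overMap (homOfOver (BasedFunctor.comp u (FibCat.fpSnd f y)))) y :=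
  wl u (FibCat.fpIso f y) ≪≫ wr (isoOverMap (BasedFunctor.comp u (FibCat.fpSnd f y))) y

/-- The lift of the chart square is the functor itself. -/
def sqLiftIso : FibCat.fpLift (BasedFunctor.comp u (FibCat.fpFst f y))
    (AlgSt.overMap (homOfOver (BasedFunctor.comp u (FibCat.fpSnd f y)))) (sqAlpha f y u) ≅ u :=
  fpTwoIso f y
    (A := FibCat.fpLift (BasedFunctor.comp u (FibCat.fpFst f y))
      (AlgSt.overMap (homOfOver (BasedFunctor.comp u (FibCat.fpSnd f y)))) (sqAlpha f y u))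
    (B := u) (Iso.refl _) (isoOverMap (BasedFunctor.comp u (FibCat.fpSnd f y))).symm (fun w => by
      have hι : cmp (isoOverMap (BasedFunctor.comp u (FibCat.fpSnd f y))).hom w ≫
          cmp (isoOverMap (BasedFunctor.comp u (FibCat.fpSnd f y))).inv w = 𝟙 _ :=
        app_eq (isoOverMap (BasedFunctor.comp u (FibCat.fpSnd f y))).hom_inv_id w
      show f.map (𝟙 _) ≫ (u.obj w).obj.iso.hom =
        ((u.obj w).obj.iso.hom ≫
          y.map (cmp (isoOverMap (BasedFunctor.comp u (FibCat.fpSnd f y))).hom w)) ≫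
          y.map (cmp (isoOverMap (BasedFunctor.comp u (FibCat.fpSnd f y))).inv w)
      rw [Category.assoc, ← y.toFunctor.map_comp, hι]
      simp
      exact ((congrArg (fun t => (u.obj w).obj.iso.hom ≫ t) (y.toFunctor.map_id _)).trans
        (Category.comp_id _)).symm)

/-- All squares with smooth lift, phrased for a functor to the fibre product. -/
theorem all_squares_atlas {P : MorphismProperty (AlgSp.Sp S)} (hP : AlgSp.IsSmoothLocalST P)
    (h𝒳 : FibCat.IsFibGrpd 𝒳.p) (h𝒴 : FibCat.IsFibGrpd 𝒴.p) (hQ : AlgSt.LocQ P f)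
    (hy : AlgSt.RepByAlgSpWith (AlgSp.LocP @Smooth) y)
    (hu : AlgSt.RepByAlgSpWith (AlgSp.LocP @Smooth) u) :
    P ((AlgSp.yon S).map (homOfOver (BasedFunctor.comp u (FibCat.fpSnd f y)))) :=
  locQ_all_squares hP h𝒳 h𝒴 f hQ U V (BasedFunctor.comp u (FibCat.fpFst f y)) y
    (homOfOver (BasedFunctor.comp u (FibCat.fpSnd f y))) (sqAlpha f y u) hy
    (repByAlgSpWith_iso _ (sqLiftIso f y u) hu)

end AtlasSquare

section TwoCharts

/-- If `T ⟶ W` and `T ⟶ W₁` are compatible over `𝒵`, the chart `W₁ ⟶ 𝒵` is smooth and `T ⟶ W₁`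
is locally of finite type, then `T ⟶ W` is locally of finite type. -/
theorem lft_of_two_charts (h𝒵 : AlgSt.IsAlgStack Scheme.fppfPrecoverage 𝒵) {W W₁ T : Over S}
    (w : FibCat.overCat W ⥤ᵇ 𝒵) (w₁ : FibCat.overCat W₁ ⥤ᵇ 𝒵)
    (hw₁ : AlgSt.RepByAlgSpWith (AlgSp.LocP @Smooth) w₁) (a : T ⟶ W) (b : T ⟶ W₁)
    (δ : BasedFunctor.comp (AlgSt.overMap a) w ≅ BasedFunctor.comp (AlgSt.overMap b) w₁)
    (hb : LocallyOfFiniteType b.left) : LocallyOfFiniteType a.left := by
  have hT := isFibGrpd_overForget T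
  have hWa := H10PT.isAlgStack_overCat W
  have hW₁a := H10PT.isAlgStack_overCat W₁
  have hfpa : AlgSt.IsAlgStack Scheme.fppfPrecoverage (FibCat.fp w w₁) :=
    isAlgStack_fp h𝒵.isStack h𝒵.diag hWa hW₁a w w₁
  have hfp := hfpa.isStack.1
  let G : FibCat.overCat T ⥤ᵇ FibCat.fp w w₁ :=
    FibCat.fpLift (AlgSt.overMap a) (AlgSt.overMap b) δ
  have hGb : AlgSt.RepByAlgSpWith (AlgSp.LocP @LocallyOfFiniteType)
      (BasedFunctor.comp G (FibCat.fpSnd w w₁)) :=
    repByAlgSpWith_iso _ (show BasedFunctor.comp G (FibCat.fpSnd w w₁) ≅ AlgSt.overMap b from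
      Iso.refl _)
      (repByAlgSpWith_overMap _ good_lft.bc b
        (locP_yon_of Groth.Agent.Lib.Helper16.etLocalST_locallyOfFiniteType b hb))
  have hΔ : AlgSt.RepByAlgSpWith (AlgSp.LocP @LocallyOfFiniteType)
      (FibCat.diag (FibCat.fpSnd w w₁)) := lft_diag hfpa hW₁a _
  have hG : AlgSt.RepByAlgSpWith (AlgSp.LocP @LocallyOfFiniteType) G :=
    repByAlgSpWith_of_comp good_lft hT hfp hW₁a.isStack.1 G (FibCat.fpSnd w w₁) hGb hΔ
  have hπ : AlgSt.RepByAlgSpWith (AlgSp.LocP @LocallyOfFiniteType) (FibCat.fpFst w w₁) :=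
    repByAlgSpWith_locP_mono (fun _ _ g hg => by
      haveI : Smooth g := hg
      exact (inferInstance : LocallyOfFiniteType g)) _
      (repByAlgSpWith_fpFst (AlgSp.LocP @Smooth) w₁ w hw₁)
  have hGa : AlgSt.RepByAlgSpWith (AlgSp.LocP @LocallyOfFiniteType)
      (BasedFunctor.comp G (FibCat.fpFst w w₁)) :=
    repByAlgSpWith_comp_good good_lft hT hfp G _ hG hπ
  have ha : AlgSt.RepByAlgSpWith (AlgSp.LocP @LocallyOfFiniteType) (AlgSt.overMap a) :=
    repByAlgSpWith_iso _ (show AlgSt.overMap a ≅ BasedFunctor.comp G (FibCat.fpFst w w₁) from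
      Iso.refl _) hGa
  have := prop_homOfOver' good_lft (AlgSt.overMap a) ha
  rwa [homOfOver_overMap] at this

end TwoCharts

end Groth.Agent.Lib.Helper16.AlgStDC
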