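import Mathlib
import Groth.Agent.Lib.Helper28.AlgSt.Good2
import Groth.Agent.S10533
import Groth.Agent.S10539
import Groth.Agent.S10540

/-!
# Affine, integral and finite morphisms of algebraic spaces are "good"
(stable under base change and composition, fppf local on the base).
-/

set_option autoImplicit false

universe u

open CategoryTheory CategoryTheory.Limits AlgebraicGeometry Opposite

namespace Groth.Agent.Lib.Helper16.AlgStDC

open Groth.Agent.Lib.Helper28.AlgSt.PropInst Groth.Agent.Lib.Helper28.AlgSt.Comp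

variable {S : Scheme.{u}}

/-- The common shape of affine / integral / finite morphisms. -/
def AffLike (R : MorphismProperty Scheme.{u}) : MorphismProperty (AlgSp.Sp S) := fun F G f =>
  ∀ ⦃Z : Over S⦄, IsAffine Z.left → ∀ (g : (AlgSp.yon S).obj Z ⟶ G),
    ∃ (W : Over S) (i : W ⟶ Z) (fst : (AlgSp.yon S).obj W ⟶ F),
      IsPullback fst ((AlgSp.yon S).map i) f g ∧ IsAffine W.left ∧ R i.left

theorem bc_affLike (R : MorphismProperty Scheme.{u}) : BC (S := S) (AffLike R) := by
  intro X₁ Y₁ X₂ Y₂ _ _ _ _ a b a' b' sq ha Z hZ g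
  obtain ⟨W, i, fst, hpb, hW, hR⟩ := ha hZ (g ≫ b)
  have hw : fst ≫ a = ((AlgSp.yon S).map i ≫ g) ≫ b := by
    rw [Category.assoc]; exact hpb.w
  refine ⟨W, i, sq.lift fst ((AlgSp.yon S).map i ≫ g) hw, ?_, hW, hR⟩
  refine IsPullback.of_right ?_ (sq.lift_snd _ _ hw) sq
  rw [sq.lift_fst]
  exact hpb

theorem co_affLike (R : MorphismProperty Scheme.{u}) [R.IsStableUnderComposition] :
    CO (S := S) (AffLike R) := by
  intro X Y Z₀ _ _ _ a b ha hb T hT g
  obtain ⟨W₁, i₁, fst₁, hpb₁, hW₁, hR₁⟩ := hb hT g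
  obtain ⟨W₂, i₂, fst₂, hpb₂, hW₂, hR₂⟩ := ha hW₁ fst₁
  refine ⟨W₂, i₂ ≫ i₁, fst₂, ?_, hW₂, ?_⟩
  · rw [Functor.map_comp]
    exact hpb₂.paste_vert hpb₁
  · rw [Over.comp_left]
    exact R.comp_mem _ _ hR₂ hR₁

theorem affLike_top_iff {F G : AlgSp.Sp S} (f : F ⟶ G) :
    AffLike (S := S) ⊤ f ↔ AlgSp.IsAffineMor f := by
  constructor
  · intro h Z hZ g
    obtain ⟨W, i, fst, h1, h2, _⟩ := h hZ g
    exact ⟨W, i, fst, h1, h2⟩
  · intro h Z hZ g
    obtain ⟨W, i, fst, h1, h2⟩ := h hZ g
    exact ⟨W, i, fst, h1, h2, trivial⟩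

theorem affLike_top_eq : (AffLike (S := S) ⊤) = AlgSp.IsAffineMor := by
  funext F G f
  exact propext (affLike_top_iff f)

theorem affLike_integral_eq : (AffLike (S := S) @IsIntegralHom) = AlgSp.IsIntegralMor := rfl

theorem affLike_finite_eq : (AffLike (S := S) @IsFinite) = AlgSp.IsFiniteMor := rfl

instance : (⊤ : MorphismProperty Scheme.{u}).IsStableUnderComposition where
  comp_mem _ _ _ _ := trivial

theorem good_affine : Good (S := S) AlgSp.IsAffineMor where
  bc := by rw [← affLike_top_eq]; exact bc_affLike _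
  co := by rw [← affLike_top_eq]; exact co_affLike _
  loc := isLocalOnBase_fppf_of_fpqc (Groth.Agent.S10533.result S)

theorem good_integral : Good (S := S) AlgSp.IsIntegralMor where
  bc := bc_affLike (S := S) @IsIntegralHom
  co := co_affLike (S := S) @IsIntegralHom
  loc := isLocalOnBase_fppf_of_fpqc (Groth.Agent.S10539.result S)

theorem good_finite : Good (S := S) AlgSp.IsFiniteMor where
  bc := bc_affLike (S := S) @IsFinite
  co := co_affLike (S := S) @IsFinite
  loc := isLocalOnBase_fppf_of_fpqc (Groth.Agent.S10540.result S)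

end Groth.Agent.Lib.Helper16.AlgStDC
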