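import Mathlib
import Groth.Agent.Lib.Helper16.AlgSt.LocQOne
import Groth.Agent.Lib.Helper10.FibOverMap
import Groth.Agent.Lib.Helper10.FibRep

/-!
# The base change cube for chart squares
-/

set_option autoImplicit false
set_option backward.isDefEq.respectTransparency false
set_option backward.isDefEq.respectTransparency.types false

universe u

open CategoryTheory CategoryTheory.Limits AlgebraicGeometry Opposite

namespace Groth.Agent.Lib.Helper16.AlgStDC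

open Groth.Agent.Lib.Helper10.Fib Groth.Agent.Lib.Helper10.StkPsh
open Groth.Agent.Lib.Helper10.AlgStRep Groth.Agent.Lib.Helper10.LiftSqBC
open Groth.Agent.Lib.Helper28.AlgSt.PshFun Groth.Agent.Lib.Helper28.AlgSt.PshPull
open Groth.Agent.Lib.Helper28.AlgSt.ClsPsh Groth.Agent.Lib.Helper28.AlgSt.Bridge
open Groth.Agent.Lib.Helper28.AlgSt.Key Groth.Agent.Lib.Helper28.AlgSt.PropInst
open Groth.Agent.Lib.Helper28.AlgSt.Comp Groth.Agent.Lib.Helper28.AlgSt.Whisker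
open Groth.Agent.Lib.Helper28.AlgSt.SpaceCalc Groth.Agent.Lib.Helper28.AlgSt.Chart
open Groth.Agent.Lib.Helper28.AlgSt.ChartOver Groth.Agent.Lib.Helper28.AlgSt.FpStack
open Groth.Agent.Lib.Helper28.AlgSt.DiagComp Groth.Agent.Lib.Helper28.AlgSt.Descent

section Compat

variable {S : Scheme.{u}} {𝒜 ℬ 𝒞 : AlgSt.Cat S}

/-- A quasi-inverse of an equivalence compatible with projections is compatible with them. -/
theorem exists_inv_compat (T : 𝒜 ⥤ᵇ ℬ) (hT : FibCat.IsEquivOver T) (p : 𝒜 ⥤ᵇ 𝒞) (p' : ℬ ⥤ᵇ 𝒞)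
    (i : BasedFunctor.comp T p' ≅ p) :
    ∃ T' : ℬ ⥤ᵇ 𝒜, FibCat.IsEquivOver T' ∧ Nonempty (BasedFunctor.comp T' p ≅ p') := by
  obtain ⟨T', ⟨η⟩, ⟨ε⟩⟩ := hT
  refine ⟨T', ⟨T, ⟨ε⟩, ⟨η⟩⟩, ⟨?_⟩⟩
  exact wl T' i.symm ≪≫
    (show BasedFunctor.comp T' (BasedFunctor.comp T p') ≅
      BasedFunctor.comp (BasedFunctor.comp T' T) p' from Iso.refl _) ≪≫
    wr ε p' ≪≫ (show BasedFunctor.comp (BasedFunctor.id ℬ) p' ≅ p' from Iso.refl _)

end Compat

section Cube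

variable {S : Scheme.{u}} {𝒳 𝒴 𝒴' 𝒱 𝒱' 𝒰 : AlgSt.Cat S}
  (f : 𝒳 ⥤ᵇ 𝒴) (g : 𝒴' ⥤ᵇ 𝒴) (y : 𝒱 ⥤ᵇ 𝒴) (y' : 𝒱' ⥤ᵇ 𝒴') (c : 𝒱' ⥤ᵇ 𝒱)
  (θ : BasedFunctor.comp y' g ≅ BasedFunctor.comp c y)

include θ

/-- `(𝒳 ×_𝒴 𝒱) ×_𝒱 𝒱' ≃ (𝒴' ×_𝒴 𝒳) ×_𝒴' 𝒱'`, compatibly with the projections to `𝒱'`. -/
theorem cubeEquiv :
    ∃ Φ : FibCat.fp (FibCat.fpSnd f y) c ⥤ᵇ FibCat.fp (FibCat.fpFst g f) y',
      FibCat.IsEquivOver Φ ∧
      Nonempty (BasedFunctor.comp Φ (FibCat.fpSnd (FibCat.fpFst g f) y') ≅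
        FibCat.fpSnd (FibCat.fpSnd f y) c) := by
  have := id_full 𝒴
  have := id_faithful 𝒴
  let E₁ : FibCat.fp (FibCat.fpSnd f y) c ⥤ᵇ FibCat.fp f (BasedFunctor.comp c y) := paste2 f y c
  have hE₁ : FibCat.IsEquivOver E₁ := isEquivOver_paste2 f y c
  let i₁ : BasedFunctor.comp E₁ (FibCat.fpSnd f (BasedFunctor.comp c y)) ≅
      FibCat.fpSnd (FibCat.fpSnd f y) c := Iso.refl _
  let E₂ : FibCat.fp f (BasedFunctor.comp c y) ⥤ᵇ FibCat.fp f (BasedFunctor.comp y' g) :=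
    fpMap (γ := BasedFunctor.id 𝒴) (α := BasedFunctor.id 𝒳) (β := BasedFunctor.id 𝒱') (G' := f)
      (G := f) (f' := BasedFunctor.comp c y) (f := BasedFunctor.comp y' g) (Iso.refl _)
      (show BasedFunctor.comp (BasedFunctor.comp c y) (BasedFunctor.id 𝒴) ≅
        BasedFunctor.comp (BasedFunctor.id 𝒱') (BasedFunctor.comp y' g) from θ.symm)
  have hE₂ : FibCat.IsEquivOver E₂ := isEquivOver_fpMap _ _ (isEquivOver_id _) (isEquivOver_id _)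
  let i₂ : BasedFunctor.comp E₂ (FibCat.fpSnd f (BasedFunctor.comp y' g)) ≅
      FibCat.fpSnd f (BasedFunctor.comp c y) := Iso.refl _
  let E₃ : FibCat.fp f (BasedFunctor.comp y' g) ⥤ᵇ FibCat.fp (BasedFunctor.comp y' g) f :=
    fpSwap f (BasedFunctor.comp y' g)
  have hE₃ : FibCat.IsEquivOver E₃ := isEquivOver_fpSwap _ _
  let i₃ : BasedFunctor.comp E₃ (FibCat.fpFst (BasedFunctor.comp y' g) f) ≅
      FibCat.fpSnd f (BasedFunctor.comp y' g) := Iso.refl _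
  let i₄ : BasedFunctor.comp (paste1 y' g f) (FibCat.fpFst (BasedFunctor.comp y' g) f) ≅
      FibCat.fpFst y' (FibCat.fpFst g f) := Iso.refl _
  obtain ⟨E₄, hE₄, ⟨j₄⟩⟩ := exists_inv_compat (paste1 y' g f) (isEquivOver_paste1 y' g f)
    (FibCat.fpFst y' (FibCat.fpFst g f)) (FibCat.fpFst (BasedFunctor.comp y' g) f) i₄
  let E₅ : FibCat.fp y' (FibCat.fpFst g f) ⥤ᵇ FibCat.fp (FibCat.fpFst g f) y' :=
    fpSwap y' (FibCat.fpFst g f)
  have hE₅ : FibCat.IsEquivOver E₅ := isEquivOver_fpSwap _ _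
  let i₅ : BasedFunctor.comp E₅ (FibCat.fpSnd (FibCat.fpFst g f) y') ≅
      FibCat.fpFst y' (FibCat.fpFst g f) := Iso.refl _
  refine ⟨BasedFunctor.comp E₁ (BasedFunctor.comp E₂ (BasedFunctor.comp E₃
    (BasedFunctor.comp E₄ E₅))), ?_, ⟨?_⟩⟩
  · exact isEquivOver_comp _ _ hE₁ (isEquivOver_comp _ _ hE₂ (isEquivOver_comp _ _ hE₃
      (isEquivOver_comp _ _ hE₄ hE₅)))
  · exact (show BasedFunctor.comp (BasedFunctor.comp E₁ (BasedFunctor.comp E₂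
        (BasedFunctor.comp E₃ (BasedFunctor.comp E₄ E₅)))) (FibCat.fpSnd (FibCat.fpFst g f) y') ≅
        BasedFunctor.comp E₁ (BasedFunctor.comp E₂ (BasedFunctor.comp E₃ (BasedFunctor.comp E₄
          (BasedFunctor.comp E₅ (FibCat.fpSnd (FibCat.fpFst g f) y'))))) from Iso.refl _) ≪≫
      wl E₁ (wl E₂ (wl E₃ (wl E₄ i₅))) ≪≫ wl E₁ (wl E₂ (wl E₃ j₄)) ≪≫ wl E₁ (wl E₂ i₃) ≪≫
      wl E₁ i₂ ≪≫ i₁

/-- The cube: a functor to `𝒳 ×_𝒴 𝒱` base changes along `𝒱' ⟶ 𝒱` to a functor to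
`(𝒴' ×_𝒴 𝒳) ×_𝒴' 𝒱'`. -/
theorem cube (u : 𝒰 ⥤ᵇ FibCat.fp f y) :
    ∃ u' : FibCat.fp (BasedFunctor.comp u (FibCat.fpSnd f y)) c ⥤ᵇ
        FibCat.fp (FibCat.fpFst g f) y',
      (∀ Q : MorphismProperty (AlgSp.Sp S), AlgSt.RepByAlgSpWith Q u →
        AlgSt.RepByAlgSpWith Q u') ∧
      Nonempty (BasedFunctor.comp u' (FibCat.fpSnd (FibCat.fpFst g f) y') ≅
        FibCat.fpSnd (BasedFunctor.comp u (FibCat.fpSnd f y)) c) := by
  obtain ⟨Φ, hΦ, ⟨iΦ⟩⟩ := cubeEquiv f g y y' c θ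
  refine ⟨BasedFunctor.comp (kappa u (FibCat.fpSnd f y) c) Φ, fun Q hu => ?_, ⟨?_⟩⟩
  · exact repByAlgSpWith_of_square Q (BasedFunctor.comp (kappa u (FibCat.fpSnd f y) c) Φ)
      (kappa u (FibCat.fpSnd f y) c) (BasedFunctor.id _) Φ (isEquivOver_id _) hΦ (Iso.refl _)
      (repByAlgSpWith_kappa Q u _ c hu)
  · exact (show BasedFunctor.comp (BasedFunctor.comp (kappa u (FibCat.fpSnd f y) c) Φ)
        (FibCat.fpSnd (FibCat.fpFst g f) y') ≅
        BasedFunctor.comp (kappa u (FibCat.fpSnd f y) c)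
          (BasedFunctor.comp Φ (FibCat.fpSnd (FibCat.fpFst g f) y')) from Iso.refl _) ≪≫
      wl (kappa u (FibCat.fpSnd f y) c) iΦ ≪≫
      (show BasedFunctor.comp (kappa u (FibCat.fpSnd f y) c) (FibCat.fpSnd (FibCat.fpSnd f y) c) ≅
        FibCat.fpSnd (BasedFunctor.comp u (FibCat.fpSnd f y)) c from Iso.refl _)

end Cube

section Pullback

variable {S : Scheme.{u}} {U V V' : Over S} (h : U ⟶ V) (c : V' ⟶ V)

/-- The slice over the fibre product of schemes is the 2-fibre product of the slices. -/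
theorem exists_pullbackEquiv :
    ∃ R : FibCat.overCat (pullback h c) ⥤ᵇ FibCat.fp (AlgSt.overMap h) (AlgSt.overMap c),
      FibCat.IsEquivOver R ∧
      Nonempty (BasedFunctor.comp R (FibCat.fpSnd (AlgSt.overMap h) (AlgSt.overMap c)) ≅
        AlgSt.overMap (pullback.snd h c)) := by
  have hfib : FibCat.IsFibGrpd (FibCat.fp (AlgSt.overMap h) (AlgSt.overMap c)).p :=
    isFibGrpd_fp _ _ (isFibGrpd_overForget U) (isFibGrpd_overForget V') (isFibGrpd_overForget V)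
  let E' : FibCat.fp (AlgSt.overMap h) (AlgSt.overMap c) ⥤ᵇ FibCat.overCat (pullback h c) :=
    toOverOfTerminal (Groth.Agent.Lib.Helper10.FibOverMap.tIsTerminal h c)
  have hE' : FibCat.IsEquivOver E' := isEquivOver_toOverOfTerminal hfib _
  have i : BasedFunctor.comp E' (AlgSt.overMap (pullback.snd h c)) ≅
      FibCat.fpSnd (AlgSt.overMap h) (AlgSt.overMap c) :=
    overIso _ _ (fun x => by
      have hx : (FibCat.overCat V).p.IsHomLift (𝟙 ((FibCat.overCat U).p.obj x.obj.fst))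
          x.obj.iso.hom := x.property
      have h2 := IsHomLift.fac' (FibCat.overCat V).p (𝟙 ((FibCat.overCat U).p.obj x.obj.fst))
        x.obj.iso.hom
      change x.obj.iso.hom.left = _ at h2
      show Groth.Agent.Lib.Helper10.FibOverMap.toTLeft x ≫ pullback.snd h c =
        eqToHom _ ≫ x.obj.snd.hom
      rw [Groth.Agent.Lib.Helper10.FibOverMap.toTLeft_snd, h2]
      simp)
  exact exists_inv_compat E' hE' _ _ i

end Pullback

section CubeScheme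

variable {S : Scheme.{u}} {𝒳 𝒴 𝒴' : AlgSt.Cat S}

/-- The cube for scheme charts: the base change of a chart `U ⟶ 𝒳 ×_𝒴 V` along `V' ⟶ V` is a
chart `U ×_V V' ⟶ (𝒴' ×_𝒴 𝒳) ×_𝒴' V'`. -/
theorem cube_scheme (f : 𝒳 ⥤ᵇ 𝒴) (g : 𝒴' ⥤ᵇ 𝒴) {U V V' : Over S}
    (y : FibCat.overCat V ⥤ᵇ 𝒴) (y' : FibCat.overCat V' ⥤ᵇ 𝒴') (c : V' ⟶ V)
    (θ : BasedFunctor.comp y' g ≅ BasedFunctor.comp (AlgSt.overMap c) y)
    (u : FibCat.overCat U ⥤ᵇ FibCat.fp f y) :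
    ∃ u' : FibCat.overCat (pullback (homOfOver (BasedFunctor.comp u (FibCat.fpSnd f y))) c) ⥤ᵇ
        FibCat.fp (FibCat.fpFst g f) y',
      (∀ Q : MorphismProperty (AlgSp.Sp S), AlgSt.RepByAlgSpWith Q u →
        AlgSt.RepByAlgSpWith Q u') ∧
      Nonempty (BasedFunctor.comp u' (FibCat.fpSnd (FibCat.fpFst g f) y') ≅
        AlgSt.overMap (pullback.snd (homOfOver (BasedFunctor.comp u (FibCat.fpSnd f y))) c)) := by
  let H : FibCat.overCat U ⥤ᵇ FibCat.overCat V := BasedFunctor.comp u (FibCat.fpSnd f y)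
  obtain ⟨u₀, hu₀, ⟨i₀⟩⟩ := cube f g y y' (AlgSt.overMap c) θ u
  obtain ⟨R₁, hR₁, ⟨i₁⟩⟩ := exists_pullbackEquiv (homOfOver H) c
  have := id_full (FibCat.overCat V)
  have := id_faithful (FibCat.overCat V)
  let R₂ : FibCat.fp (AlgSt.overMap (homOfOver H)) (AlgSt.overMap c) ⥤ᵇ
      FibCat.fp H (AlgSt.overMap c) :=
    fpMap (γ := BasedFunctor.id (FibCat.overCat V)) (α := BasedFunctor.id (FibCat.overCat U))
      (β := BasedFunctor.id (FibCat.overCat V')) (G' := AlgSt.overMap (homOfOver H)) (G := H)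
      (f' := AlgSt.overMap c) (f := AlgSt.overMap c)
      (show BasedFunctor.comp (AlgSt.overMap (homOfOver H)) (BasedFunctor.id _) ≅
        BasedFunctor.comp (BasedFunctor.id _) H from (isoOverMap H).symm) (Iso.refl _)
  have hR₂ : FibCat.IsEquivOver R₂ := isEquivOver_fpMap _ _ (isEquivOver_id _) (isEquivOver_id _)
  let i₂ : BasedFunctor.comp R₂ (FibCat.fpSnd H (AlgSt.overMap c)) ≅
      FibCat.fpSnd (AlgSt.overMap (homOfOver H)) (AlgSt.overMap c) := Iso.refl _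
  refine ⟨BasedFunctor.comp R₁ (BasedFunctor.comp R₂ u₀), fun Q hu => ?_, ⟨?_⟩⟩
  · exact repByAlgSpWith_equiv_comp Q R₁ hR₁ _
      (repByAlgSpWith_equiv_comp Q R₂ hR₂ _ (hu₀ Q hu))
  · exact (show BasedFunctor.comp (BasedFunctor.comp R₁ (BasedFunctor.comp R₂ u₀))
        (FibCat.fpSnd (FibCat.fpFst g f) y') ≅
        BasedFunctor.comp R₁ (BasedFunctor.comp R₂
          (BasedFunctor.comp u₀ (FibCat.fpSnd (FibCat.fpFst g f) y'))) from Iso.refl _) ≪≫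
      wl R₁ (wl R₂ i₀) ≪≫ wl R₁ i₂ ≪≫ i₁

end CubeScheme

end Groth.Agent.Lib.Helper16.AlgStDC
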