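import Mathlib
import Groth.Agent.Lib.Helper16.AlgSt.Cube
import Groth.Agent.Lib.Helper16.FlatSmoothLocal
import Groth.Agent.Lib.Helper10.AlgStPtsSurj
import Groth.Agent.Lib.Helper10.AlgStPtsFib
import Groth.Agent.Lib.Helper3.FlatDescent

/-!
# Flat morphisms of algebraic stacks: descent rows
-/

set_option autoImplicit false
set_option backward.isDefEq.respectTransparency false
set_option backward.isDefEq.respectTransparency.types false

universe u

open CategoryTheory CategoryTheory.Limits AlgebraicGeometry Opposite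

namespace Groth.Agent.Lib.Helper16.AlgStDC

open Groth.Agent.Lib.Helper10.Fib Groth.Agent.Lib.Helper10.StkPsh
open Groth.Agent.Lib.Helper10.AlgStRep Groth.Agent.Lib.Helper10.LiftSqBC
open Groth.Agent.Lib.Helper28.AlgSt.PshFun Groth.Agent.Lib.Helper28.AlgSt.PshPull
open Groth.Agent.Lib.Helper28.AlgSt.ClsPsh Groth.Agent.Lib.Helper28.AlgSt.Bridge
open Groth.Agent.Lib.Helper28.AlgSt.Key Groth.Agent.Lib.Helper28.AlgSt.PropInst
open Groth.Agent.Lib.Helper28.AlgSt.Comp Groth.Agent.Lib.Helper28.AlgSt.Whisker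
open Groth.Agent.Lib.Helper28.AlgSt.SpaceCalc Groth.Agent.Lib.Helper28.AlgSt.Chart
open Groth.Agent.Lib.Helper28.AlgSt.ChartOver Groth.Agent.Lib.Helper28.AlgSt.FpStack
open Groth.Agent.Lib.Helper28.AlgSt.DiagComp Groth.Agent.Lib.Helper28.AlgSt.Descent

section CompLift

variable {S : Scheme.{u}} {𝒳 𝒴 𝒵 𝒲 𝒱 : AlgSt.Cat S} (f : 𝒳 ⥤ᵇ 𝒴) (g : 𝒴 ⥤ᵇ 𝒵) (w : 𝒲 ⥤ᵇ 𝒵)
  (v : 𝒱 ⥤ᵇ FibCat.fp g w)

/-- The functor `𝒳 ×_𝒴 𝒱 ⟶ 𝒳 ×_𝒵 𝒲` for `𝒱 ⟶ 𝒴 ×_𝒵 𝒲`, a base change of the latter. -/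
theorem exists_compLift :
    ∃ Θ : FibCat.fp f (BasedFunctor.comp v (FibCat.fpFst g w)) ⥤ᵇ
        FibCat.fp (BasedFunctor.comp f g) w,
      (∀ Q : MorphismProperty (AlgSp.Sp S), AlgSt.RepByAlgSpWith Q v →
        AlgSt.RepByAlgSpWith Q Θ) ∧
      Nonempty (BasedFunctor.comp Θ (FibCat.fpSnd (BasedFunctor.comp f g) w) ≅
        BasedFunctor.comp (FibCat.fpSnd f (BasedFunctor.comp v (FibCat.fpFst g w)))
          (BasedFunctor.comp v (FibCat.fpSnd g w))) := by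
  let j : BasedFunctor.comp (paste2 f (FibCat.fpFst g w) v)
      (FibCat.fpSnd f (BasedFunctor.comp v (FibCat.fpFst g w))) ≅
      FibCat.fpSnd (FibCat.fpSnd f (FibCat.fpFst g w)) v := Iso.refl _
  obtain ⟨T', hT', ⟨iT'⟩⟩ := exists_inv_compat (paste2 f (FibCat.fpFst g w) v)
    (isEquivOver_paste2 f (FibCat.fpFst g w) v)
    (FibCat.fpSnd (FibCat.fpSnd f (FibCat.fpFst g w)) v)
    (FibCat.fpSnd f (BasedFunctor.comp v (FibCat.fpFst g w))) j
  let M : FibCat.fp (FibCat.fpSnd f (FibCat.fpFst g w)) v ⥤ᵇ FibCat.fp f (FibCat.fpFst g w) :=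
    FibCat.fpFst (FibCat.fpSnd f (FibCat.fpFst g w)) v
  let N : FibCat.fp f (FibCat.fpFst g w) ⥤ᵇ FibCat.fp (BasedFunctor.comp f g) w := paste1 f g w
  let iN : BasedFunctor.comp N (FibCat.fpSnd (BasedFunctor.comp f g) w) ≅
      BasedFunctor.comp (FibCat.fpSnd f (FibCat.fpFst g w)) (FibCat.fpSnd g w) := Iso.refl _
  refine ⟨BasedFunctor.comp T' (BasedFunctor.comp M N), fun Q hv => ?_, ⟨?_⟩⟩
  · have hM : AlgSt.RepByAlgSpWith Q M :=
      repByAlgSpWith_fpFst Q v (FibCat.fpSnd f (FibCat.fpFst g w)) hv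
    have hMN : AlgSt.RepByAlgSpWith Q (BasedFunctor.comp M N) :=
      repByAlgSpWith_of_square Q (BasedFunctor.comp M N) M (BasedFunctor.id _) N
        (isEquivOver_id _) (isEquivOver_paste1 f g w) (Iso.refl _) hM
    exact repByAlgSpWith_equiv_comp Q T' hT' _ hMN
  · exact (show BasedFunctor.comp (BasedFunctor.comp T' (BasedFunctor.comp M N))
        (FibCat.fpSnd (BasedFunctor.comp f g) w) ≅
        BasedFunctor.comp T' (BasedFunctor.comp M
          (BasedFunctor.comp N (FibCat.fpSnd (BasedFunctor.comp f g) w))) from Iso.refl _) ≪≫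
      wl T' (wl M iN) ≪≫
      (show BasedFunctor.comp T' (BasedFunctor.comp M
          (BasedFunctor.comp (FibCat.fpSnd f (FibCat.fpFst g w)) (FibCat.fpSnd g w))) ≅
        BasedFunctor.comp T' (BasedFunctor.comp
          (BasedFunctor.comp M (FibCat.fpSnd f (FibCat.fpFst g w))) (FibCat.fpSnd g w)) from
        Iso.refl _) ≪≫
      wl T' (wr (FibCat.fpIso (FibCat.fpSnd f (FibCat.fpFst g w)) v) (FibCat.fpSnd g w)) ≪≫
      (show BasedFunctor.comp T' (BasedFunctor.comp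
          (BasedFunctor.comp (FibCat.fpSnd (FibCat.fpSnd f (FibCat.fpFst g w)) v) v)
          (FibCat.fpSnd g w)) ≅
        BasedFunctor.comp (BasedFunctor.comp T'
          (FibCat.fpSnd (FibCat.fpSnd f (FibCat.fpFst g w)) v))
          (BasedFunctor.comp v (FibCat.fpSnd g w)) from Iso.refl _) ≪≫
      wr iT' (BasedFunctor.comp v (FibCat.fpSnd g w))

end CompLift

section Surj

variable {S : Scheme.{u}} {𝒳 𝒴 : AlgSt.Cat S}

/-- A functor between slices which is surjective on points comes from a surjective morphism. -/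
theorem surjective_homOfOver_of_points {T U : Over S}
    (G : FibCat.overCat T ⥤ᵇ FibCat.overCat U)
    (hG : Function.Surjective (AlgSt.Points.map G)) : Surjective (homOfOver G).left := by
  refine ⟨fun u => ?_⟩
  obtain ⟨p, hp⟩ := hG (AlgSt.Points.mk (H10PT.resFPt U u))
  obtain ⟨q, rfl⟩ := AlgSt.Points.mk_surjective p
  rw [H10PT.mk_eq_mk_resFPt q, H10PT.map_resFPt] at hp
  have := H10PT.ptOf_eq_of_mk_eq hp
  rw [H10PT.ptOf_resFPt, H10PT.ptOf_resFPt] at this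
  exact ⟨H10PT.ptOf q, this⟩

/-- The base change of a morphism surjective on points is surjective on points. -/
theorem surjective_points_fpSnd {𝒱 : AlgSt.Cat S} (h𝒳 : FibCat.IsFibGrpd 𝒳.p)
    (h𝒴 : FibCat.IsFibGrpd 𝒴.p) (h𝒱 : FibCat.IsFibGrpd 𝒱.p) (f : 𝒳 ⥤ᵇ 𝒴) (y : 𝒱 ⥤ᵇ 𝒴)
    (hf : AlgSt.IsSurjective f) :
    Function.Surjective (AlgSt.Points.map (FibCat.fpSnd f y)) := by
  intro x
  obtain ⟨z, hz⟩ := hf (AlgSt.Points.map y x)
  obtain ⟨w, -, hw⟩ := H10PT.exists_fp_point h𝒱 h𝒴 h𝒳 y f z x hz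
  exact ⟨w, hw⟩

end Surj

section Rows

variable {S : Scheme.{u}} {𝒳 𝒴 𝒵 : AlgSt.Cat S}

/-- If `f` is flat and surjective and `f ≫ g` is flat, then `g` is flat. -/
theorem locQ_flat_of_comp_surj (h𝒳 : AlgSt.IsAlgStack Scheme.fppfPrecoverage 𝒳)
    (h𝒴 : AlgSt.IsAlgStack Scheme.fppfPrecoverage 𝒴)
    (h𝒵 : AlgSt.IsAlgStack Scheme.fppfPrecoverage 𝒵) (f : 𝒳 ⥤ᵇ 𝒴) (g : 𝒴 ⥤ᵇ 𝒵)
    (hf₁ : AlgSt.LocQ (AlgSp.LocP @Flat) f) (hf₂ : AlgSt.IsSurjective f)
    (hfg : AlgSt.LocQ (AlgSp.LocP @Flat) (BasedFunctor.comp f g)) :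
    AlgSt.LocQ (AlgSp.LocP @Flat) g := by
  have hP := Groth.Agent.Lib.Helper16.isSmoothLocalST_locP_flat (S := S)
  obtain ⟨W, w, hw₁, hw₂⟩ := h𝒵.atlas
  have hWa := H10PT.isAlgStack_overCat W
  have h𝒫 : AlgSt.IsAlgStack Scheme.fppfPrecoverage (FibCat.fp g w) :=
    isAlgStack_fp h𝒵.isStack h𝒵.diag h𝒴 hWa g w
  obtain ⟨V, v, hv₁, hv₂⟩ := h𝒫.atlas
  have hV := isFibGrpd_overForget V
  have hy₁ : AlgSt.RepByAlgSpWith (AlgSp.LocP @Smooth)
      (BasedFunctor.comp v (FibCat.fpFst g w)) :=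
    repByAlgSpWith_comp_smooth hV h𝒫.isStack.1 v _ hv₁ (repByAlgSpWith_fpFst _ w g hw₁)
  have hy₂ : AlgSt.RepByAlgSpWith AlgSp.IsSurjectiveMor
      (BasedFunctor.comp v (FibCat.fpFst g w)) :=
    repByAlgSpWith_comp_surjective hV h𝒫.isStack.1 v _ hv₂ (repByAlgSpWith_fpFst _ w g hw₂)
  have hVa := H10PT.isAlgStack_overCat V
  have h𝒬 : AlgSt.IsAlgStack Scheme.fppfPrecoverage
      (FibCat.fp f (BasedFunctor.comp v (FibCat.fpFst g w))) :=
    isAlgStack_fp h𝒴.isStack h𝒴.diag h𝒳 hVa f _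
  obtain ⟨U, u, hu₁, hu₂⟩ := h𝒬.atlas
  have hU := isFibGrpd_overForget U
  have hh : Flat (homOfOver (BasedFunctor.comp u
      (FibCat.fpSnd f (BasedFunctor.comp v (FibCat.fpFst g w))))).left :=
    AlgSp.locP_yon_map (all_squares_atlas f _ u hP h𝒳.isStack.1 h𝒴.isStack.1 hf₁ hy₁ hu₁)
  have hs : Surjective (homOfOver (BasedFunctor.comp u
      (FibCat.fpSnd f (BasedFunctor.comp v (FibCat.fpFst g w))))).left :=
    surjective_homOfOver_of_points _ (by
      rw [Groth.Agent.Lib.Helper10.AlgStRep.points_map_comp]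
      exact (surjective_points_fpSnd h𝒳.isStack.1 h𝒴.isStack.1 hV f _ hf₂).comp
        (H10PT.isSurjective_of_rep h𝒬.isStack.1 u hu₂))
  obtain ⟨Θ, hΘ, ⟨iΘ⟩⟩ := exists_compLift f g w v
  have hu₂' : AlgSt.RepByAlgSpWith (AlgSp.LocP @Smooth) (BasedFunctor.comp u Θ) :=
    repByAlgSpWith_comp_smooth hU h𝒬.isStack.1 u Θ hu₁ (hΘ _ hv₁)
  have hκ := AlgSp.locP_yon_map (all_squares_atlas (BasedFunctor.comp f g) w
    (BasedFunctor.comp u Θ) hP h𝒳.isStack.1 h𝒵.isStack.1 hfg hw₁ hu₂')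
  have e : BasedFunctor.comp (BasedFunctor.comp u Θ) (FibCat.fpSnd (BasedFunctor.comp f g) w) ≅
      AlgSt.overMap (homOfOver (BasedFunctor.comp u
          (FibCat.fpSnd f (BasedFunctor.comp v (FibCat.fpFst g w)))) ≫
        homOfOver (BasedFunctor.comp v (FibCat.fpSnd g w))) :=
    (show BasedFunctor.comp (BasedFunctor.comp u Θ) (FibCat.fpSnd (BasedFunctor.comp f g) w) ≅
      BasedFunctor.comp u (BasedFunctor.comp Θ (FibCat.fpSnd (BasedFunctor.comp f g) w)) from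
      Iso.refl _) ≪≫
    wl u iΘ ≪≫
    (show BasedFunctor.comp u (BasedFunctor.comp
        (FibCat.fpSnd f (BasedFunctor.comp v (FibCat.fpFst g w)))
        (BasedFunctor.comp v (FibCat.fpSnd g w))) ≅
      BasedFunctor.comp (BasedFunctor.comp u
        (FibCat.fpSnd f (BasedFunctor.comp v (FibCat.fpFst g w))))
        (BasedFunctor.comp v (FibCat.fpSnd g w)) from Iso.refl _) ≪≫
    wr (isoOverMap (BasedFunctor.comp u
      (FibCat.fpSnd f (BasedFunctor.comp v (FibCat.fpFst g w)))))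
      (BasedFunctor.comp v (FibCat.fpSnd g w)) ≪≫
    wl (AlgSt.overMap (homOfOver (BasedFunctor.comp u
      (FibCat.fpSnd f (BasedFunctor.comp v (FibCat.fpFst g w))))))
      (isoOverMap (BasedFunctor.comp v (FibCat.fpSnd g w))) ≪≫
    overMapCompIso _ _
  have heq := (homOfOver_eq_of_iso e).trans (homOfOver_overMap _)
  rw [heq, Over.comp_left] at hκ
  haveI := hh
  haveI := hs
  haveI := hκ
  have hk : Flat (homOfOver (BasedFunctor.comp v (FibCat.fpSnd g w))).left :=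
    Groth.Agent.Lib.Helper3.flat_of_flat_comp_of_surjective
      (homOfOver (BasedFunctor.comp u
        (FibCat.fpSnd f (BasedFunctor.comp v (FibCat.fpFst g w))))).left _
  exact ⟨V, W, BasedFunctor.comp v (FibCat.fpFst g w), w,
    homOfOver (BasedFunctor.comp v (FibCat.fpSnd g w)), sqAlpha g w v, hy₁, hy₂, hw₁,
    locP_yon_of Groth.Agent.Lib.Helper16.etLocalST_flat _ hk⟩

/-- Flatness descends along flat surjective base change. -/
theorem locQ_flat_descent (h𝒳 : AlgSt.IsAlgStack Scheme.fppfPrecoverage 𝒳)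
    (h𝒴 : AlgSt.IsAlgStack Scheme.fppfPrecoverage 𝒴)
    (h𝒵 : AlgSt.IsAlgStack Scheme.fppfPrecoverage 𝒵) (f : 𝒳 ⥤ᵇ 𝒴) (z : 𝒵 ⥤ᵇ 𝒴)
    (hz₁ : AlgSt.LocQ (AlgSp.LocP @Flat) z) (hz₂ : AlgSt.IsSurjective z)
    (hq : AlgSt.LocQ (AlgSp.LocP @Flat) (FibCat.fpFst z f)) :
    AlgSt.LocQ (AlgSp.LocP @Flat) f := by
  have hP := Groth.Agent.Lib.Helper16.isSmoothLocalST_locP_flat (S := S)
  obtain ⟨V, y, hy₁, hy₂⟩ := h𝒴.atlas
  have hVa := H10PT.isAlgStack_overCat V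
  have hV := isFibGrpd_overForget V
  have h𝒬 : AlgSt.IsAlgStack Scheme.fppfPrecoverage (FibCat.fp f y) :=
    isAlgStack_fp h𝒴.isStack h𝒴.diag h𝒳 hVa f y
  obtain ⟨U, u, hu₁, hu₂⟩ := h𝒬.atlas
  have hU := isFibGrpd_overForget U
  have hx₁ := repByAlgSpWith_comp_smooth hU h𝒬.isStack.1 u _ hu₁
    (repByAlgSpWith_fpFst _ y f hy₁)
  have hx₂ := repByAlgSpWith_comp_surjective hU h𝒬.isStack.1 u _ hu₂
    (repByAlgSpWith_fpFst _ y f hy₂)
  have hℛ : AlgSt.IsAlgStack Scheme.fppfPrecoverage (FibCat.fp z y) :=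
    isAlgStack_fp h𝒴.isStack h𝒴.diag h𝒵 hVa z y
  obtain ⟨Z', r, hr₁, hr₂⟩ := hℛ.atlas
  have hZ' := isFibGrpd_overForget Z'
  have hz'₁ : AlgSt.RepByAlgSpWith (AlgSp.LocP @Smooth)
      (BasedFunctor.comp r (FibCat.fpFst z y)) :=
    repByAlgSpWith_comp_smooth hZ' hℛ.isStack.1 r _ hr₁ (repByAlgSpWith_fpFst _ y z hy₁)
  have hc : Flat (homOfOver (BasedFunctor.comp r (FibCat.fpSnd z y))).left :=
    AlgSp.locP_yon_map (all_squares_atlas z y r hP h𝒵.isStack.1 h𝒴.isStack.1 hz₁ hy₁ hr₁)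
  have hcs : Surjective (homOfOver (BasedFunctor.comp r (FibCat.fpSnd z y))).left :=
    surjective_homOfOver_of_points _ (by
      rw [Groth.Agent.Lib.Helper10.AlgStRep.points_map_comp]
      exact (surjective_points_fpSnd h𝒵.isStack.1 h𝒴.isStack.1 hV z y hz₂).comp
        (H10PT.isSurjective_of_rep hℛ.isStack.1 r hr₂))
  obtain ⟨u', hu', ⟨i⟩⟩ := cube_scheme f z y (BasedFunctor.comp r (FibCat.fpFst z y))
    (homOfOver (BasedFunctor.comp r (FibCat.fpSnd z y))) (sqAlpha z y r) u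
  have h𝒬z : FibCat.IsFibGrpd (FibCat.fp z f).p :=
    isFibGrpd_fp z f h𝒵.isStack.1 h𝒳.isStack.1 h𝒴.isStack.1
  have hpr := AlgSp.locP_yon_map (all_squares_atlas (FibCat.fpFst z f)
    (BasedFunctor.comp r (FibCat.fpFst z y)) u' hP h𝒬z h𝒵.isStack.1 hq hz'₁ (hu' _ hu₁))
  have heq := (homOfOver_eq_of_iso i).trans (homOfOver_overMap _)
  rw [heq] at hpr
  have sq := Groth.Agent.Lib.Helper16.isPullback_left_forget
    (homOfOver (BasedFunctor.comp u (FibCat.fpSnd f y)))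
    (homOfOver (BasedFunctor.comp r (FibCat.fpSnd z y)))
  haveI := hpr
  haveI := hc
  haveI : Flat (pullback.fst (homOfOver (BasedFunctor.comp u (FibCat.fpSnd f y)))
      (homOfOver (BasedFunctor.comp r (FibCat.fpSnd z y)))).left :=
    MorphismProperty.of_isPullback (P := @Flat) sq.flip hc
  haveI : Surjective (pullback.fst (homOfOver (BasedFunctor.comp u (FibCat.fpSnd f y)))
      (homOfOver (BasedFunctor.comp r (FibCat.fpSnd z y)))).left :=
    MorphismProperty.of_isPullback (P := @Surjective) sq.flip hcs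
  haveI : Flat ((pullback.fst (homOfOver (BasedFunctor.comp u (FibCat.fpSnd f y)))
      (homOfOver (BasedFunctor.comp r (FibCat.fpSnd z y)))).left ≫
      (homOfOver (BasedFunctor.comp u (FibCat.fpSnd f y))).left) := by
    rw [sq.w]; infer_instance
  have hh : Flat (homOfOver (BasedFunctor.comp u (FibCat.fpSnd f y))).left :=
    Groth.Agent.Lib.Helper3.flat_of_flat_comp_of_surjective
      (pullback.fst (homOfOver (BasedFunctor.comp u (FibCat.fpSnd f y)))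
        (homOfOver (BasedFunctor.comp r (FibCat.fpSnd z y)))).left _
  exact ⟨U, V, BasedFunctor.comp u (FibCat.fpFst f y), y,
    homOfOver (BasedFunctor.comp u (FibCat.fpSnd f y)), sqAlpha f y u, hx₁, hx₂, hy₁,
    locP_yon_of Groth.Agent.Lib.Helper16.etLocalST_flat _ hh⟩

end Rows

end Groth.Agent.Lib.Helper16.AlgStDC
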