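import Mathlib
import Groth.Agent.Lib.Helper16.AlgSt.LocQFlat
import Groth.Agent.Lib.Helper16.AlgSt.LocalLift
import Groth.Agent.Lib.Helper16.LocSurj

/-!
# Charts lift fppf locally along a flat, locally finitely presented, surjective morphism
-/

set_option autoImplicit false
set_option backward.isDefEq.respectTransparency false
set_option backward.isDefEq.respectTransparency.types false

universe u

open CategoryTheory CategoryTheory.Limits AlgebraicGeometry Opposite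

namespace Groth.Agent.Lib.Helper16.AlgStDC

open Groth.Agent.Lib.Helper10.Fib Groth.Agent.Lib.Helper10.StkPsh
open Groth.Agent.Lib.Helper10.AlgStRep Groth.Agent.Lib.Helper10.LiftSqBC
open Groth.Agent.Lib.Helper28.AlgSt.PshFun Groth.Agent.Lib.Helper28.AlgSt.PshPull
open Groth.Agent.Lib.Helper28.AlgSt.ClsPsh Groth.Agent.Lib.Helper28.AlgSt.Bridge
open Groth.Agent.Lib.Helper28.AlgSt.Key Groth.Agent.Lib.Helper28.AlgSt.PropInst
open Groth.Agent.Lib.Helper28.AlgSt.Comp Groth.Agent.Lib.Helper28.AlgSt.Whisker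
open Groth.Agent.Lib.Helper28.AlgSt.SpaceCalc Groth.Agent.Lib.Helper28.AlgSt.Chart
open Groth.Agent.Lib.Helper28.AlgSt.ChartOver Groth.Agent.Lib.Helper28.AlgSt.FpStack
open Groth.Agent.Lib.Helper28.AlgSt.DiagComp Groth.Agent.Lib.Helper28.AlgSt.Descent

variable {S : Scheme.{u}} {𝒳 𝒴 𝒵 : AlgSt.Cat S}

/-- A smooth chart of `𝒴` lifts to `𝒵` after an fppf cover, through a smooth chart of `𝒵`. -/
theorem exists_fppf_lift_of_smooth' (h𝒴 : AlgSt.IsAlgStack Scheme.fppfPrecoverage 𝒴)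
    (h𝒵 : AlgSt.IsAlgStack Scheme.fppfPrecoverage 𝒵) (z : 𝒵 ⥤ᵇ 𝒴)
    (hz₁ : AlgSt.LocQ (AlgSp.LocP @Flat) z)
    (hz₂ : AlgSt.LocQ (AlgSp.LocP @LocallyOfFinitePresentation) z)
    (hz₃ : AlgSt.IsSurjective z) {B : Over S} (b : FibCat.overCat B ⥤ᵇ 𝒴)
    (hb : AlgSt.RepByAlgSpWith (AlgSp.LocP @Smooth) b) :
    ∃ (T : Over S) (t : T ⟶ B) (ζ : FibCat.overCat T ⥤ᵇ 𝒵), Flat t.left ∧
      LocallyOfFinitePresentation t.left ∧ Surjective t.left ∧
      AlgSt.RepByAlgSpWith (AlgSp.LocP @Smooth) ζ ∧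
      Nonempty (BasedFunctor.comp ζ z ≅ BasedFunctor.comp (AlgSt.overMap t) b) := by
  have hP := Groth.Agent.Lib.Helper16.isSmoothLocalST_locP_flat (S := S)
  obtain ⟨A₂, B₂, a₂, b₂, m₂, α₂, ha₂₁, ha₂₂, hb₂, hPm₂⟩ := hz₂
  have hBa := H10PT.isAlgStack_overCat B
  have hA₂a := H10PT.isAlgStack_overCat A₂
  have hB := isFibGrpd_overForget B
  have hA₂ := isFibGrpd_overForget A₂
  have hB₂ := isFibGrpd_overForget B₂
  have h𝒜 : AlgSt.IsAlgStack Scheme.fppfPrecoverage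
      (FibCat.fp (BasedFunctor.comp (AlgSt.overMap m₂) b₂) b) :=
    isAlgStack_fp h𝒴.isStack h𝒴.diag hA₂a hBa _ b
  obtain ⟨T, q, hq₁, hq₂⟩ := h𝒜.atlas
  have hT := isFibGrpd_overForget T
  have lfpG := good_lfp (S := S)
  have hK : AlgSt.RepByAlgSpWith (AlgSp.LocP @LocallyOfFinitePresentation)
      (kappa (AlgSt.overMap m₂) b₂ b) :=
    repByAlgSpWith_kappa _ _ b₂ b (repByAlgSpWith_overMap _ lfpG.bc m₂ hPm₂)
  have hπ : AlgSt.RepByAlgSpWith (AlgSp.LocP @LocallyOfFinitePresentation) (FibCat.fpSnd b₂ b) :=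
    repByAlgSpWith_locP_mono Groth.Agent.Lib.Helper16.smooth_le_lfp' _
      (repByAlgSpWith_fpSnd _ b₂ b hb₂)
  have hfpb : FibCat.IsFibGrpd (FibCat.fp b₂ b).p := isFibGrpd_fp _ _ hB₂ hB h𝒴.isStack.1
  have hsnd : AlgSt.RepByAlgSpWith (AlgSp.LocP @LocallyOfFinitePresentation)
      (FibCat.fpSnd (BasedFunctor.comp (AlgSt.overMap m₂) b₂) b) :=
    repByAlgSpWith_iso _
      (show FibCat.fpSnd (BasedFunctor.comp (AlgSt.overMap m₂) b₂) b ≅
        BasedFunctor.comp (kappa (AlgSt.overMap m₂) b₂ b) (FibCat.fpSnd b₂ b) from Iso.refl _)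
      (repByAlgSpWith_comp_good lfpG h𝒜.isStack.1 hfpb _ _ hK hπ)
  have hqs : AlgSt.RepByAlgSpWith (AlgSp.LocP @LocallyOfFinitePresentation)
      (BasedFunctor.comp q (FibCat.fpSnd (BasedFunctor.comp (AlgSt.overMap m₂) b₂) b)) :=
    repByAlgSpWith_comp_good lfpG hT h𝒜.isStack.1 q _
      (repByAlgSpWith_locP_mono Groth.Agent.Lib.Helper16.smooth_le_lfp' _ hq₁) hsnd
  have := id_full 𝒴
  have := id_faithful 𝒴
  let E : FibCat.fp (BasedFunctor.comp (AlgSt.overMap m₂) b₂) b ⥤ᵇ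
      FibCat.fp (BasedFunctor.comp a₂ z) b :=
    fpMap (γ := BasedFunctor.id 𝒴) (α := BasedFunctor.id (FibCat.overCat A₂))
      (β := BasedFunctor.id (FibCat.overCat B)) (G' := BasedFunctor.comp (AlgSt.overMap m₂) b₂)
      (G := BasedFunctor.comp a₂ z) (f' := b) (f := b)
      (show BasedFunctor.comp (BasedFunctor.comp (AlgSt.overMap m₂) b₂) (BasedFunctor.id 𝒴) ≅
        BasedFunctor.comp (BasedFunctor.id _) (BasedFunctor.comp a₂ z) from α₂.symm) (Iso.refl _)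
  have hE : FibCat.IsEquivOver E := isEquivOver_fpMap _ _ (isEquivOver_id _) (isEquivOver_id _)
  obtain ⟨uT, huT⟩ : ∃ uT : FibCat.overCat T ⥤ᵇ FibCat.fp z b,
      uT = BasedFunctor.comp q (BasedFunctor.comp E (kappa a₂ z b)) := ⟨_, rfl⟩
  have huT₁ : AlgSt.RepByAlgSpWith (AlgSp.LocP @Smooth) uT := by
    rw [huT]
    exact repByAlgSpWith_comp_smooth hT h𝒜.isStack.1 q _ hq₁
      (repByAlgSpWith_equiv_comp _ E hE _ (repByAlgSpWith_kappa _ a₂ z b ha₂₁))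
  have huT₂ : AlgSt.RepByAlgSpWith AlgSp.IsSurjectiveMor uT := by
    rw [huT]
    exact repByAlgSpWith_comp_surjective hT h𝒜.isStack.1 q _ hq₂
      (repByAlgSpWith_equiv_comp _ E hE _ (repByAlgSpWith_kappa _ a₂ z b ha₂₂))
  have hflat : Flat (homOfOver (BasedFunctor.comp uT (FibCat.fpSnd z b))).left :=
    AlgSp.locP_yon_map (all_squares_atlas z b uT hP h𝒵.isStack.1 h𝒴.isStack.1 hz₁ hb huT₁)
  have e : BasedFunctor.comp uT (FibCat.fpSnd z b) ≅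
      BasedFunctor.comp q (FibCat.fpSnd (BasedFunctor.comp (AlgSt.overMap m₂) b₂) b) := by
    rw [huT]
    exact Iso.refl _
  have heq := homOfOver_eq_of_iso e
  have hlfp : LocallyOfFinitePresentation
      (homOfOver (BasedFunctor.comp uT (FibCat.fpSnd z b))).left := by
    rw [heq]
    exact prop_homOfOver' lfpG _ hqs
  have hfpzb : FibCat.IsFibGrpd (FibCat.fp z b).p :=
    isFibGrpd_fp _ _ h𝒵.isStack.1 hB h𝒴.isStack.1
  have hsurj : Surjective (homOfOver (BasedFunctor.comp uT (FibCat.fpSnd z b))).left :=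
    surjective_homOfOver_of_points _ (by
      rw [Groth.Agent.Lib.Helper10.AlgStRep.points_map_comp]
      exact (surjective_points_fpSnd h𝒵.isStack.1 h𝒴.isStack.1 hB z b hz₃).comp
        (H10PT.isSurjective_of_rep hfpzb uT huT₂))
  exact ⟨T, homOfOver (BasedFunctor.comp uT (FibCat.fpSnd z b)),
    BasedFunctor.comp uT (FibCat.fpFst z b), hflat, hlfp, hsurj,
    repByAlgSpWith_comp_smooth hT hfpzb uT _ huT₁ (repByAlgSpWith_fpFst _ b z hb),
    ⟨sqAlpha z b uT⟩⟩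

/-- A smooth chart of `𝒴` lifts to `𝒵` after an fppf cover. -/
theorem exists_fppf_lift_of_smooth (h𝒴 : AlgSt.IsAlgStack Scheme.fppfPrecoverage 𝒴)
    (h𝒵 : AlgSt.IsAlgStack Scheme.fppfPrecoverage 𝒵) (z : 𝒵 ⥤ᵇ 𝒴)
    (hz₁ : AlgSt.LocQ (AlgSp.LocP @Flat) z)
    (hz₂ : AlgSt.LocQ (AlgSp.LocP @LocallyOfFinitePresentation) z)
    (hz₃ : AlgSt.IsSurjective z) {B : Over S} (b : FibCat.overCat B ⥤ᵇ 𝒴)
    (hb : AlgSt.RepByAlgSpWith (AlgSp.LocP @Smooth) b) :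
    ∃ (T : Over S) (t : T ⟶ B) (ζ : FibCat.overCat T ⥤ᵇ 𝒵), Flat t.left ∧
      LocallyOfFinitePresentation t.left ∧ Surjective t.left ∧
      Nonempty (BasedFunctor.comp ζ z ≅ BasedFunctor.comp (AlgSt.overMap t) b) := by
  obtain ⟨T, t, ζ, h₁, h₂, h₃, -, h₅⟩ := exists_fppf_lift_of_smooth' h𝒴 h𝒵 z hz₁ hz₂ hz₃ b hb
  exact ⟨T, t, ζ, h₁, h₂, h₃, h₅⟩

/-- Every chart of `𝒴` lifts to `𝒵` after an fppf cover. -/
theorem exists_fppf_lift (h𝒴 : AlgSt.IsAlgStack Scheme.fppfPrecoverage 𝒴)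
    (h𝒵 : AlgSt.IsAlgStack Scheme.fppfPrecoverage 𝒵) (z : 𝒵 ⥤ᵇ 𝒴)
    (hz₁ : AlgSt.LocQ (AlgSp.LocP @Flat) z)
    (hz₂ : AlgSt.LocQ (AlgSp.LocP @LocallyOfFinitePresentation) z)
    (hz₃ : AlgSt.IsSurjective z) {U : Over S} (y : FibCat.overCat U ⥤ᵇ 𝒴) :
    ∃ (T : Over S) (t : T ⟶ U) (ζ : FibCat.overCat T ⥤ᵇ 𝒵), Flat t.left ∧
      LocallyOfFinitePresentation t.left ∧ Surjective t.left ∧
      Nonempty (BasedFunctor.comp ζ z ≅ BasedFunctor.comp (AlgSt.overMap t) y) := by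
  obtain ⟨B, b, hb₁, hb₂⟩ := h𝒴.atlas
  obtain ⟨T, t, ζ, ht₁, ht₂, ht₃, ⟨φ⟩⟩ := exists_fppf_lift_of_smooth h𝒴 h𝒵 z hz₁ hz₂ hz₃ b hb₁
  have hUa := H10PT.isAlgStack_overCat U
  have hBa := H10PT.isAlgStack_overCat B
  have hℬ : AlgSt.IsAlgStack Scheme.fppfPrecoverage (FibCat.fp y b) :=
    isAlgStack_fp h𝒴.isStack h𝒴.diag hUa hBa y b
  obtain ⟨U₁, q₁, hq₁₁, hq₁₂⟩ := hℬ.atlas
  have hU₁ := isFibGrpd_overForget U₁
  have hs₁ : AlgSt.RepByAlgSpWith (AlgSp.LocP @Smooth)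
      (BasedFunctor.comp q₁ (FibCat.fpFst y b)) :=
    repByAlgSpWith_comp_smooth hU₁ hℬ.isStack.1 q₁ _ hq₁₁ (repByAlgSpWith_fpFst _ b y hb₁)
  have hs₂ : AlgSt.RepByAlgSpWith AlgSp.IsSurjectiveMor
      (BasedFunctor.comp q₁ (FibCat.fpFst y b)) :=
    repByAlgSpWith_comp_surjective hU₁ hℬ.isStack.1 q₁ _ hq₁₂ (repByAlgSpWith_fpFst _ b y hb₂)
  obtain ⟨s, hs⟩ : ∃ s : U₁ ⟶ U, s = homOfOver (BasedFunctor.comp q₁ (FibCat.fpFst y b)) :=
    ⟨_, rfl⟩
  obtain ⟨s', hs'⟩ : ∃ s' : U₁ ⟶ B, s' = homOfOver (BasedFunctor.comp q₁ (FibCat.fpSnd y b)) :=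
    ⟨_, rfl⟩
  haveI hsm : Smooth s.left := by rw [hs]; exact prop_homOfOver' good_smooth _ hs₁
  haveI hsj : Surjective s.left := by rw [hs]; exact surjective_homOfOver _ hs₂
  have ψ : BasedFunctor.comp (AlgSt.overMap s) y ≅ BasedFunctor.comp (AlgSt.overMap s') b := by
    rw [hs, hs']
    exact wr (isoOverMap (BasedFunctor.comp q₁ (FibCat.fpFst y b))).symm y ≪≫
      (show BasedFunctor.comp (BasedFunctor.comp q₁ (FibCat.fpFst y b)) y ≅
        BasedFunctor.comp q₁ (BasedFunctor.comp (FibCat.fpFst y b) y) from Iso.refl _) ≪≫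
      wl q₁ (FibCat.fpIso y b) ≪≫
      (show BasedFunctor.comp q₁ (BasedFunctor.comp (FibCat.fpSnd y b) b) ≅
        BasedFunctor.comp (BasedFunctor.comp q₁ (FibCat.fpSnd y b)) b from Iso.refl _) ≪≫
      wr (isoOverMap (BasedFunctor.comp q₁ (FibCat.fpSnd y b))) b
  have sq := Groth.Agent.Lib.Helper16.isPullback_left_forget s' t
  haveI := ht₁
  haveI := ht₂
  haveI := ht₃
  haveI : Flat (pullback.fst s' t).left := MorphismProperty.of_isPullback (P := @Flat) sq.flip ht₁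
  haveI : LocallyOfFinitePresentation (pullback.fst s' t).left :=
    MorphismProperty.of_isPullback (P := @LocallyOfFinitePresentation) sq.flip ht₂
  haveI : Surjective (pullback.fst s' t).left :=
    MorphismProperty.of_isPullback (P := @Surjective) sq.flip ht₃
  refine ⟨pullback s' t, pullback.fst s' t ≫ s,
    BasedFunctor.comp (AlgSt.overMap (pullback.snd s' t)) ζ, ?_, ?_, ?_, ⟨?_⟩⟩
  · rw [Over.comp_left]; infer_instance
  · rw [Over.comp_left]; infer_instance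
  · rw [Over.comp_left]; infer_instance
  · exact (show BasedFunctor.comp (BasedFunctor.comp (AlgSt.overMap (pullback.snd s' t)) ζ) z ≅
        BasedFunctor.comp (AlgSt.overMap (pullback.snd s' t)) (BasedFunctor.comp ζ z) from
        Iso.refl _) ≪≫
      wl (AlgSt.overMap (pullback.snd s' t)) φ ≪≫
      (show BasedFunctor.comp (AlgSt.overMap (pullback.snd s' t))
          (BasedFunctor.comp (AlgSt.overMap t) b) ≅
        BasedFunctor.comp (BasedFunctor.comp (AlgSt.overMap (pullback.snd s' t))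
          (AlgSt.overMap t)) b from Iso.refl _) ≪≫
      wr (overMapCompIso (pullback.snd s' t) t) b ≪≫
      eqToIso (congrArg (fun k => BasedFunctor.comp (AlgSt.overMap k) b)
        (pullback.condition (f := s') (g := t)).symm) ≪≫
      wr (overMapCompIso (pullback.fst s' t) s').symm b ≪≫
      (show BasedFunctor.comp (BasedFunctor.comp (AlgSt.overMap (pullback.fst s' t))
          (AlgSt.overMap s')) b ≅
        BasedFunctor.comp (AlgSt.overMap (pullback.fst s' t))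
          (BasedFunctor.comp (AlgSt.overMap s') b) from Iso.refl _) ≪≫
      wl (AlgSt.overMap (pullback.fst s' t)) ψ.symm ≪≫
      (show BasedFunctor.comp (AlgSt.overMap (pullback.fst s' t))
          (BasedFunctor.comp (AlgSt.overMap s) y) ≅
        BasedFunctor.comp (BasedFunctor.comp (AlgSt.overMap (pullback.fst s' t))
          (AlgSt.overMap s)) y from Iso.refl _) ≪≫
      wr (overMapCompIso (pullback.fst s' t) s) y

/-- The local lifting hypothesis of `repByAlgSpWith_of_local_lift`. -/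
theorem local_lift_of_fppf (h𝒴 : AlgSt.IsAlgStack Scheme.fppfPrecoverage 𝒴)
    (h𝒵 : AlgSt.IsAlgStack Scheme.fppfPrecoverage 𝒵) (z : 𝒵 ⥤ᵇ 𝒴)
    (hz₁ : AlgSt.LocQ (AlgSp.LocP @Flat) z)
    (hz₂ : AlgSt.LocQ (AlgSp.LocP @LocallyOfFinitePresentation) z)
    (hz₃ : AlgSt.IsSurjective z) (U : Over S) (y : FibCat.overCat U ⥤ᵇ 𝒴) :
    ∃ R ∈ (QuotSh.J Scheme.fppfPrecoverage S) U,
      ∀ ⦃V : Over S⦄ (h : V ⟶ U), R.arrows h →
        ∃ zV : FibCat.overCat V ⥤ᵇ 𝒵,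
          Nonempty (BasedFunctor.comp zV z ≅ BasedFunctor.comp (AlgSt.overMap h) y) := by
  obtain ⟨T, t, ζ, ht₁, ht₂, ht₃, ⟨φ⟩⟩ := exists_fppf_lift h𝒴 h𝒵 z hz₁ hz₂ hz₃ y
  haveI := ht₁
  haveI := ht₂
  haveI := ht₃
  refine ⟨Sieve.generate (Presieve.singleton t),
    Groth.Agent.Lib.Helper16.sieve_mem_J_of_fppf t _
      ⟨T, 𝟙 _, t, Presieve.singleton.mk, Category.id_comp _⟩, ?_⟩
  rintro V h ⟨W, h₀, _, ⟨⟩, rfl⟩
  exact ⟨BasedFunctor.comp (AlgSt.overMap h₀) ζ,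
    ⟨(show BasedFunctor.comp (BasedFunctor.comp (AlgSt.overMap h₀) ζ) z ≅
        BasedFunctor.comp (AlgSt.overMap h₀) (BasedFunctor.comp ζ z) from Iso.refl _) ≪≫
      wl (AlgSt.overMap h₀) φ ≪≫
      (show BasedFunctor.comp (AlgSt.overMap h₀) (BasedFunctor.comp (AlgSt.overMap t) y) ≅
        BasedFunctor.comp (BasedFunctor.comp (AlgSt.overMap h₀) (AlgSt.overMap t)) y from
        Iso.refl _) ≪≫
      wr (overMapCompIso h₀ t) y⟩⟩

/-- Descent of `RepByAlgSpWith P` along a flat, locally finitely presented, surjective morphism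
of algebraic stacks. -/
theorem repByAlgSpWith_iff_fpFst_of_fppf (P : MorphismProperty (AlgSp.Sp S)) (hPb : BC P)
    (hP : AlgSp.IsLocalOnBase AlgSp.IsFppfCover P)
    (h𝒳 : AlgSt.IsAlgStack Scheme.fppfPrecoverage 𝒳)
    (h𝒴 : AlgSt.IsAlgStack Scheme.fppfPrecoverage 𝒴)
    (h𝒵 : AlgSt.IsAlgStack Scheme.fppfPrecoverage 𝒵) (f : 𝒳 ⥤ᵇ 𝒴) (hf : AlgSt.RepByAlgSp1 f)
    (z : 𝒵 ⥤ᵇ 𝒴) (hz₁ : AlgSt.LocQ (AlgSp.LocP @Flat) z)
    (hz₂ : AlgSt.LocQ (AlgSp.LocP @LocallyOfFinitePresentation) z)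
    (hz₃ : AlgSt.IsSurjective z) :
    AlgSt.RepByAlgSpWith P f ↔ AlgSt.RepByAlgSpWith P (FibCat.fpFst z f) :=
  ⟨fun h => repByAlgSpWith_fpFst P f z h, fun h' =>
    repByAlgSpWith_of_local_lift h𝒳.isStack.1 h𝒴.isStack.1 h𝒵.isStack.1 P hPb hP f hf z
      (local_lift_of_fppf h𝒴 h𝒵 z hz₁ hz₂ hz₃) h'⟩

end Groth.Agent.Lib.Helper16.AlgStDC
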