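import Mathlib
import Groth.Agent.Lib.Helper16.AlgSt.FppfLift
import Groth.Agent.Lib.Helper16.AlgSt.Cube

/-!
# `LocQ P` descends along a flat, locally finitely presented, surjective morphism
-/

set_option autoImplicit false
set_option backward.isDefEq.respectTransparency false
set_option backward.isDefEq.respectTransparency.types false

universe u

open CategoryTheory CategoryTheory.Limits AlgebraicGeometry Opposite

namespace Groth.Agent.Lib.Helper16.AlgStDC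

open Groth.Agent.Lib.Helper10.Fib Groth.Agent.Lib.Helper10.StkPsh
open Groth.Agent.Lib.Helper10.AlgStRep Groth.Agent.Lib.Helper10.LiftSqBC
open Groth.Agent.Lib.Helper28.AlgSt.PshFun Groth.Agent.Lib.Helper28.AlgSt.PshPull
open Groth.Agent.Lib.Helper28.AlgSt.ClsPsh Groth.Agent.Lib.Helper28.AlgSt.Bridge
open Groth.Agent.Lib.Helper28.AlgSt.Key Groth.Agent.Lib.Helper28.AlgSt.PropInst
open Groth.Agent.Lib.Helper28.AlgSt.Comp Groth.Agent.Lib.Helper28.AlgSt.Whisker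
open Groth.Agent.Lib.Helper28.AlgSt.SpaceCalc Groth.Agent.Lib.Helper28.AlgSt.Chart
open Groth.Agent.Lib.Helper28.AlgSt.ChartOver Groth.Agent.Lib.Helper28.AlgSt.FpStack
open Groth.Agent.Lib.Helper28.AlgSt.DiagComp Groth.Agent.Lib.Helper28.AlgSt.Descent

variable {S : Scheme.{u}} {𝒳 𝒴 𝒵 : AlgSt.Cat S}

/-- A surjective flat locally finitely presented morphism of schemes over `S` is an fppf
covering of the represented algebraic spaces. -/
theorem isFppfCover_single {T V : Over S} (t : T ⟶ V) (ht₁ : Flat t.left)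
    (ht₂ : LocallyOfFinitePresentation t.left) (ht₃ : Surjective t.left) :
    AlgSp.IsFppfCover (fun _ : PUnit.{u + 1} => (AlgSp.yon S).obj T)
      (fun _ => (AlgSp.yon S).map t) := by
  refine ⟨fun _ => ⟨?_, ?_⟩, fun x => ?_⟩
  · exact locP_yon_of Groth.Agent.Lib.Helper16.etLocalST_flat _ ht₁
  · exact locP_yon_of Groth.Agent.Lib.Helper16.etLocalST_locallyOfFinitePresentation _ ht₂
  · obtain ⟨v, rfl⟩ := (AlgSp.Points.schemeHomeo V).surjective x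
    obtain ⟨w, hw⟩ := ht₃.surj v
    refine ⟨PUnit.unit, AlgSp.Points.schemeHomeo T w, ?_⟩
    rw [AlgSp.Points.map_yon_map_apply]
    exact congrArg _ hw

/-- `LocQ P` descends along a flat, locally finitely presented, surjective morphism. -/
theorem locQ_of_locQ_fpFst_of_fppf {P : MorphismProperty (AlgSp.Sp S)}
    (hP : AlgSp.IsSmoothLocalST P) (hP₂ : AlgSp.IsLocalOnBase AlgSp.IsFppfCover P)
    (h𝒳 : AlgSt.IsAlgStack Scheme.fppfPrecoverage 𝒳)
    (h𝒴 : AlgSt.IsAlgStack Scheme.fppfPrecoverage 𝒴)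
    (h𝒵 : AlgSt.IsAlgStack Scheme.fppfPrecoverage 𝒵) (f : 𝒳 ⥤ᵇ 𝒴) (z : 𝒵 ⥤ᵇ 𝒴)
    (hz₁ : AlgSt.LocQ (AlgSp.LocP @Flat) z)
    (hz₂ : AlgSt.LocQ (AlgSp.LocP @LocallyOfFinitePresentation) z)
    (hz₃ : AlgSt.IsSurjective z) (hq : AlgSt.LocQ P (FibCat.fpFst z f)) : AlgSt.LocQ P f := by
  obtain ⟨V, y, hy₁, hy₂⟩ := h𝒴.atlas
  have hVa := H10PT.isAlgStack_overCat V
  have hℱ : AlgSt.IsAlgStack Scheme.fppfPrecoverage (FibCat.fp f y) :=
    isAlgStack_fp h𝒴.isStack h𝒴.diag h𝒳 hVa f y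
  obtain ⟨U, u, hu₁, hu₂⟩ := hℱ.atlas
  have hU := isFibGrpd_overForget U
  obtain ⟨T, t, ζ, ht₁, ht₂, ht₃, hζ, ⟨φ⟩⟩ :=
    exists_fppf_lift_of_smooth' h𝒴 h𝒵 z hz₁ hz₂ hz₃ y hy₁
  obtain ⟨u', hu', ⟨i⟩⟩ := cube_scheme f z y ζ t φ u
  have h𝒫 : FibCat.IsFibGrpd (FibCat.fp z f).p :=
    isFibGrpd_fp _ _ h𝒵.isStack.1 h𝒳.isStack.1 h𝒴.isStack.1
  have hP' := all_squares_atlas (FibCat.fpFst z f) ζ u' hP h𝒫 h𝒵.isStack.1 hq hζ (hu' _ hu₁)
  rw [homOfOver_eq_of_iso i, homOfOver_overMap] at hP'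
  obtain ⟨h, hh⟩ : ∃ h : U ⟶ V, h = homOfOver (BasedFunctor.comp u (FibCat.fpSnd f y)) :=
    ⟨_, rfl⟩
  rw [← hh] at hP'
  have hcov := isFppfCover_single t ht₁ ht₂ ht₃
  have hsq : IsPullback ((AlgSp.yon S).map (pullback.fst h t))
      ((AlgSp.yon S).map (pullback.snd h t)) ((AlgSp.yon S).map h) ((AlgSp.yon S).map t) :=
    (IsPullback.of_hasPullback h t).map (AlgSp.yon S)
  have hPh : P ((AlgSp.yon S).map h) :=
    (hP₂ _ _ (AlgSp.IsAlgSpace.yon_obj V) (fun _ => AlgSp.IsAlgSpace.yon_obj T) hcov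
      ((AlgSp.yon S).map h) (AlgSp.IsAlgSpace.yon_obj U)
      (fun _ => (AlgSp.yon S).obj (pullback h t))
      (fun _ => (AlgSp.yon S).map (pullback.snd h t))
      (fun _ => (AlgSp.yon S).map (pullback.fst h t))
      (fun _ => AlgSp.IsAlgSpace.yon_obj _) (fun _ => hsq)).2 (fun _ => hP')
  refine ⟨U, V, BasedFunctor.comp u (FibCat.fpFst f y), y, h, ?_, ?_, ?_, hy₁, hPh⟩
  · rw [hh]; exact sqAlpha f y u
  · exact repByAlgSpWith_comp_smooth hU hℱ.isStack.1 u _ hu₁ (repByAlgSpWith_fpFst _ y f hy₁)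
  · exact repByAlgSpWith_comp_surjective hU hℱ.isStack.1 u _ hu₂
      (repByAlgSpWith_fpFst _ y f hy₂)

end Groth.Agent.Lib.Helper16.AlgStDC
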