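import Mathlib
import Groth.Agent.Lib.Helper10.AlgStSmoothLocusComp
import Groth.Agent.Lib.Helper28.AlgSt.EssImage
import Groth.Agent.Lib.Helper28.AlgSt.FpEquiv
import Groth.Agent.Lib.Helper28.AlgSt.SpaceStack
import Groth.Agent.Lib.Helper15.MonoInj

/-!
# Largest open substacks on which a representable 1-morphism has a property (helper16)

* `IsLg P g L`: `L` cuts out the largest open substack of the source of `g` over which `g` is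
  representable by algebraic spaces with `P`.
* `IsLg.eq`: uniqueness.
* `fpIsoMk`: isomorphisms in 2-fibre products.
* `isEquivOver_liftSub`: an equivalence restricts to an equivalence of full subcategories.
* `isLg_of_equiv`: transport of `IsLg` along an equivalence.
* `subFpLift`, `isEquivOver_subFpLift`: `𝒵 ×_𝒴 𝒳_Q ≃ (𝒵 ×_𝒴 𝒳)_{Q ∘ snd}`.
-/

set_option autoImplicit false
set_option backward.isDefEq.respectTransparency false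
set_option backward.isDefEq.respectTransparency.types false

universe u

open CategoryTheory CategoryTheory.Limits AlgebraicGeometry Opposite

namespace Groth.Agent.Lib.Helper16.Lg

open H10PT
open Groth.Agent.Lib.Helper10.Fib Groth.Agent.Lib.Helper10.AlgStRep
open Groth.Agent.Lib.Helper10.LiftSqBC
open Groth.Agent.Lib.Helper28.AlgSt.Bridge Groth.Agent.Lib.Helper28.AlgSt.SpaceCalc
open Groth.Agent.Lib.Helper28.AlgSt.PropInst Groth.Agent.Lib.Helper28.AlgSt.Comp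
open Groth.Agent.Lib.Helper28.AlgSt.Whisker Groth.Agent.Lib.Helper28.AlgSt.Key
open Groth.Agent.Lib.Helper28.AlgSt.Descent Groth.Agent.Lib.Helper28.AlgSt.DiagComp
open Groth.Agent.Lib.Helper28.AlgSt.ChartOver Groth.Agent.Lib.Helper28.AlgSt.IsoEquiv
open Groth.Agent.Lib.Helper28.AlgSt.FpStack Groth.Agent.Lib.Helper28.AlgSt.EssImage
open Groth.Agent.Lib.Helper28.AlgSt.FpEquiv Groth.Agent.Lib.Helper28.AlgSt.SpaceStack
open Groth.Agent.Lib.Helper16 Groth.Agent.Lib.Helper16.AlgStDC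
open Groth.Agent.Lib.Helper10.StkSub

variable {S : Scheme.{u}}

/-- `L` cuts out the largest open substack of `𝒜` over which `g` is representable with `P`. -/
def IsLg (P : MorphismProperty (AlgSp.Sp S)) {𝒜 ℬ : AlgSt.Cat S} (g : 𝒜 ⥤ᵇ ℬ)
    (L : 𝒜.obj → Prop) : Prop :=
  AlgSt.IsOpenSubstack 𝒜 L Scheme.fppfPrecoverage ∧
    AlgSt.RepByAlgSpWith P (BasedFunctor.comp (AlgSt.subIncl 𝒜 L) g) ∧
      ∀ Q₁ : 𝒜.obj → Prop, AlgSt.IsOpenSubstack 𝒜 Q₁ Scheme.fppfPrecoverage →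
        AlgSt.RepByAlgSpWith P (BasedFunctor.comp (AlgSt.subIncl 𝒜 Q₁) g) → ∀ y, Q₁ y → L y

theorem IsLg.eq {P : MorphismProperty (AlgSp.Sp S)} {𝒜 ℬ : AlgSt.Cat S} {g : 𝒜 ⥤ᵇ ℬ}
    {L₁ L₂ : 𝒜.obj → Prop} (h₁ : IsLg P g L₁) (h₂ : IsLg P g L₂) : L₁ = L₂ :=
  funext fun y => propext ⟨h₂.2.2 L₁ h₁.1 h₁.2.1 y, h₁.2.2 L₂ h₂.1 h₂.2.1 y⟩

section FpIso

variable {𝒳 𝒴 𝒮 : AlgSt.Cat S} {F : 𝒳 ⥤ᵇ 𝒮} {G : 𝒴 ⥤ᵇ 𝒮}

/-- Isomorphisms in a 2-fibre product from isomorphisms of the components. -/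
def fpIsoMk {x y : (FibCat.fp F G).obj} (i₁ : x.obj.fst ≅ y.obj.fst) (i₂ : x.obj.snd ≅ y.obj.snd)
    (w : F.map i₁.hom ≫ y.obj.iso.hom = x.obj.iso.hom ≫ G.map i₂.hom) : x ≅ y :=
  ObjectProperty.isoMk _ (CategoricalPullback.mkIso i₁ i₂ w)

lemma fpIsoMk_lift {x y : (FibCat.fp F G).obj} (i₁ : x.obj.fst ≅ y.obj.fst)
    (i₂ : x.obj.snd ≅ y.obj.snd)
    (w : F.map i₁.hom ≫ y.obj.iso.hom = x.obj.iso.hom ≫ G.map i₂.hom) {U : Over S}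
    (h : 𝒳.p.IsHomLift (𝟙 U) i₁.hom) :
    (FibCat.fp F G).p.IsHomLift (𝟙 U) (fpIsoMk i₁ i₂ w).hom :=
  (fp_isHomLift_iff F G (fpIsoMk i₁ i₂ w).hom (𝟙 U)).2 h

end FpIso

section SubEquiv

variable {𝒜 𝒜' : AlgSt.Cat S}

lemma fullSub_isHomLift {𝒜 : AlgSt.Cat S} (L : 𝒜.obj → Prop) {x y : (AlgSt.fullSub 𝒜 L).obj}
    (φ : x ⟶ y) {R T : Over S} (f : R ⟶ T) (h : 𝒜.p.IsHomLift f φ.hom) :
    (AlgSt.fullSub 𝒜 L).p.IsHomLift f φ :=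
  @isHomLift_comp_map _ _ _ _ _ _ (ObjectProperty.ι L) 𝒜.p _ _ _ _ f φ h

/-- An equivalence restricts to an equivalence between corresponding full subcategories. -/
theorem isEquivOver_liftSub (E : 𝒜 ⥤ᵇ 𝒜') (hE : FibCat.IsEquivOver E)
    (L : 𝒜.obj → Prop) (L' : 𝒜'.obj → Prop)
    (hL' : ObjectProperty.IsClosedUnderIsomorphisms L') (hLL' : ∀ a, L a ↔ L' (E.obj a)) :
    FibCat.IsEquivOver (liftSub L' (BasedFunctor.comp (AlgSt.subIncl 𝒜 L) E)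
      (fun w => (hLL' _).1 w.property)) := by
  haveI := IsEquivOver.isEquivalence hE
  haveI : (BasedFunctor.comp (AlgSt.subIncl 𝒜 L) E).toFunctor.Full :=
    inferInstanceAs ((ObjectProperty.ι L) ⋙ E.toFunctor).Full
  haveI : (BasedFunctor.comp (AlgSt.subIncl 𝒜 L) E).toFunctor.Faithful :=
    inferInstanceAs ((ObjectProperty.ι L) ⋙ E.toFunctor).Faithful
  haveI : (liftSub L' (BasedFunctor.comp (AlgSt.subIncl 𝒜 L) E)
      (fun w => (hLL' _).1 w.property)).toFunctor.Full :=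
    inferInstanceAs (ObjectProperty.lift L'
      (BasedFunctor.comp (AlgSt.subIncl 𝒜 L) E).toFunctor _).Full
  haveI : (liftSub L' (BasedFunctor.comp (AlgSt.subIncl 𝒜 L) E)
      (fun w => (hLL' _).1 w.property)).toFunctor.Faithful :=
    inferInstanceAs (ObjectProperty.lift L'
      (BasedFunctor.comp (AlgSt.subIncl 𝒜 L) E).toFunctor _).Faithful
  refine isEquivOver_of_ff _ (fun y' => ?_)
  obtain ⟨a, e, he⟩ := IsEquivOver.exists_iso hE y'.obj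
  have ha : L a := (hLL' a).2 (hL'.of_iso e.symm y'.property)
  exact ⟨⟨a, ha⟩, ObjectProperty.isoMk _ e, fullSub_isHomLift L' _ _ he⟩

end SubEquiv

section Transport

variable {𝒜 𝒜' ℬ : AlgSt.Cat S}

/-- Transport of `IsLg` along an equivalence. -/
theorem isLg_of_equiv (P : MorphismProperty (AlgSp.Sp S))
    (h𝒜 : AlgSt.IsAlgStack Scheme.fppfPrecoverage 𝒜)
    (h𝒜' : AlgSt.IsAlgStack Scheme.fppfPrecoverage 𝒜') (E : 𝒜 ⥤ᵇ 𝒜')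
    (hE : FibCat.IsEquivOver E) (g : 𝒜 ⥤ᵇ ℬ) (g' : 𝒜' ⥤ᵇ ℬ)
    (iso : g ≅ BasedFunctor.comp E g') (L : 𝒜.obj → Prop) (L' : 𝒜'.obj → Prop)
    (hL' : ObjectProperty.IsClosedUnderIsomorphisms L') (hLL' : ∀ a, L a ↔ L' (E.obj a))
    (h : IsLg P g L) : IsLg P g' L' := by
  have hA := h𝒜.isStack.1
  have hA' := h𝒜'.isStack.1
  obtain ⟨T, hTdef⟩ : ∃ T, T = Set.range (AlgSt.Points.map (AlgSt.subIncl 𝒜 L)) := ⟨_, rfl⟩
  have hTo : IsOpen T := by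
    rw [hTdef]
    exact isOpen_range_of_isOpenImm h.1.2.1 h𝒜 _ h.1.2.2
  have hLeq : L = ptsIn T := by
    rw [hTdef]
    exact eq_ptsIn_of_isOpenSubstack h𝒜 L h.1
  have hE₀ := hE
  obtain ⟨E', ⟨η⟩, ⟨ε⟩⟩ := hE
  have hL'eq : L' = ptsIn (AlgSt.Points.map E' ⁻¹' T) := funext fun a' => propext (by
    have i : E.obj (E'.obj a') ≅ a' := (natIsoOfBased ε).app a'
    constructor
    · intro ha'
      have h1 : L (E'.obj a') := (hLL' _).2 (hL'.of_iso i.symm ha')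
      rw [hLeq] at h1
      exact (ptsIn_obj_iff hA' hA E' T a').1 h1
    · intro ha'
      have h1 : ptsIn T (E'.obj a') := (ptsIn_obj_iff hA' hA E' T a').2 ha'
      rw [← hLeq] at h1
      exact hL'.of_iso i ((hLL' _).1 h1))
  have hopen' : AlgSt.IsOpenSubstack 𝒜' L' Scheme.fppfPrecoverage := by
    rw [hL'eq]
    exact isOpenSubstack_ptsIn h𝒜' _ (hTo.preimage (continuous_points_map h𝒜 E'))
  have hEq := isEquivOver_liftSub E hE₀ L L' hL' hLL'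
  have hP' : AlgSt.RepByAlgSpWith P (BasedFunctor.comp (AlgSt.subIncl 𝒜' L') g') :=
    repByAlgSpWith_of_square P (BasedFunctor.comp (AlgSt.subIncl 𝒜' L') g')
      (BasedFunctor.comp (AlgSt.subIncl 𝒜 L) g)
      (liftSub L' (BasedFunctor.comp (AlgSt.subIncl 𝒜 L) E) (fun w => (hLL' _).1 w.property))
      (BasedFunctor.id ℬ) hEq (isEquivOver_id _) (wl (AlgSt.subIncl 𝒜 L) iso) h.2.1
  refine ⟨hopen', hP', ?_⟩
  intro Q₁' hQ₁' hQ₁'P y' hy'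
  obtain ⟨T₁, hT₁def⟩ : ∃ T₁, T₁ = Set.range (AlgSt.Points.map (AlgSt.subIncl 𝒜' Q₁')) :=
    ⟨_, rfl⟩
  have hT₁o : IsOpen T₁ := by
    rw [hT₁def]
    exact isOpen_range_of_isOpenImm hQ₁'.2.1 h𝒜' _ hQ₁'.2.2
  have hQ₁'eq : Q₁' = ptsIn T₁ := by
    rw [hT₁def]
    exact eq_ptsIn_of_isOpenSubstack h𝒜' Q₁' hQ₁'
  obtain ⟨Q₁, hQ₁def⟩ : ∃ Q₁ : 𝒜.obj → Prop, Q₁ = fun a => Q₁' (E.obj a) := ⟨_, rfl⟩
  have hQ₁iff : ∀ a, Q₁ a ↔ Q₁' (E.obj a) := fun a => by rw [hQ₁def]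
  have hQ₁eq : Q₁ = ptsIn (AlgSt.Points.map E ⁻¹' T₁) := funext fun a => propext (by
    rw [hQ₁iff, hQ₁'eq]
    exact ptsIn_obj_iff hA hA' E T₁ a)
  have hQ₁open : AlgSt.IsOpenSubstack 𝒜 Q₁ Scheme.fppfPrecoverage := by
    rw [hQ₁eq]
    exact isOpenSubstack_ptsIn h𝒜 _ (hT₁o.preimage (continuous_points_map h𝒜' E))
  have hEq₁ := isEquivOver_liftSub E hE₀ Q₁ Q₁' hQ₁'.1 hQ₁iff
  have hQ₁P : AlgSt.RepByAlgSpWith P (BasedFunctor.comp (AlgSt.subIncl 𝒜 Q₁) g) :=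
    repByAlgSpWith_of_square' P (BasedFunctor.comp (AlgSt.subIncl 𝒜' Q₁') g')
      (BasedFunctor.comp (AlgSt.subIncl 𝒜 Q₁) g)
      (liftSub Q₁' (BasedFunctor.comp (AlgSt.subIncl 𝒜 Q₁) E)
        (fun w => (hQ₁iff _).1 w.property))
      (BasedFunctor.id ℬ) hEq₁ (isEquivOver_id _) (wl (AlgSt.subIncl 𝒜 Q₁) iso) hQ₁'P
  obtain ⟨a, e, he⟩ := IsEquivOver.exists_iso hE₀ y'
  have h1 : L a := h.2.2 Q₁ hQ₁open hQ₁P a ((hQ₁iff a).2 (hQ₁'.1.of_iso e.symm hy'))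
  exact hL'.of_iso e ((hLL' a).1 h1)

/-- `IsLg` only depends on the 2-isomorphism class of the 1-morphism. -/
theorem isLg_of_iso (P : MorphismProperty (AlgSp.Sp S)) (g g' : 𝒜 ⥤ᵇ ℬ) (iso : g ≅ g')
    (L : 𝒜.obj → Prop) (h : IsLg P g L) : IsLg P g' L :=
  ⟨h.1, repByAlgSpWith_iso P (wl (AlgSt.subIncl 𝒜 L) iso.symm) h.2.1,
    fun Q₁ hQ₁ hQ₁P => h.2.2 Q₁ hQ₁
      (repByAlgSpWith_iso P (wl (AlgSt.subIncl 𝒜 Q₁) iso) hQ₁P)⟩

end Transport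

section Psi

variable {𝒳 𝒴 𝒵 : AlgSt.Cat S} (z : 𝒵 ⥤ᵇ 𝒴) (f : 𝒳 ⥤ᵇ 𝒴) (Q₀ : 𝒳.obj → Prop)

/-- The functor `𝒵 ×_𝒴 𝒳_Q ⟶ 𝒵 ×_𝒴 𝒳`. -/
def subFp : FibCat.fp z (BasedFunctor.comp (AlgSt.subIncl 𝒳 Q₀) f) ⥤ᵇ FibCat.fp z f :=
  fpMap (α := BasedFunctor.id 𝒵) (β := AlgSt.subIncl 𝒳 Q₀) (γ := BasedFunctor.id 𝒴)
    (G' := z) (G := z) (f' := BasedFunctor.comp (AlgSt.subIncl 𝒳 Q₀) f) (f := f)
    (Iso.refl _) (Iso.refl _)

/-- The functor `𝒵 ×_𝒴 𝒳_Q ⟶ (𝒵 ×_𝒴 𝒳)_{Q ∘ snd}`. -/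
def subFpLift : FibCat.fp z (BasedFunctor.comp (AlgSt.subIncl 𝒳 Q₀) f) ⥤ᵇ
    AlgSt.fullSub (FibCat.fp z f) (fun b => Q₀ b.obj.snd) :=
  liftSub (fun b : (FibCat.fp z f).obj => Q₀ b.obj.snd) (subFp z f Q₀)
    (fun b => b.obj.snd.property)

lemma sub_sq_aux {D₁ D₂ E : Type*} [Category D₁] [Category D₂] [Category E] (F : D₁ ⥤ E)
    (G : D₂ ⥤ E) {a : D₁} {b : D₂} (m : F.obj a ⟶ G.obj b) :
    F.map (𝟙 a) ≫ m = (𝟙 _ ≫ m ≫ 𝟙 _) ≫ G.map (𝟙 b) := by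
  simp

theorem isEquivOver_subFpLift : FibCat.IsEquivOver (subFpLift z f Q₀) := by
  haveI := id_full 𝒵
  haveI := id_faithful 𝒵
  haveI := id_full 𝒴
  haveI := id_faithful 𝒴
  haveI : (subFp z f Q₀).toFunctor.Full := fpMap_full _ _
  haveI : (subFp z f Q₀).toFunctor.Faithful := fpMap_faithful _ _
  haveI : (subFpLift z f Q₀).toFunctor.Full :=
    inferInstanceAs (ObjectProperty.lift (fun b : (FibCat.fp z f).obj => Q₀ b.obj.snd)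
      (subFp z f Q₀).toFunctor _).Full
  haveI : (subFpLift z f Q₀).toFunctor.Faithful :=
    inferInstanceAs (ObjectProperty.lift (fun b : (FibCat.fp z f).obj => Q₀ b.obj.snd)
      (subFp z f Q₀).toFunctor _).Faithful
  refine isEquivOver_of_ff _ (fun y => ?_)
  refine ⟨⟨⟨y.obj.obj.fst, ⟨y.obj.obj.snd, y.property⟩, y.obj.obj.iso⟩, y.obj.property⟩,
    ObjectProperty.isoMk _ (fpIsoMk (Iso.refl _) (Iso.refl _) ?_), ?_⟩
  · show z.map (𝟙 _) ≫ y.obj.obj.iso.hom = (𝟙 _ ≫ y.obj.obj.iso.hom ≫ 𝟙 _) ≫ f.map (𝟙 _)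
    exact sub_sq_aux z.toFunctor f.toFunctor y.obj.obj.iso.hom
  · exact fullSub_isHomLift _ _ _ (fpIsoMk_lift _ _ _ (IsHomLift.id rfl))

end Psi

end Groth.Agent.Lib.Helper16.Lg
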