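import Mathlib
import Groth.Agent.Lib.Helper16.AlgSt.LgBasic

/-!
# Largest open substacks for morphisms between categories representable by spaces (helper16)

* `LgSp`, `H3`, `H4`: the space-level notions and hypotheses.
* `isLg_essImg`: a largest open subspace gives a largest open substack.
* `isLg_baseChange`: base change of the largest open substack along an `R`-morphism.
* `exists_isLg`, `isLg_fpFst`: abstract forms.
-/

set_option autoImplicit false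
set_option backward.isDefEq.respectTransparency false
set_option backward.isDefEq.respectTransparency.types false

universe u

open CategoryTheory CategoryTheory.Limits AlgebraicGeometry Opposite

namespace Groth.Agent.Lib.Helper16.Lg

open H10PT
open Groth.Agent.Lib.Helper10.Fib Groth.Agent.Lib.Helper10.AlgStRep
open Groth.Agent.Lib.Helper10.LiftSqBC
open Groth.Agent.Lib.Helper28.AlgSt.Bridge Groth.Agent.Lib.Helper28.AlgSt.SpaceCalc
open Groth.Agent.Lib.Helper28.AlgSt.PropInst Groth.Agent.Lib.Helper28.AlgSt.Comp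
open Groth.Agent.Lib.Helper28.AlgSt.Whisker Groth.Agent.Lib.Helper28.AlgSt.Key
open Groth.Agent.Lib.Helper28.AlgSt.Descent Groth.Agent.Lib.Helper28.AlgSt.DiagComp
open Groth.Agent.Lib.Helper28.AlgSt.ChartOver Groth.Agent.Lib.Helper28.AlgSt.IsoEquiv
open Groth.Agent.Lib.Helper28.AlgSt.FpStack Groth.Agent.Lib.Helper28.AlgSt.EssImage
open Groth.Agent.Lib.Helper28.AlgSt.FpEquiv Groth.Agent.Lib.Helper28.AlgSt.SpaceStack
open Groth.Agent.Lib.Helper28.AlgSt.PshPull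
open Groth.Agent.Lib.Helper16 Groth.Agent.Lib.Helper16.AlgStDC
open Groth.Agent.Lib.Helper10.StkSub

variable {S : Scheme.{u}}

/-- `(W, w)` is the largest open subspace of `X` over which `a : X ⟶ Y` has `P`. -/
def LgSp (P : MorphismProperty (AlgSp.Sp S)) {X Y : AlgSp.Space S} (a : X ⟶ Y)
    (W : AlgSp.Space S) (w : W ⟶ X) : Prop :=
  AlgSp.RepWith @IsOpenImmersion w.hom ∧ P (w ≫ a).hom ∧
    ∀ (W₁ : AlgSp.Space S) (w₁ : W₁ ⟶ X), AlgSp.RepWith @IsOpenImmersion w₁.hom →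
      P (w₁ ≫ a).hom → ∃ k : W₁ ⟶ W, k ≫ w = w₁

/-- Existence of largest open subspaces for morphisms with `Q`. -/
def H3 (P Q : MorphismProperty (AlgSp.Sp S)) : Prop :=
  ∀ (X Y : AlgSp.Space S) (f : X ⟶ Y), Q f.hom →
    ∃ (W : AlgSp.Space S) (w : W ⟶ X), LgSp P f W w

/-- Compatibility of largest open subspaces with base change along `R`-morphisms. -/
def H4 (P Q R : MorphismProperty (AlgSp.Sp S)) : Prop :=
  ∀ (X Y X' Y' : AlgSp.Space S) (f : X ⟶ Y) (g : Y' ⟶ Y) (f' : X' ⟶ Y') (g' : X' ⟶ X),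
    IsPullback g'.hom f'.hom f.hom g.hom → Q f.hom → R g.hom →
    ∀ (W : AlgSp.Space S) (w : W ⟶ X), LgSp P f W w →
      ∀ (W' : AlgSp.Space S) (w' : W' ⟶ X') (k : W' ⟶ W), IsPullback k.hom w'.hom w.hom g'.hom →
        LgSp P f' W' w'

section OfSpMap

variable {F G : AlgSp.Sp S}

lemma ofSpMap_faithful (a : F ⟶ G) : (AlgSt.ofSpMap a).toFunctor.Faithful :=
  ⟨fun {_ _} _ _ h => Stk.EltObj.hom_ext (congrArg (fun t => t.hom) h)⟩

lemma ofSpMap_full (a : F ⟶ G) [Mono a] : (AlgSt.ofSpMap a).toFunctor.Full :=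
  ⟨fun {x y} m => by
    have h1 : G.obj.map m.hom.op (a.hom.app (op y.base) y.sec) = a.hom.app (op x.base) x.sec :=
      m.map_sec
    have h2 : F.obj.map m.hom.op y.sec = x.sec := by
      apply injective_of_mono a (op x.base)
      rw [← h1]
      exact NatTrans.naturality_apply a.hom m.hom.op y.sec
    exact ⟨⟨m.hom, h2⟩, Stk.EltObj.hom_ext rfl⟩⟩

end OfSpMap

section Ess

variable {𝒜 ℬ : AlgSt.Cat S} {F Z : AlgSp.Space S}

/-- A largest open subspace gives a largest open substack. -/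
theorem isLg_essImg (P : MorphismProperty (AlgSp.Sp S)) (hPb : BC P)
    (hP : AlgSp.IsLocalOnBase AlgSp.IsFppfCover P)
    (eA : AlgSt.ofSp F.obj ⥤ᵇ 𝒜) (heA : FibCat.IsEquivOver eA)
    (eB : AlgSt.ofSp Z.obj ⥤ᵇ ℬ) (heB : FibCat.IsEquivOver eB) (g : 𝒜 ⥤ᵇ ℬ) (a : F ⟶ Z)
    (iso : BasedFunctor.comp eA g ≅ BasedFunctor.comp (AlgSt.ofSpMap a.hom) eB)
    (W : AlgSp.Space S) (w : W ⟶ F) (hW : LgSp P a W w) :
    IsLg P g (essImg (BasedFunctor.comp (AlgSt.ofSpMap w.hom) eA)) := by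
  have hWf : FibCat.IsFibGrpd (AlgSt.ofSp W.obj).p := Stk.isFibGrpd_ofPsh _
  have h𝒜 : AlgSt.IsAlgStack Scheme.fppfPrecoverage 𝒜 := isAlgStack_of_repByAlgSp ⟨F, eA, heA⟩
  have hA := h𝒜.isStack.1
  haveI hmono : Mono w.hom := Helper15.mono_of_repWith_isOpenImmersion _ hW.1
  haveI := IsEquivOver.isEquivalence heA
  haveI := ofSpMap_faithful w.hom
  haveI := ofSpMap_full w.hom
  obtain ⟨i, hidef⟩ : ∃ i : AlgSt.ofSp W.obj ⥤ᵇ 𝒜,
      i = BasedFunctor.comp (AlgSt.ofSpMap w.hom) eA := ⟨_, rfl⟩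
  haveI : i.toFunctor.Full := by
    rw [hidef]
    exact inferInstanceAs ((AlgSt.ofSpMap w.hom).toFunctor ⋙ eA.toFunctor).Full
  haveI : i.toFunctor.Faithful := by
    rw [hidef]
    exact inferInstanceAs ((AlgSt.ofSpMap w.hom).toFunctor ⋙ eA.toFunctor).Faithful
  rw [← hidef]
  have hEi : FibCat.IsEquivOver (toEssImg i) := isEquivOver_toEssImg hWf i
  have hopenImm : AlgSt.IsOpenImm (AlgSt.subIncl 𝒜 (essImg i)) := by
    refine repByAlgSpWith_of_prop_map _ good_openImm.bc (toEssImg i) eA hEi heA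
      (AlgSt.subIncl 𝒜 (essImg i)) w ?_ hW.1
    rw [toEssImg_comp, hidef]
  have hopen : AlgSt.IsOpenSubstack 𝒜 (essImg i) Scheme.fppfPrecoverage :=
    ⟨essImg_closed i, isAlgStack_of_repByAlgSp ⟨W, toEssImg i, hEi⟩, hopenImm⟩
  have hPi : AlgSt.RepByAlgSpWith P (BasedFunctor.comp (AlgSt.subIncl 𝒜 (essImg i)) g) := by
    refine repByAlgSpWith_of_prop_map P hPb (toEssImg i) eB hEi heB
      (BasedFunctor.comp (AlgSt.subIncl 𝒜 (essImg i)) g) (w ≫ a) ?_ hW.2.1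
    have e0 : BasedFunctor.comp (toEssImg i) (BasedFunctor.comp (AlgSt.subIncl 𝒜 (essImg i)) g) =
        BasedFunctor.comp (AlgSt.ofSpMap w.hom) (BasedFunctor.comp eA g) := by
      rw [hidef]
      rfl
    rw [e0]
    exact wl (AlgSt.ofSpMap w.hom) iso
  refine ⟨hopen, hPi, ?_⟩
  intro Q₁ hQ₁ hQ₁P y hy
  have hSub := hQ₁.2.1.isStack.1
  have hj₁rep : AlgSt.RepByAlgSp1 (AlgSt.subIncl 𝒜 Q₁) := repByAlgSp1_of_with _ _ hQ₁.2.2
  obtain ⟨W₁, w₁, e₁, he₁, ⟨iso₁⟩⟩ := exists_space_fp hSub hA (AlgSt.subIncl 𝒜 Q₁) hj₁rep F eA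
  have hw₁ : AlgSp.RepWith @IsOpenImmersion w₁.hom :=
    prop_of_repByAlgSpWith hSub hA _ good_openImm.bc good_openImm.loc (AlgSt.subIncl 𝒜 Q₁)
      hQ₁.2.2 F eA W₁ w₁ e₁ he₁ ⟨iso₁⟩
  have hsnd : FibCat.IsEquivOver (FibCat.fpSnd eA (AlgSt.subIncl 𝒜 Q₁)) :=
    isEquivOver_fpSnd eA (AlgSt.subIncl 𝒜 Q₁) heA
  obtain ⟨eA₁, heA₁def⟩ : ∃ eA₁ : AlgSt.ofSp W₁.obj ⥤ᵇ AlgSt.fullSub 𝒜 Q₁,
      eA₁ = BasedFunctor.comp e₁ (FibCat.fpSnd eA (AlgSt.subIncl 𝒜 Q₁)) := ⟨_, rfl⟩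
  have heA₁ : FibCat.IsEquivOver eA₁ := by
    rw [heA₁def]
    exact isEquivOver_comp _ _ he₁ hsnd
  have iso₂ : BasedFunctor.comp eA₁ (AlgSt.subIncl 𝒜 Q₁) ≅
      BasedFunctor.comp (AlgSt.ofSpMap w₁.hom) eA := by
    rw [heA₁def]
    exact (wl e₁ (FibCat.fpIso eA (AlgSt.subIncl 𝒜 Q₁))).symm ≪≫ wr iso₁ eA
  have iso₃ : BasedFunctor.comp eA₁ (BasedFunctor.comp (AlgSt.subIncl 𝒜 Q₁) g) ≅
      BasedFunctor.comp (AlgSt.ofSpMap (w₁ ≫ a).hom) eB :=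
    wr iso₂ g ≪≫ wl (AlgSt.ofSpMap w₁.hom) iso
  have hP₁ : P (w₁ ≫ a).hom :=
    prop_map_of_repByAlgSpWith P hPb hP eA₁ eB heA₁ heB
      (BasedFunctor.comp (AlgSt.subIncl 𝒜 Q₁) g) (w₁ ≫ a) iso₃ hQ₁P
  obtain ⟨k, hk⟩ := hW.2.2 W₁ w₁ hw₁ hP₁
  obtain ⟨c₁, ec, -⟩ := IsEquivOver.exists_iso heA₁ (⟨y, hy⟩ : (AlgSt.fullSub 𝒜 Q₁).obj)
  have i₁ : (AlgSt.subIncl 𝒜 Q₁).obj (eA₁.obj c₁) ≅ y := (ObjectProperty.ι Q₁).mapIso ec
  have i₂ : (AlgSt.subIncl 𝒜 Q₁).obj (eA₁.obj c₁) ≅ eA.obj ((AlgSt.ofSpMap w₁.hom).obj c₁) :=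
    (natIsoOfBased iso₂).app c₁
  have hobj : (AlgSt.ofSpMap w₁.hom).obj c₁ =
      (AlgSt.ofSpMap w.hom).obj ((AlgSt.ofSpMap k.hom).obj c₁) := by
    rw [← hk]
    rfl
  refine ⟨(AlgSt.ofSpMap k.hom).obj c₁, ⟨?_⟩⟩
  rw [hidef]
  exact eqToIso (congrArg eA.obj hobj.symm) ≪≫ i₂.symm ≪≫ i₁

end Ess

section BaseChange

variable {𝒜 ℬ 𝒵' : AlgSt.Cat S} {F Z Z' : AlgSp.Space S}

lemma eltObj_ext {P : (Over S)ᵒᵖ ⥤ Type (u + 1)} (s : Stk.EltObj P) (σ : P.obj (op s.base))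
    (h : σ = s.sec) : (⟨s.base, σ⟩ : Stk.EltObj P) = s := by
  subst h
  rfl

/-- Base change of the largest open substack along an `R`-morphism of the target. -/
theorem isLg_baseChange (P Q R : MorphismProperty (AlgSp.Sp S)) (hPb : BC P)
    (hP : AlgSp.IsLocalOnBase AlgSp.IsFppfCover P) (h4 : H4 P Q R)
    (eA : AlgSt.ofSp F.obj ⥤ᵇ 𝒜) (heA : FibCat.IsEquivOver eA)
    (eB : AlgSt.ofSp Z.obj ⥤ᵇ ℬ) (heB : FibCat.IsEquivOver eB) (g : 𝒜 ⥤ᵇ ℬ) (a : F ⟶ Z)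
    (iso : BasedFunctor.comp eA g ≅ BasedFunctor.comp (AlgSt.ofSpMap a.hom) eB)
    (W : AlgSp.Space S) (w : W ⟶ F) (hW : LgSp P a W w)
    (eB' : AlgSt.ofSp Z'.obj ⥤ᵇ 𝒵') (heB' : FibCat.IsEquivOver eB') (γ : 𝒵' ⥤ᵇ ℬ) (p : Z' ⟶ Z)
    (isoγ : BasedFunctor.comp eB' γ ≅ BasedFunctor.comp (AlgSt.ofSpMap p.hom) eB)
    (hQa : Q a.hom) (hRp : R p.hom) :
    IsLg P (FibCat.fpFst γ g)
      (fun b => essImg (BasedFunctor.comp (AlgSt.ofSpMap w.hom) eA) b.obj.snd) := by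
  have sq := IsPullback.of_hasPullback a.hom p.hom
  have hF' : AlgSp.IsAlgSpace (pullback a.hom p.hom) :=
    isAlgSpace_of_isPullback F.property Z.property.diag Z'.property sq
  let F' : AlgSp.Space S := ⟨pullback a.hom p.hom, hF'⟩
  let g' : F' ⟶ F := ObjectProperty.homMk (pullback.fst a.hom p.hom)
  let a' : F' ⟶ Z' := ObjectProperty.homMk (pullback.snd a.hom p.hom)
  have sqW := IsPullback.of_hasPullback w.hom g'.hom
  have hW'sp : AlgSp.IsAlgSpace (pullback w.hom g'.hom) :=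
    isAlgSpace_of_isPullback W.property F.property.diag F'.property sqW
  let W' : AlgSp.Space S := ⟨pullback w.hom g'.hom, hW'sp⟩
  let k : W' ⟶ W := ObjectProperty.homMk (pullback.fst w.hom g'.hom)
  let w' : W' ⟶ F' := ObjectProperty.homMk (pullback.snd w.hom g'.hom)
  have hW' : LgSp P a' W' w' := h4 F Z F' Z' a p a' g' sq hQa hRp W w hW W' w' k sqW
  have sqWP : IsPullback k.hom.hom w'.hom.hom w.hom.hom g'.hom.hom :=
    sqW.map (sheafToPresheaf (AlgSp.J S) (Type (u + 1)))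
  let E : AlgSt.ofSp F'.obj ⥤ᵇ FibCat.fp γ g := fpSpEquiv eB' eB eA γ g p a isoγ iso
  have hE : FibCat.IsEquivOver E := isEquivOver_fpSpEquiv eB' eB eA heB' heB heA γ g p a isoγ iso
  have isoE : BasedFunctor.comp E (FibCat.fpFst γ g) ≅
      BasedFunctor.comp (AlgSt.ofSpMap a'.hom) eB' := Iso.refl _
  have hmain := isLg_essImg P hPb hP E hE eB' heB' (FibCat.fpFst γ g) a' isoE W' w' hW'
  have hsndE : ∀ s : (AlgSt.ofSp F'.obj).obj,
      (E.obj s).obj.snd = eA.obj ((AlgSt.ofSpMap g'.hom).obj s) := fun s => rfl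
  have heq : essImg (BasedFunctor.comp (AlgSt.ofSpMap w'.hom) E) =
      fun b => essImg (BasedFunctor.comp (AlgSt.ofSpMap w.hom) eA) b.obj.snd := by
    funext b
    apply propext
    constructor
    · rintro ⟨c', ⟨φ⟩⟩
      have φ₂ : (E.obj ((AlgSt.ofSpMap w'.hom).obj c')).obj.snd ≅ b.obj.snd :=
        (FibCat.fpSnd γ g).toFunctor.mapIso φ
      have hsec : g'.hom.hom.app (op c'.base) (w'.hom.hom.app (op c'.base) c'.sec) =
          w.hom.hom.app (op c'.base) (k.hom.hom.app (op c'.base) c'.sec) :=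
        w_app sqWP (op c'.base) c'.sec
      have hobj : (AlgSt.ofSpMap w.hom).obj ((AlgSt.ofSpMap k.hom).obj c') =
          (AlgSt.ofSpMap g'.hom).obj ((AlgSt.ofSpMap w'.hom).obj c') := by
        exact congrArg (fun t => (⟨c'.base, t⟩ : Stk.EltObj F.obj.obj)) hsec.symm
      refine ⟨(AlgSt.ofSpMap k.hom).obj c', ⟨?_⟩⟩
      exact eqToIso (congrArg eA.obj hobj) ≪≫ φ₂
    · rintro ⟨c, ⟨φ⟩⟩
      obtain ⟨s, es, -⟩ := IsEquivOver.exists_iso hE b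
      have φ₂ : eA.obj ((AlgSt.ofSpMap g'.hom).obj s) ≅ b.obj.snd :=
        (FibCat.fpSnd γ g).toFunctor.mapIso es
      haveI := IsEquivOver.isEquivalence heA
      have ψ : (AlgSt.ofSpMap g'.hom).obj s ≅ (AlgSt.ofSpMap w.hom).obj c :=
        eA.toFunctor.preimageIso (φ₂ ≪≫ φ.symm)
      obtain ⟨m, hm⟩ : ∃ m : s.base ⟶ c.base, m = ψ.hom.hom := ⟨_, rfl⟩
      have h1 : F.obj.obj.map m.op (w.hom.hom.app (op c.base) c.sec) =
          g'.hom.hom.app (op s.base) s.sec := by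
        rw [hm]
        exact ψ.hom.map_sec
      have h2 : w.hom.hom.app (op s.base) (W.obj.obj.map m.op c.sec) =
          g'.hom.hom.app (op s.base) s.sec := by
        rw [← h1]
        exact NatTrans.naturality_apply w.hom.hom m.op c.sec
      obtain ⟨σ, -, hσ2⟩ := Types.exists_of_isPullback (app_isPullback sqWP (op s.base))
        (W.obj.obj.map m.op c.sec) s.sec h2
      have hobj : (AlgSt.ofSpMap w'.hom).obj (⟨s.base, σ⟩ : Stk.EltObj W'.obj.obj) = s :=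
        eltObj_ext s _ hσ2
      refine ⟨⟨s.base, σ⟩, ⟨?_⟩⟩
      exact eqToIso (congrArg E.obj hobj) ≪≫ es
  rw [← heq]
  exact hmain

end BaseChange

section Abstract

variable {𝒜 ℬ 𝒵' : AlgSt.Cat S}

/-- Existence of the largest open substack for morphisms between categories representable by
algebraic spaces. -/
theorem exists_isLg (P Q : MorphismProperty (AlgSp.Sp S)) (hPb : BC P)
    (hP : AlgSp.IsLocalOnBase AlgSp.IsFppfCover P) (hQb : BC Q)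
    (hQ : AlgSp.IsLocalOnBase AlgSp.IsFppfCover Q) (h3 : H3 P Q)
    (h𝒜r : AlgSt.RepByAlgSp 𝒜) (hℬr : AlgSt.RepByAlgSp ℬ) (g : 𝒜 ⥤ᵇ ℬ)
    (hg : AlgSt.RepByAlgSpWith Q g) : ∃ L : 𝒜.obj → Prop, IsLg P g L := by
  obtain ⟨F, eA, heA⟩ := h𝒜r
  obtain ⟨Z, eB, heB⟩ := hℬr
  obtain ⟨a, ⟨iso⟩⟩ := exists_mapOf eA eB heB g
  have hQa : Q a.hom := prop_map_of_repByAlgSpWith Q hQb hQ eA eB heA heB g a iso hg
  obtain ⟨W, w, hW⟩ := h3 F Z a hQa
  exact ⟨_, isLg_essImg P hPb hP eA heA eB heB g a iso W w hW⟩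

/-- Base change of the largest open substack along an `R`-morphism, abstract form. -/
theorem isLg_fpFst (P Q R : MorphismProperty (AlgSp.Sp S)) (hPb : BC P)
    (hP : AlgSp.IsLocalOnBase AlgSp.IsFppfCover P) (hQb : BC Q)
    (hQ : AlgSp.IsLocalOnBase AlgSp.IsFppfCover Q) (hRb : BC R)
    (hR : AlgSp.IsLocalOnBase AlgSp.IsFppfCover R) (h3 : H3 P Q) (h4 : H4 P Q R)
    (h𝒜r : AlgSt.RepByAlgSp 𝒜) (hℬr : AlgSt.RepByAlgSp ℬ) (h𝒵'r : AlgSt.RepByAlgSp 𝒵')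
    (g : 𝒜 ⥤ᵇ ℬ) (hg : AlgSt.RepByAlgSpWith Q g) (γ : 𝒵' ⥤ᵇ ℬ)
    (hγ : AlgSt.RepByAlgSpWith R γ) (L : 𝒜.obj → Prop) (hL : IsLg P g L) :
    IsLg P (FibCat.fpFst γ g) (fun b => L b.obj.snd) := by
  obtain ⟨F, eA, heA⟩ := h𝒜r
  obtain ⟨Z, eB, heB⟩ := hℬr
  obtain ⟨Z', eB', heB'⟩ := h𝒵'r
  obtain ⟨a, ⟨iso⟩⟩ := exists_mapOf eA eB heB g
  obtain ⟨p, ⟨isoγ⟩⟩ := exists_mapOf eB' eB heB γ
  have hQa : Q a.hom := prop_map_of_repByAlgSpWith Q hQb hQ eA eB heA heB g a iso hg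
  have hRp : R p.hom := prop_map_of_repByAlgSpWith R hRb hR eB' eB heB' heB γ p isoγ hγ
  obtain ⟨W, w, hW⟩ := h3 F Z a hQa
  have h1 := isLg_essImg P hPb hP eA heA eB heB g a iso W w hW
  have h2 : L = essImg (BasedFunctor.comp (AlgSt.ofSpMap w.hom) eA) := hL.eq h1
  rw [h2]
  exact isLg_baseChange P Q R hPb hP h4 eA heA eB heB g a iso W w hW eB' heB' γ p isoγ hQa hRp

end Abstract

end Groth.Agent.Lib.Helper16.Lg
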