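import Mathlib
import Groth.Agent.Lib.Helper16.AlgSt.LgSpace

/-!
# Descent of the largest open substack along a smooth atlas (helper16)

For `ζ : 𝒵 ⟶ 𝒴` with `𝒵` representable by an algebraic space and `f : 𝒳 ⟶ 𝒴` representable with `Q`,
the largest open substack `L` of `𝒵 ×_𝒴 𝒳` over which the projection to `𝒵` has `P` is saturated
for the projection `x₀ : 𝒵 ×_𝒴 𝒳 ⟶ 𝒳`, provided `ζ` is representable with `R`.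
-/

set_option autoImplicit false
set_option backward.isDefEq.respectTransparency false
set_option backward.isDefEq.respectTransparency.types false

universe u

open CategoryTheory CategoryTheory.Limits AlgebraicGeometry Opposite

namespace Groth.Agent.Lib.Helper16.Lg

open H10PT
open Groth.Agent.Lib.Helper10.Fib Groth.Agent.Lib.Helper10.AlgStRep
open Groth.Agent.Lib.Helper10.LiftSqBC
open Groth.Agent.Lib.Helper28.AlgSt.Bridge Groth.Agent.Lib.Helper28.AlgSt.SpaceCalc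
open Groth.Agent.Lib.Helper28.AlgSt.PropInst Groth.Agent.Lib.Helper28.AlgSt.Comp
open Groth.Agent.Lib.Helper28.AlgSt.Whisker Groth.Agent.Lib.Helper28.AlgSt.Key
open Groth.Agent.Lib.Helper28.AlgSt.Descent Groth.Agent.Lib.Helper28.AlgSt.DiagComp
open Groth.Agent.Lib.Helper28.AlgSt.ChartOver Groth.Agent.Lib.Helper28.AlgSt.IsoEquiv
open Groth.Agent.Lib.Helper28.AlgSt.FpStack Groth.Agent.Lib.Helper28.AlgSt.EssImage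
open Groth.Agent.Lib.Helper28.AlgSt.FpEquiv Groth.Agent.Lib.Helper28.AlgSt.SpaceStack
open Groth.Agent.Lib.Helper28.AlgSt.DiagRep
open Groth.Agent.Lib.Helper16 Groth.Agent.Lib.Helper16.AlgStDC
open Groth.Agent.Lib.Helper10.StkSub

variable {S : Scheme.{u}} {𝒳 𝒴 𝒵 : AlgSt.Cat S}

/-- The base change of a representable 1-morphism to a category representable by an algebraic
space is representable by an algebraic space. -/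
theorem repByAlgSp_fp_of_rep1 (h𝒳 : FibCat.IsFibGrpd 𝒳.p) (h𝒴 : FibCat.IsFibGrpd 𝒴.p)
    (h𝒵r : AlgSt.RepByAlgSp 𝒵) (ζ : 𝒵 ⥤ᵇ 𝒴) (f : 𝒳 ⥤ᵇ 𝒴) (hf1 : AlgSt.RepByAlgSp1 f) :
    AlgSt.RepByAlgSp (FibCat.fp ζ f) := by
  obtain ⟨Z, e, he⟩ := h𝒵r
  obtain ⟨V, a, eV, heV, -⟩ := exists_space_fp h𝒳 h𝒴 f hf1 Z (BasedFunctor.comp e ζ)
  exact ⟨V, BasedFunctor.comp eV (fpPre e ζ f),
    isEquivOver_comp _ _ heV (isEquivOver_fpPre e he ζ f)⟩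

section TwoSquares

variable (ζ : 𝒵 ⥤ᵇ 𝒴) (f : 𝒳 ⥤ᵇ 𝒴)

/-- `(𝒵 ×_𝒴 𝒵) ×_𝒴 𝒳`, formed along the first projection. -/
abbrev P2 : AlgSt.Cat S :=
  FibCat.fp (BasedFunctor.comp (FibCat.fpFst ζ ζ) ζ) f

/-- The first projection `(𝒵 ×_𝒴 𝒵) ×_𝒴 𝒳 ⟶ 𝒵 ×_𝒴 𝒳`. -/
def G1 : P2 ζ f ⥤ᵇ FibCat.fp ζ f :=
  fpMap (α := FibCat.fpFst ζ ζ) (β := BasedFunctor.id 𝒳) (γ := BasedFunctor.id 𝒴)
    (G' := BasedFunctor.comp (FibCat.fpFst ζ ζ) ζ) (G := ζ) (f' := f) (f := f)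
    (Iso.refl _) (Iso.refl _)

/-- The second projection `(𝒵 ×_𝒴 𝒵) ×_𝒴 𝒳 ⟶ 𝒵 ×_𝒴 𝒳`, using the 2-isomorphism of `𝒵 ×_𝒴 𝒵`. -/
def G2 : P2 ζ f ⥤ᵇ FibCat.fp ζ f :=
  fpMap (α := FibCat.fpSnd ζ ζ) (β := BasedFunctor.id 𝒳) (γ := BasedFunctor.id 𝒴)
    (G' := BasedFunctor.comp (FibCat.fpFst ζ ζ) ζ) (G := ζ) (f' := f) (f := f)
    (FibCat.fpIso ζ ζ) (Iso.refl _)

/-- The comparison `(𝒵 ×_𝒴 𝒵) ×_{q₂, 𝒵} (𝒵 ×_𝒴 𝒳) ⟶ (𝒵 ×_𝒴 𝒵) ×_𝒴 𝒳`. -/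
def E2 : FibCat.fp (FibCat.fpSnd ζ ζ) (FibCat.fpFst ζ f) ⥤ᵇ P2 ζ f :=
  BasedFunctor.comp (paste1 (FibCat.fpSnd ζ ζ) ζ f)
    (fpMap (α := BasedFunctor.id (FibCat.fp ζ ζ)) (β := BasedFunctor.id 𝒳)
      (γ := BasedFunctor.id 𝒴) (G' := BasedFunctor.comp (FibCat.fpSnd ζ ζ) ζ)
      (G := BasedFunctor.comp (FibCat.fpFst ζ ζ) ζ) (f' := f) (f := f)
      (FibCat.fpIso ζ ζ).symm (Iso.refl _))

theorem isEquivOver_E2 : FibCat.IsEquivOver (E2 ζ f) := by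
  haveI := id_full 𝒴
  haveI := id_faithful 𝒴
  exact isEquivOver_comp _ _ (isEquivOver_paste1 _ _ _)
    (isEquivOver_fpMap _ _ (isEquivOver_id _) (isEquivOver_id _))

/-- `G₁ ∘ paste1 ≅ snd`, on objects. -/
def g1PasteIso (A : (FibCat.fp (FibCat.fpFst ζ ζ) (FibCat.fpFst ζ f)).obj) :
    (G1 ζ f).obj ((paste1 (FibCat.fpFst ζ ζ) ζ f).obj A) ≅ A.obj.snd :=
  fpIsoMk (F := ζ) (G := f) (x := (G1 ζ f).obj ((paste1 (FibCat.fpFst ζ ζ) ζ f).obj A))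
    (y := A.obj.snd) A.obj.iso (Iso.refl _) (by
      show ζ.map A.obj.iso.hom ≫ A.obj.snd.obj.iso.hom =
        (𝟙 _ ≫ (ζ.map A.obj.iso.hom ≫ A.obj.snd.obj.iso.hom) ≫ 𝟙 _) ≫ f.map (𝟙 _)
      simp)

/-- `G₂ ∘ E₂ ≅ snd`, on objects. -/
def g2E2Iso (A : (FibCat.fp (FibCat.fpSnd ζ ζ) (FibCat.fpFst ζ f)).obj) :
    (G2 ζ f).obj ((E2 ζ f).obj A) ≅ A.obj.snd :=
  fpIsoMk (F := ζ) (G := f) (x := (G2 ζ f).obj ((E2 ζ f).obj A))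
    (y := A.obj.snd) A.obj.iso (Iso.refl _) (by
      show ζ.map A.obj.iso.hom ≫ A.obj.snd.obj.iso.hom =
        (A.obj.fst.obj.iso.inv ≫ (A.obj.fst.obj.iso.hom ≫
          (ζ.map A.obj.iso.hom ≫ A.obj.snd.obj.iso.hom) ≫ 𝟙 _) ≫ 𝟙 _) ≫ f.map (𝟙 _)
      simp)

end TwoSquares

section Main

variable (P Q R : MorphismProperty (AlgSp.Sp S))

/-- The two pullbacks of `L` to `(𝒵 ×_𝒴 𝒵) ×_𝒴 𝒳` agree. -/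
theorem two_squares (hPb : BC P) (hP : AlgSp.IsLocalOnBase AlgSp.IsFppfCover P) (hQb : BC Q)
    (hQ : AlgSp.IsLocalOnBase AlgSp.IsFppfCover Q) (hRb : BC R)
    (hR : AlgSp.IsLocalOnBase AlgSp.IsFppfCover R) (h3 : H3 P Q) (h4 : H4 P Q R)
    (h𝒳 : FibCat.IsFibGrpd 𝒳.p) (h𝒴 : FibCat.IsFibGrpd 𝒴.p) (h𝒵r : AlgSt.RepByAlgSp 𝒵)
    (ζ : 𝒵 ⥤ᵇ 𝒴) (hζ : AlgSt.RepByAlgSpWith R ζ) (f : 𝒳 ⥤ᵇ 𝒴)
    (hf : AlgSt.RepByAlgSpWith Q f) (L : (FibCat.fp ζ f).obj → Prop)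
    (hL : IsLg P (FibCat.fpFst ζ f) L) (P₂ : (P2 ζ f).obj) :
    L ((G1 ζ f).obj P₂) ↔ L ((G2 ζ f).obj P₂) := by
  have h𝒵 := isFibGrpd_of_repByAlgSp h𝒵r
  have hf1 : AlgSt.RepByAlgSp1 f := repByAlgSp1_of_with _ _ hf
  have hζ1 : AlgSt.RepByAlgSp1 ζ := repByAlgSp1_of_with _ _ hζ
  have h𝒫r : AlgSt.RepByAlgSp (FibCat.fp ζ f) := repByAlgSp_fp_of_rep1 h𝒳 h𝒴 h𝒵r ζ f hf1
  have h𝒱r : AlgSt.RepByAlgSp (FibCat.fp ζ ζ) := repByAlgSp_fp_of_rep1 h𝒵 h𝒴 h𝒵r ζ ζ hζ1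
  have hg : AlgSt.RepByAlgSpWith Q (FibCat.fpFst ζ f) := repByAlgSpWith_fpFst Q f ζ hf
  have hq₁ : AlgSt.RepByAlgSpWith R (FibCat.fpFst ζ ζ) := repByAlgSpWith_fpFst R ζ ζ hζ
  have hq₂ : AlgSt.RepByAlgSpWith R (FibCat.fpSnd ζ ζ) := repByAlgSpWith_fpSnd R ζ ζ hζ
  have hB₁ := isLg_fpFst P Q R hPb hP hQb hQ hRb hR h3 h4 h𝒫r h𝒵r h𝒱r (FibCat.fpFst ζ f) hg
    (FibCat.fpFst ζ ζ) hq₁ L hL
  have hB₂ := isLg_fpFst P Q R hPb hP hQb hQ hRb hR h3 h4 h𝒫r h𝒵r h𝒱r (FibCat.fpFst ζ f) hg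
    (FibCat.fpSnd ζ ζ) hq₂ L hL
  have h𝒜₁r : AlgSt.RepByAlgSp (FibCat.fp (FibCat.fpFst ζ ζ) (FibCat.fpFst ζ f)) :=
    repByAlgSp_fp h𝒱r h𝒫r h𝒵r _ _
  have h𝒜₂r : AlgSt.RepByAlgSp (FibCat.fp (FibCat.fpSnd ζ ζ) (FibCat.fpFst ζ f)) :=
    repByAlgSp_fp h𝒱r h𝒫r h𝒵r _ _
  have hE₁ : FibCat.IsEquivOver (paste1 (FibCat.fpFst ζ ζ) ζ f) := isEquivOver_paste1 _ _ _
  have hE₂ := isEquivOver_E2 ζ f
  have h𝒫₂r : AlgSt.RepByAlgSp (P2 ζ f) := Groth.Agent.Lib.Helper10.AlgStRep.repByAlgSp_of_isEquivOver _ hE₁ h𝒜₁r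
  have h𝒜₁ := isAlgStack_of_repByAlgSp h𝒜₁r
  have h𝒜₂ := isAlgStack_of_repByAlgSp h𝒜₂r
  have h𝒫₂ := isAlgStack_of_repByAlgSp h𝒫₂r
  have hcl : ObjectProperty.IsClosedUnderIsomorphisms L := hL.1.1
  have hcl₁ : ObjectProperty.IsClosedUnderIsomorphisms
      (fun P₂ : (P2 ζ f).obj => L ((G1 ζ f).obj P₂)) :=
    ⟨fun e h => hcl.of_iso ((G1 ζ f).toFunctor.mapIso e) h⟩
  have hcl₂ : ObjectProperty.IsClosedUnderIsomorphisms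
      (fun P₂ : (P2 ζ f).obj => L ((G2 ζ f).obj P₂)) :=
    ⟨fun e h => hcl.of_iso ((G2 ζ f).toFunctor.mapIso e) h⟩
  have hT₁ : IsLg P (FibCat.fpFst (BasedFunctor.comp (FibCat.fpFst ζ ζ) ζ) f)
      (fun P₂ : (P2 ζ f).obj => L ((G1 ζ f).obj P₂)) :=
    isLg_of_equiv P h𝒜₁ h𝒫₂ (paste1 (FibCat.fpFst ζ ζ) ζ f) hE₁
      (FibCat.fpFst (FibCat.fpFst ζ ζ) (FibCat.fpFst ζ f))
      (FibCat.fpFst (BasedFunctor.comp (FibCat.fpFst ζ ζ) ζ) f) (Iso.refl _) _ _ hcl₁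
      (fun A => ⟨fun h => hcl.of_iso (g1PasteIso ζ f A).symm h,
        fun h => hcl.of_iso (g1PasteIso ζ f A) h⟩) hB₁
  have hT₂ : IsLg P (FibCat.fpFst (BasedFunctor.comp (FibCat.fpFst ζ ζ) ζ) f)
      (fun P₂ : (P2 ζ f).obj => L ((G2 ζ f).obj P₂)) :=
    isLg_of_equiv P h𝒜₂ h𝒫₂ (E2 ζ f) hE₂
      (FibCat.fpFst (FibCat.fpSnd ζ ζ) (FibCat.fpFst ζ f))
      (FibCat.fpFst (BasedFunctor.comp (FibCat.fpFst ζ ζ) ζ) f) (Iso.refl _) _ _ hcl₂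
      (fun A => ⟨fun h => hcl.of_iso (g2E2Iso ζ f A).symm h,
        fun h => hcl.of_iso (g2E2Iso ζ f A) h⟩) hB₂
  exact iff_of_eq (congrFun (hT₁.eq hT₂) P₂)

end Main

section Pairs

variable (ζ : 𝒵 ⥤ᵇ 𝒴) (f : 𝒳 ⥤ᵇ 𝒴)

lemma pair_sq_aux {D₁ D₂ E : Type*} [Category D₁] [Category D₂] [Category E] (F : D₁ ⥤ E)
    (G : D₂ ⥤ E) {a' a : D₁} {b' b : D₂} (φ' : F.obj a' ≅ G.obj b') (φ : F.obj a ≅ G.obj b)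
    (m : b' ≅ b) :
    F.map (𝟙 a) ≫ φ.hom =
      ((φ' ≪≫ G.mapIso m ≪≫ φ.symm).inv ≫ φ'.hom ≫ 𝟙 _) ≫ G.map m.hom := by
  simp [← Functor.map_comp]

/-- Every pair of objects of `𝒵 ×_𝒴 𝒳` with isomorphic images in `𝒳` comes from an object of
`(𝒵 ×_𝒴 𝒵) ×_𝒴 𝒳`. -/
theorem exists_pair (h𝒴 : FibCat.IsFibGrpd 𝒴.p)
    (o : (FibCat.fp (FibCat.fpSnd ζ f) (FibCat.fpSnd ζ f)).obj) :
    ∃ P₂ : (P2 ζ f).obj, Nonempty ((G1 ζ f).obj P₂ ≅ o.obj.fst) ∧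
      Nonempty ((G2 ζ f).obj P₂ ≅ o.obj.snd) := by
  obtain ⟨b', hb'⟩ : ∃ b' : (FibCat.fp ζ f).obj, b' = o.obj.fst := ⟨_, rfl⟩
  obtain ⟨b, hb⟩ : ∃ b : (FibCat.fp ζ f).obj, b = o.obj.snd := ⟨_, rfl⟩
  obtain ⟨m, hm⟩ : ∃ m : b'.obj.snd ≅ b.obj.snd, m = hb' ▸ hb ▸ o.obj.iso := ⟨_, rfl⟩
  have hml : 𝒳.p.IsHomLift (𝟙 (𝒵.p.obj b'.obj.fst)) m.hom := by
    subst hb' hb hm
    exact o.property
  clear hm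
  have l1 : 𝒴.p.IsHomLift (𝟙 (𝒵.p.obj b'.obj.fst)) b'.obj.iso.hom := b'.property
  have l2 : 𝒴.p.IsHomLift (𝟙 (𝒵.p.obj b'.obj.fst)) (f.map m.hom) :=
    @BasedFunctor.preserves_isHomLift _ _ _ _ f _ _ _ _ _ _ hml
  have l3' : 𝒴.p.IsHomLift (𝟙 (𝒵.p.obj b.obj.fst)) b.obj.iso.hom := b.property
  have heq : 𝒵.p.obj b.obj.fst = 𝒵.p.obj b'.obj.fst :=
    (IsHomLift.codomain_eq 𝒴.p (𝟙 (𝒵.p.obj b.obj.fst)) b.obj.iso.hom).symm.trans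
      (IsHomLift.codomain_eq 𝒴.p (𝟙 (𝒵.p.obj b'.obj.fst)) (f.map m.hom))
  have l3'' : 𝒴.p.IsHomLift (𝟙 (𝒵.p.obj b'.obj.fst)) b.obj.iso.hom :=
    isHomLift_id_of_eq 𝒴.p heq _
  have l3 : 𝒴.p.IsHomLift (𝟙 (𝒵.p.obj b'.obj.fst)) b.obj.iso.inv :=
    lift_inv_of_lift 𝒴.p _ l3''
  obtain ⟨ψ, hψ⟩ : ∃ ψ : ζ.obj b'.obj.fst ≅ ζ.obj b.obj.fst,
      ψ = b'.obj.iso ≪≫ f.toFunctor.mapIso m ≪≫ b.obj.iso.symm := ⟨_, rfl⟩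
  have hψl : 𝒴.p.IsHomLift (𝟙 (𝒵.p.obj b'.obj.fst)) ψ.hom := by
    rw [hψ]
    have h0 : 𝒴.p.IsHomLift (𝟙 (𝒵.p.obj b'.obj.fst) ≫ 𝟙 (𝒵.p.obj b'.obj.fst) ≫
        𝟙 (𝒵.p.obj b'.obj.fst)) (b'.obj.iso.hom ≫ f.map m.hom ≫ b.obj.iso.inv) := inferInstance
    rw [Category.comp_id, Category.comp_id] at h0
    exact h0
  let v₀ : (FibCat.fp ζ ζ).obj := ⟨⟨b'.obj.fst, b.obj.fst, ψ⟩, hψl⟩
  let P₂ : (P2 ζ f).obj := ⟨⟨v₀, b'.obj.snd, b'.obj.iso⟩, b'.property⟩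
  refine ⟨P₂, ⟨?_⟩, ⟨?_⟩⟩
  · rw [← hb']
    refine fpIsoMk (F := ζ) (G := f) (x := (G1 ζ f).obj P₂) (y := b') (Iso.refl _) (Iso.refl _) ?_
    show ζ.map (𝟙 _) ≫ b'.obj.iso.hom = (𝟙 _ ≫ b'.obj.iso.hom ≫ 𝟙 _) ≫ f.map (𝟙 _)
    exact sub_sq_aux ζ.toFunctor f.toFunctor b'.obj.iso.hom
  · rw [← hb]
    refine fpIsoMk (F := ζ) (G := f) (x := (G2 ζ f).obj P₂) (y := b) (Iso.refl _) m ?_
    show ζ.map (𝟙 _) ≫ b.obj.iso.hom =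
      (ψ.inv ≫ b'.obj.iso.hom ≫ 𝟙 _) ≫ f.map m.hom
    rw [hψ]
    exact pair_sq_aux ζ.toFunctor f.toFunctor b'.obj.iso b.obj.iso m

end Pairs

section Saturated

variable (P Q R : MorphismProperty (AlgSp.Sp S))

/-- The largest open substack of `𝒵 ×_𝒴 𝒳` is saturated for the projection to `𝒳`. -/
theorem saturated (hPb : BC P) (hP : AlgSp.IsLocalOnBase AlgSp.IsFppfCover P) (hQb : BC Q)
    (hQ : AlgSp.IsLocalOnBase AlgSp.IsFppfCover Q) (hRb : BC R)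
    (hR : AlgSp.IsLocalOnBase AlgSp.IsFppfCover R) (h3 : H3 P Q) (h4 : H4 P Q R)
    (h𝒳 : FibCat.IsFibGrpd 𝒳.p) (h𝒴 : FibCat.IsFibGrpd 𝒴.p) (h𝒵r : AlgSt.RepByAlgSp 𝒵)
    (ζ : 𝒵 ⥤ᵇ 𝒴) (hζ : AlgSt.RepByAlgSpWith R ζ) (f : 𝒳 ⥤ᵇ 𝒴)
    (hf : AlgSt.RepByAlgSpWith Q f) (L : (FibCat.fp ζ f).obj → Prop)
    (hL : IsLg P (FibCat.fpFst ζ f) L)
    (o : (FibCat.fp (FibCat.fpSnd ζ f) (FibCat.fpSnd ζ f)).obj) :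
    L o.obj.fst ↔ L o.obj.snd := by
  obtain ⟨P₂, ⟨i₁⟩, ⟨i₂⟩⟩ := exists_pair ζ f h𝒴 o
  have hcl : ObjectProperty.IsClosedUnderIsomorphisms L := hL.1.1
  have h := two_squares P Q R hPb hP hQb hQ hRb hR h3 h4 h𝒳 h𝒴 h𝒵r ζ hζ f hf L hL P₂
  exact ⟨fun h1 => hcl.of_iso i₂ (h.1 (hcl.of_iso i₁.symm h1)),
    fun h2 => hcl.of_iso i₁ (h.2 (hcl.of_iso i₂.symm h2))⟩

end Saturated

end Groth.Agent.Lib.Helper16.Lg
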