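import Mathlib
import Groth.Agent.Lib.Helper16.AlgSt.LgDescent

/-!
# The largest open substack on which a representable 1-morphism has `P` (helper16)

* `exists_lg`: existence, together with its description after base change to a smooth atlas.
-/

set_option autoImplicit false
set_option backward.isDefEq.respectTransparency false
set_option backward.isDefEq.respectTransparency.types false

universe u

open CategoryTheory CategoryTheory.Limits AlgebraicGeometry Opposite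

namespace Groth.Agent.Lib.Helper16.Lg

open H10PT
open Groth.Agent.Lib.Helper10.Fib Groth.Agent.Lib.Helper10.AlgStRep
open Groth.Agent.Lib.Helper10.LiftSqBC
open Groth.Agent.Lib.Helper28.AlgSt.Bridge Groth.Agent.Lib.Helper28.AlgSt.SpaceCalc
open Groth.Agent.Lib.Helper28.AlgSt.PropInst Groth.Agent.Lib.Helper28.AlgSt.Comp
open Groth.Agent.Lib.Helper28.AlgSt.Whisker Groth.Agent.Lib.Helper28.AlgSt.Key
open Groth.Agent.Lib.Helper28.AlgSt.Descent Groth.Agent.Lib.Helper28.AlgSt.DiagComp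
open Groth.Agent.Lib.Helper28.AlgSt.ChartOver Groth.Agent.Lib.Helper28.AlgSt.IsoEquiv
open Groth.Agent.Lib.Helper28.AlgSt.FpStack Groth.Agent.Lib.Helper28.AlgSt.EssImage
open Groth.Agent.Lib.Helper28.AlgSt.FpEquiv Groth.Agent.Lib.Helper28.AlgSt.SpaceStack
open Groth.Agent.Lib.Helper28.AlgSt.DiagRep Groth.Agent.Lib.Helper28.AlgSt.Chart
open Groth.Agent.Lib.Helper16 Groth.Agent.Lib.Helper16.AlgStDC
open Groth.Agent.Lib.Helper10.StkSub

variable {S : Scheme.{u}}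

section Pts

variable {𝒜 : AlgSt.Cat S}

lemma ptsIn_of_mk_mem (T : Set (AlgSt.Points 𝒜)) (r : AlgSt.FPt 𝒜) (h : AlgSt.Points.mk r ∈ T) :
    ptsIn T r.obj := fun q' hq' => by
  obtain ⟨m⟩ := hq'
  have h1 : AlgSt.Points.mk q' = AlgSt.Points.mk r := AlgSt.Points.sound ⟨q', 𝟙 _, m, trivial⟩
  rw [h1]
  exact h

lemma mk_mem_range_of_mem (L : 𝒜.obj → Prop) (r : AlgSt.FPt 𝒜) (h : L r.obj) :
    AlgSt.Points.mk r ∈ Set.range (AlgSt.Points.map (AlgSt.subIncl 𝒜 L)) :=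
  ⟨AlgSt.Points.mk ⟨r.K, r.str, ⟨r.obj, h⟩, r.lies⟩, rfl⟩

end Pts

variable {𝒳 𝒴 : AlgSt.Cat S}

/-- The space-level hypothesis "smooth morphisms have `R`". -/
def H2 (R : MorphismProperty (AlgSp.Sp S)) : Prop :=
  ∀ (X Y : AlgSp.Space S) (g : X ⟶ Y), AlgSp.LocP @Smooth g.hom → R g.hom

theorem repByAlgSpWith_of_smooth {R : MorphismProperty (AlgSp.Sp S)} (h2 : H2 R)
    {𝒲 𝒵 : AlgSt.Cat S} (t : 𝒲 ⥤ᵇ 𝒵) (ht : AlgSt.RepByAlgSpWith (AlgSp.LocP @Smooth) t) :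
    AlgSt.RepByAlgSpWith R t :=
  repByAlgSpWith_mono t (fun F U g hg =>
    h2 F ⟨(AlgSp.yon S).obj U, AlgSp.IsAlgSpace.yon_obj U⟩ (ObjectProperty.homMk g) hg) ht

/-- There is a largest open substack of `𝒳` over which `f` has `P`; its base change to a smooth
surjective atlas `ζ` of `𝒴` from an algebraic space is the largest open substack for the base
change of `f`. -/
theorem exists_lg (P Q R : MorphismProperty (AlgSp.Sp S)) (hPb : BC P)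
    (hP : AlgSp.IsLocalOnBase AlgSp.IsFppfCover P) (hQb : BC Q)
    (hQ : AlgSp.IsLocalOnBase AlgSp.IsFppfCover Q) (hRb : BC R)
    (hR : AlgSp.IsLocalOnBase AlgSp.IsFppfCover R) (h2 : H2 R) (h3 : H3 P Q) (h4 : H4 P Q R)
    (h𝒳 : AlgSt.IsAlgStack Scheme.fppfPrecoverage 𝒳)
    (h𝒴 : AlgSt.IsAlgStack Scheme.fppfPrecoverage 𝒴) (f : 𝒳 ⥤ᵇ 𝒴)
    (hf : AlgSt.RepByAlgSpWith Q f) (Z₀ : AlgSp.Space S) (ζ : AlgSt.ofSp Z₀.obj ⥤ᵇ 𝒴)
    (hζsm : AlgSt.RepByAlgSpWith (AlgSp.LocP @Smooth) ζ)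
    (hζsurj : AlgSt.RepByAlgSpWith AlgSp.IsSurjectiveMor ζ) :
    ∃ Q₀ : 𝒳.obj → Prop, IsLg P f Q₀ ∧ IsLg P (FibCat.fpFst ζ f) (fun b => Q₀ b.obj.snd) := by
  have hX := h𝒳.isStack.1
  have hY := h𝒴.isStack.1
  have hf1 : AlgSt.RepByAlgSp1 f := repByAlgSp1_of_with Q f hf
  have hZr : AlgSt.RepByAlgSp (AlgSt.ofSp Z₀.obj) := ⟨Z₀, BasedFunctor.id _, isEquivOver_id _⟩
  have hZf : FibCat.IsFibGrpd (AlgSt.ofSp Z₀.obj).p := Stk.isFibGrpd_ofPsh _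
  have hζR : AlgSt.RepByAlgSpWith R ζ := repByAlgSpWith_of_smooth h2 ζ hζsm
  have h𝒫r : AlgSt.RepByAlgSp (FibCat.fp ζ f) := repByAlgSp_fp_of_rep1 hX hY hZr ζ f hf1
  have h𝒫 := isAlgStack_of_repByAlgSp h𝒫r
  have hPf := h𝒫.isStack.1
  have hg : AlgSt.RepByAlgSpWith Q (FibCat.fpFst ζ f) := repByAlgSpWith_fpFst Q f ζ hf
  obtain ⟨L, hL⟩ := exists_isLg P Q hPb hP hQb hQ h3 h𝒫r hZr (FibCat.fpFst ζ f) hg
  have hsat := saturated P Q R hPb hP hQb hQ hRb hR h3 h4 hX hY hZr ζ hζR f hf L hL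
  obtain ⟨x₀, hx₀def⟩ : ∃ x₀ : FibCat.fp ζ f ⥤ᵇ 𝒳, x₀ = FibCat.fpSnd ζ f := ⟨_, rfl⟩
  have hx₀sm : AlgSt.RepByAlgSpWith (AlgSp.LocP @Smooth) x₀ := by
    rw [hx₀def]
    exact repByAlgSpWith_fpSnd _ ζ f hζsm
  have hx₀surj : AlgSt.RepByAlgSpWith AlgSp.IsSurjectiveMor x₀ := by
    rw [hx₀def]
    exact repByAlgSpWith_fpSnd _ ζ f hζsurj
  have hx₀s : AlgSt.IsSurjective x₀ := isSurjective_of_rep hX x₀ hx₀surj
  obtain ⟨TL, hTLdef⟩ : ∃ TL, TL = Set.range (AlgSt.Points.map (AlgSt.subIncl (FibCat.fp ζ f) L)) :=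
    ⟨_, rfl⟩
  have hTLo : IsOpen TL := by
    rw [hTLdef]
    exact isOpen_range_of_isOpenImm hL.1.2.1 h𝒫 _ hL.1.2.2
  have hLeq : L = ptsIn TL := by
    rw [hTLdef]
    exact eq_ptsIn_of_isOpenSubstack h𝒫 L hL.1
  obtain ⟨T₀, hT₀def⟩ : ∃ T₀, T₀ = AlgSt.Points.map x₀ '' TL := ⟨_, rfl⟩
  have hT₀o : IsOpen T₀ := by
    rw [hT₀def]
    exact isOpenMap_points_map h𝒫 h𝒳 x₀ (repFlat_of_smooth _ hx₀sm) (repLfp_of_smooth _ hx₀sm)
      _ hTLo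
  have hpre : AlgSt.Points.map x₀ ⁻¹' T₀ = TL := by
    apply Set.Subset.antisymm
    · intro p hp
      rw [hT₀def] at hp
      obtain ⟨p', hp'TL, hp'⟩ := hp
      obtain ⟨w, hw1, hw2⟩ := exists_fp_point hPf hX hPf x₀ x₀ p' p hp'
      obtain ⟨q, rfl⟩ := AlgSt.Points.mk_surjective w
      subst hx₀def
      have h1 : L q.obj.obj.fst := by
        rw [hLeq]
        refine ptsIn_of_mk_mem TL (q.map (FibCat.fpFst (FibCat.fpSnd ζ f) (FibCat.fpSnd ζ f))) ?_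
        rw [← hw1] at hp'TL
        exact hp'TL
      have h2' : L q.obj.obj.snd := (hsat q.obj).1 h1
      rw [← hw2, hTLdef]
      exact mk_mem_range_of_mem L
        (q.map (FibCat.fpSnd (FibCat.fpSnd ζ f) (FibCat.fpSnd ζ f))) h2'
    · rw [hT₀def]
      exact Set.subset_preimage_image _ _
  have hQ₀open : AlgSt.IsOpenSubstack 𝒳 (ptsIn T₀) Scheme.fppfPrecoverage :=
    isOpenSubstack_ptsIn h𝒳 T₀ hT₀o
  have hLQ₀ : L = fun b => ptsIn T₀ b.obj.snd := funext fun b => propext (by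
    rw [hLeq]
    have h1 := ptsIn_obj_iff hPf hX x₀ T₀ b
    rw [hpre] at h1
    subst hx₀def
    exact h1.symm)
  have hL' : IsLg P (FibCat.fpFst ζ f) (fun b => ptsIn T₀ b.obj.snd) := hLQ₀ ▸ hL
  refine ⟨ptsIn T₀, ⟨hQ₀open, ?_, ?_⟩, hL'⟩
  · have hSub := hQ₀open.2.1.isStack.1
    have hrep1 : AlgSt.RepByAlgSp1 (BasedFunctor.comp (AlgSt.subIncl 𝒳 (ptsIn T₀)) f) :=
      repByAlgSp1_comp hSub hX _ f (repByAlgSp1_of_with _ _ hQ₀open.2.2) hf1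
    have hΨ := isEquivOver_subFpLift ζ f (ptsIn T₀)
    have h' : AlgSt.RepByAlgSpWith P
        (FibCat.fpFst ζ (BasedFunctor.comp (AlgSt.subIncl 𝒳 (ptsIn T₀)) f)) :=
      repByAlgSpWith_equiv_comp P (subFpLift ζ f (ptsIn T₀)) hΨ _ hL'.2.1
    exact repByAlgSpWith_of_fpFst_cover hSub hY hZf P hPb hP _ hrep1 ζ
      (repFlat_of_smooth _ hζsm) (repLfp_of_smooth _ hζsm) hζsurj h'
  · intro Q₁ hQ₁ hQ₁P y hy
    obtain ⟨T₁, hT₁def⟩ : ∃ T₁, T₁ = Set.range (AlgSt.Points.map (AlgSt.subIncl 𝒳 Q₁)) :=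
      ⟨_, rfl⟩
    have hT₁o : IsOpen T₁ := by
      rw [hT₁def]
      exact isOpen_range_of_isOpenImm hQ₁.2.1 h𝒳 _ hQ₁.2.2
    have hQ₁eq : Q₁ = ptsIn T₁ := by
      rw [hT₁def]
      exact eq_ptsIn_of_isOpenSubstack h𝒳 Q₁ hQ₁
    have hQ₁seq : (fun b : (FibCat.fp ζ f).obj => Q₁ b.obj.snd) =
        ptsIn (AlgSt.Points.map x₀ ⁻¹' T₁) := funext fun b => propext (by
      have h1 := ptsIn_obj_iff hPf hX x₀ T₁ b
      subst hx₀def
      rw [hQ₁eq]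
      exact h1)
    have hQ₁sopen : AlgSt.IsOpenSubstack (FibCat.fp ζ f) (fun b => Q₁ b.obj.snd)
        Scheme.fppfPrecoverage := by
      rw [hQ₁seq]
      exact isOpenSubstack_ptsIn h𝒫 _ (hT₁o.preimage (continuous_points_map h𝒳 x₀))
    have hΨ₁ := isEquivOver_subFpLift ζ f Q₁
    have hQ₁sP : AlgSt.RepByAlgSpWith P (BasedFunctor.comp
        (AlgSt.subIncl (FibCat.fp ζ f) (fun b => Q₁ b.obj.snd)) (FibCat.fpFst ζ f)) :=
      repByAlgSpWith_of_square P _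
        (FibCat.fpFst ζ (BasedFunctor.comp (AlgSt.subIncl 𝒳 Q₁) f)) (subFpLift ζ f Q₁)
        (BasedFunctor.id _) hΨ₁ (isEquivOver_id _) (Iso.refl _)
        (repByAlgSpWith_fpFst P _ ζ hQ₁P)
    have hle : ∀ b : (FibCat.fp ζ f).obj, Q₁ b.obj.snd → L b :=
      hL.2.2 _ hQ₁sopen hQ₁sP
    have hsub : T₁ ⊆ T₀ := by
      intro t ht
      obtain ⟨p, rfl⟩ := hx₀s t
      obtain ⟨r, rfl⟩ := AlgSt.Points.mk_surjective p
      have h1 : ptsIn T₁ (x₀.obj r.obj) := ptsIn_of_mk_mem T₁ (r.map x₀) ht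
      rw [← hQ₁eq] at h1
      have h2' : L r.obj := by
        apply hle
        subst hx₀def
        exact h1
      rw [hT₀def]
      refine ⟨AlgSt.Points.mk r, ?_, rfl⟩
      rw [hTLdef]
      exact mk_mem_range_of_mem L r h2'
    rw [hQ₁eq] at hy
    exact ptsIn_mono hsub hy

end Groth.Agent.Lib.Helper16.Lg
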