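import Mathlib
import Groth.Agent.Lib.Helper16.AlgSt.LgMain

/-!
# Base change of the largest open substack along a 1-morphism with `R` (helper16)

* `isLg_fp`: if `Q₀` is the largest open substack of `𝒳` over which `f : 𝒳 ⟶ 𝒴` has `P` and
  `z : 𝒵 ⟶ 𝒴` is representable with `R`, then the inverse image of `Q₀` is the largest open substack
  of `𝒵 ×_𝒴 𝒳` over which the projection to `𝒵` has `P`.
-/

set_option autoImplicit false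
set_option backward.isDefEq.respectTransparency false
set_option backward.isDefEq.respectTransparency.types false

universe u

open CategoryTheory CategoryTheory.Limits AlgebraicGeometry Opposite

namespace Groth.Agent.Lib.Helper16.Lg

open H10PT
open Groth.Agent.Lib.Helper10.Fib Groth.Agent.Lib.Helper10.AlgStRep
open Groth.Agent.Lib.Helper10.LiftSqBC
open Groth.Agent.Lib.Helper28.AlgSt.Bridge Groth.Agent.Lib.Helper28.AlgSt.SpaceCalc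
open Groth.Agent.Lib.Helper28.AlgSt.PropInst Groth.Agent.Lib.Helper28.AlgSt.Comp
open Groth.Agent.Lib.Helper28.AlgSt.Whisker Groth.Agent.Lib.Helper28.AlgSt.Key
open Groth.Agent.Lib.Helper28.AlgSt.Descent Groth.Agent.Lib.Helper28.AlgSt.DiagComp
open Groth.Agent.Lib.Helper28.AlgSt.ChartOver Groth.Agent.Lib.Helper28.AlgSt.IsoEquiv
open Groth.Agent.Lib.Helper28.AlgSt.FpStack Groth.Agent.Lib.Helper28.AlgSt.EssImage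
open Groth.Agent.Lib.Helper28.AlgSt.FpEquiv Groth.Agent.Lib.Helper28.AlgSt.SpaceStack
open Groth.Agent.Lib.Helper28.AlgSt.DiagRep Groth.Agent.Lib.Helper28.AlgSt.Chart
open Groth.Agent.Lib.Helper16 Groth.Agent.Lib.Helper16.AlgStDC
open Groth.Agent.Lib.Helper10.StkSub

variable {S : Scheme.{u}}

section PrePaste

variable {𝒲 𝒵 𝒴 𝒳 : AlgSt.Cat S} (G : 𝒲 ⥤ᵇ 𝒵) (g : 𝒵 ⥤ᵇ 𝒴) (f : 𝒳 ⥤ᵇ 𝒴)

/-- `fpPre ∘ paste1 ≅ snd`, on objects. -/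
def prePasteIso (A : (FibCat.fp G (FibCat.fpFst g f)).obj) :
    (fpPre G g f).obj ((paste1 G g f).obj A) ≅ A.obj.snd :=
  fpIsoMk (F := g) (G := f) (x := (fpPre G g f).obj ((paste1 G g f).obj A))
    (y := A.obj.snd) A.obj.iso (Iso.refl _) (by
      show g.map A.obj.iso.hom ≫ A.obj.snd.obj.iso.hom =
        (𝟙 _ ≫ (g.map A.obj.iso.hom ≫ A.obj.snd.obj.iso.hom) ≫ 𝟙 _) ≫ f.map (𝟙 _)
      simp)

end PrePaste

variable {𝒳 𝒴 𝒵 : AlgSt.Cat S}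

theorem isLg_fp (P Q R : MorphismProperty (AlgSp.Sp S)) (hPb : BC P)
    (hP : AlgSp.IsLocalOnBase AlgSp.IsFppfCover P) (hQb : BC Q)
    (hQ : AlgSp.IsLocalOnBase AlgSp.IsFppfCover Q) (hRb : BC R)
    (hR : AlgSp.IsLocalOnBase AlgSp.IsFppfCover R) (h2 : H2 R) (h3 : H3 P Q) (h4 : H4 P Q R)
    (h𝒳 : AlgSt.IsAlgStack Scheme.fppfPrecoverage 𝒳)
    (h𝒴 : AlgSt.IsAlgStack Scheme.fppfPrecoverage 𝒴)
    (h𝒵 : AlgSt.IsAlgStack Scheme.fppfPrecoverage 𝒵) (f : 𝒳 ⥤ᵇ 𝒴)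
    (hf : AlgSt.RepByAlgSpWith Q f) (Q₀ : 𝒳.obj → Prop) (hQ₀ : IsLg P f Q₀) (z : 𝒵 ⥤ᵇ 𝒴)
    (hz : AlgSt.RepByAlgSpWith R z) :
    IsLg P (FibCat.fpFst z f) (fun b => Q₀ b.obj.snd) := by
  have hX := h𝒳.isStack.1
  have hY := h𝒴.isStack.1
  have hZf := h𝒵.isStack.1
  have hf1 : AlgSt.RepByAlgSp1 f := repByAlgSp1_of_with Q f hf
  have hz1 : AlgSt.RepByAlgSp1 z := repByAlgSp1_of_with R z hz
  have h𝒳' : AlgSt.IsAlgStack Scheme.fppfPrecoverage (FibCat.fp z f) :=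
    isAlgStack_fp h𝒴.isStack h𝒴.diag h𝒵 h𝒳 z f
  have hX' := h𝒳'.isStack.1
  have hf' : AlgSt.RepByAlgSpWith Q (FibCat.fpFst z f) := repByAlgSpWith_fpFst Q f z hf
  have hf'1 : AlgSt.RepByAlgSp1 (FibCat.fpFst z f) := repByAlgSp1_of_with Q _ hf'
  -- (a) openness
  obtain ⟨TQ, hTQdef⟩ : ∃ TQ, TQ = Set.range (AlgSt.Points.map (AlgSt.subIncl 𝒳 Q₀)) := ⟨_, rfl⟩
  have hTQo : IsOpen TQ := by
    rw [hTQdef]
    exact isOpen_range_of_isOpenImm hQ₀.1.2.1 h𝒳 _ hQ₀.1.2.2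
  have hQ₀eq : Q₀ = ptsIn TQ := by
    rw [hTQdef]
    exact eq_ptsIn_of_isOpenSubstack h𝒳 Q₀ hQ₀.1
  have hiff : ∀ b : (FibCat.fp z f).obj,
      Q₀ b.obj.snd ↔ ptsIn (AlgSt.Points.map (FibCat.fpSnd z f) ⁻¹' TQ) b := fun b => by
    have h1 := ptsIn_obj_iff hX' hX (FibCat.fpSnd z f) TQ b
    rw [hQ₀eq]
    exact h1
  have hseq : (fun b : (FibCat.fp z f).obj => Q₀ b.obj.snd) =
      ptsIn (AlgSt.Points.map (FibCat.fpSnd z f) ⁻¹' TQ) := funext fun b => propext (hiff b)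
  have hopen : AlgSt.IsOpenSubstack (FibCat.fp z f) (fun b => Q₀ b.obj.snd)
      Scheme.fppfPrecoverage := by
    rw [hseq]
    exact isOpenSubstack_ptsIn h𝒳' _ (hTQo.preimage (continuous_points_map h𝒳 (FibCat.fpSnd z f)))
  -- (b) the property
  have hΨ := isEquivOver_subFpLift z f Q₀
  have hPP : AlgSt.RepByAlgSpWith P (BasedFunctor.comp
      (AlgSt.subIncl (FibCat.fp z f) (fun b => Q₀ b.obj.snd)) (FibCat.fpFst z f)) :=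
    repByAlgSpWith_of_square P _
      (FibCat.fpFst z (BasedFunctor.comp (AlgSt.subIncl 𝒳 Q₀) f)) (subFpLift z f Q₀)
      (BasedFunctor.id _) hΨ (isEquivOver_id _) (Iso.refl _)
      (repByAlgSpWith_fpFst P _ z hQ₀.2.1)
  refine ⟨hopen, hPP, ?_⟩
  -- (c) maximality
  intro Q₁ hQ₁ hQ₁P b hb
  obtain ⟨V, y, hy1, hy2⟩ := h𝒴.atlas
  obtain ⟨Z₀, hZ₀def⟩ : ∃ Z₀ : AlgSp.Space S,
      Z₀ = ⟨(AlgSp.yon S).obj V, AlgSp.IsAlgSpace.yon_obj V⟩ := ⟨_, rfl⟩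
  obtain ⟨ζ₀, hζ₀sm, hζ₀surj⟩ : ∃ ζ₀ : AlgSt.ofSp Z₀.obj ⥤ᵇ 𝒴,
      AlgSt.RepByAlgSpWith (AlgSp.LocP @Smooth) ζ₀ ∧
        AlgSt.RepByAlgSpWith AlgSp.IsSurjectiveMor ζ₀ := by
    subst hZ₀def
    exact ⟨BasedFunctor.comp (AlgSt.toOverCat V) y,
      repByAlgSpWith_equiv_comp _ (AlgSt.toOverCat V) (isEquivOver_toOverCat V) y hy1,
      repByAlgSpWith_equiv_comp _ (AlgSt.toOverCat V) (isEquivOver_toOverCat V) y hy2⟩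
  clear hZ₀def
  obtain ⟨Q₀', hQ₀'1, hC₀⟩ := exists_lg P Q R hPb hP hQb hQ hRb hR h2 h3 h4 h𝒳 h𝒴 f hf Z₀ ζ₀
    hζ₀sm hζ₀surj
  have hQQ : Q₀ = Q₀' := hQ₀.eq hQ₀'1
  subst hQQ
  have hZ₀r : AlgSt.RepByAlgSp (AlgSt.ofSp Z₀.obj) := ⟨Z₀, BasedFunctor.id _, isEquivOver_id _⟩
  obtain ⟨Z_R, e_R, he_R⟩ := repByAlgSp_fp_of_rep1 hZf hY hZ₀r ζ₀ z hz1
  have hZRr : AlgSt.RepByAlgSp (AlgSt.ofSp Z_R.obj) := ⟨Z_R, BasedFunctor.id _, isEquivOver_id _⟩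
  obtain ⟨ζ₁, hζ₁def⟩ : ∃ ζ₁ : AlgSt.ofSp Z_R.obj ⥤ᵇ 𝒵,
      ζ₁ = BasedFunctor.comp e_R (FibCat.fpSnd ζ₀ z) := ⟨_, rfl⟩
  obtain ⟨γ₁, hγ₁def⟩ : ∃ γ₁ : AlgSt.ofSp Z_R.obj ⥤ᵇ AlgSt.ofSp Z₀.obj,
      γ₁ = BasedFunctor.comp e_R (FibCat.fpFst ζ₀ z) := ⟨_, rfl⟩
  have hζ₁sm : AlgSt.RepByAlgSpWith (AlgSp.LocP @Smooth) ζ₁ := by
    rw [hζ₁def]
    exact repByAlgSpWith_equiv_comp _ e_R he_R _ (repByAlgSpWith_fpSnd _ ζ₀ z hζ₀sm)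
  have hζ₁surj : AlgSt.RepByAlgSpWith AlgSp.IsSurjectiveMor ζ₁ := by
    rw [hζ₁def]
    exact repByAlgSpWith_equiv_comp _ e_R he_R _ (repByAlgSpWith_fpSnd _ ζ₀ z hζ₀surj)
  have hγ₁R : AlgSt.RepByAlgSpWith R γ₁ := by
    rw [hγ₁def]
    exact repByAlgSpWith_equiv_comp _ e_R he_R _ (repByAlgSpWith_fpFst R z ζ₀ hz)
  have θ : BasedFunctor.comp γ₁ ζ₀ ≅ BasedFunctor.comp ζ₁ z := by
    rw [hγ₁def, hζ₁def]
    exact wl e_R (FibCat.fpIso ζ₀ z)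
  obtain ⟨Q₀'', hQ''1, hQ''2⟩ := exists_lg P Q R hPb hP hQb hQ hRb hR h2 h3 h4 h𝒳' h𝒵
    (FibCat.fpFst z f) hf' Z_R ζ₁ hζ₁sm hζ₁surj
  have hb'' : Q₀'' b := hQ''1.2.2 Q₁ hQ₁ hQ₁P b hb
  -- transports
  have h𝒫₀r : AlgSt.RepByAlgSp (FibCat.fp ζ₀ f) := repByAlgSp_fp_of_rep1 hX hY hZ₀r ζ₀ f hf1
  have hg₀ : AlgSt.RepByAlgSpWith Q (FibCat.fpFst ζ₀ f) := repByAlgSpWith_fpFst Q f ζ₀ hf
  have hB := isLg_fpFst P Q R hPb hP hQb hQ hRb hR h3 h4 h𝒫₀r hZ₀r hZRr (FibCat.fpFst ζ₀ f) hg₀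
    γ₁ hγ₁R _ hC₀
  have h𝒜br : AlgSt.RepByAlgSp (FibCat.fp γ₁ (FibCat.fpFst ζ₀ f)) :=
    repByAlgSp_fp hZRr h𝒫₀r hZ₀r _ _
  have h𝒫₁r : AlgSt.RepByAlgSp (FibCat.fp ζ₁ (FibCat.fpFst z f)) :=
    repByAlgSp_fp_of_rep1 hX' hZf hZRr ζ₁ (FibCat.fpFst z f) hf'1
  have hEa : FibCat.IsEquivOver (paste1 ζ₁ z f) := isEquivOver_paste1 _ _ _
  have h𝒫mr : AlgSt.RepByAlgSp (FibCat.fp (BasedFunctor.comp ζ₁ z) f) :=
    Groth.Agent.Lib.Helper10.AlgStRep.repByAlgSp_of_isEquivOver _ hEa h𝒫₁r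
  obtain ⟨Eb, hEbdef⟩ : ∃ Eb : FibCat.fp γ₁ (FibCat.fpFst ζ₀ f) ⥤ᵇ
      FibCat.fp (BasedFunctor.comp ζ₁ z) f,
      Eb = BasedFunctor.comp (paste1 γ₁ ζ₀ f)
        (fpMap (α := BasedFunctor.id (AlgSt.ofSp Z_R.obj)) (β := BasedFunctor.id 𝒳)
          (γ := BasedFunctor.id 𝒴) (G' := BasedFunctor.comp γ₁ ζ₀)
          (G := BasedFunctor.comp ζ₁ z) (f' := f) (f := f) θ (Iso.refl _)) := ⟨_, rfl⟩
  have hEb : FibCat.IsEquivOver Eb := by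
    haveI := id_full 𝒴
    haveI := id_faithful 𝒴
    rw [hEbdef]
    exact isEquivOver_comp _ _ (isEquivOver_paste1 _ _ _)
      (isEquivOver_fpMap _ _ (isEquivOver_id _) (isEquivOver_id _))
  have h𝒫₁ := isAlgStack_of_repByAlgSp h𝒫₁r
  have h𝒜b := isAlgStack_of_repByAlgSp h𝒜br
  have h𝒫m := isAlgStack_of_repByAlgSp h𝒫mr
  have hcl'' : ObjectProperty.IsClosedUnderIsomorphisms Q₀'' := hQ''1.1.1
  have hcl₀ : ObjectProperty.IsClosedUnderIsomorphisms Q₀ := hQ₀.1.1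
  have hcla : ObjectProperty.IsClosedUnderIsomorphisms
      (fun P₂ : (FibCat.fp (BasedFunctor.comp ζ₁ z) f).obj => Q₀'' ((fpPre ζ₁ z f).obj P₂)) :=
    ⟨fun e h => hcl''.of_iso ((fpPre ζ₁ z f).toFunctor.mapIso e) h⟩
  have hclb : ObjectProperty.IsClosedUnderIsomorphisms
      (fun P₂ : (FibCat.fp (BasedFunctor.comp ζ₁ z) f).obj => Q₀ P₂.obj.snd) :=
    ⟨fun e h => hcl₀.of_iso ((FibCat.fpSnd (BasedFunctor.comp ζ₁ z) f).toFunctor.mapIso e) h⟩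
  have hTa : IsLg P (FibCat.fpFst (BasedFunctor.comp ζ₁ z) f)
      (fun P₂ => Q₀'' ((fpPre ζ₁ z f).obj P₂)) :=
    isLg_of_equiv P h𝒫₁ h𝒫m (paste1 ζ₁ z f) hEa (FibCat.fpFst ζ₁ (FibCat.fpFst z f))
      (FibCat.fpFst (BasedFunctor.comp ζ₁ z) f) (Iso.refl _) _ _ hcla
      (fun A => ⟨fun h => hcl''.of_iso (prePasteIso ζ₁ z f A).symm h,
        fun h => hcl''.of_iso (prePasteIso ζ₁ z f A) h⟩) hQ''2
  have hTb : IsLg P (FibCat.fpFst (BasedFunctor.comp ζ₁ z) f) (fun P₂ => Q₀ P₂.obj.snd) := by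
    refine isLg_of_equiv P h𝒜b h𝒫m Eb hEb (FibCat.fpFst γ₁ (FibCat.fpFst ζ₀ f))
      (FibCat.fpFst (BasedFunctor.comp ζ₁ z) f) ?_ _ _ hclb (fun A => ?_) hB
    · rw [hEbdef]
      exact Iso.refl _
    · rw [hEbdef]
      exact Iff.rfl
  have hab := hTa.eq hTb
  -- conclusion
  obtain ⟨T'', hT''def⟩ : ∃ T'', T'' =
      Set.range (AlgSt.Points.map (AlgSt.subIncl (FibCat.fp z f) Q₀'')) := ⟨_, rfl⟩
  have hQ''eq : Q₀'' = ptsIn T'' := by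
    rw [hT''def]
    exact eq_ptsIn_of_isOpenSubstack h𝒳' Q₀'' hQ''1.1
  have hζ₁s : AlgSt.IsSurjective ζ₁ := isSurjective_of_rep hZf ζ₁ hζ₁surj
  have hsub : T'' ⊆ AlgSt.Points.map (FibCat.fpSnd z f) ⁻¹' TQ := by
    intro t ht
    obtain ⟨c, hc⟩ := hζ₁s (AlgSt.Points.map (FibCat.fpFst z f) t)
    obtain ⟨w, -, hw2⟩ := exists_fp_point hX' hZf (Stk.isFibGrpd_ofPsh _) (FibCat.fpFst z f) ζ₁
      c t hc
    obtain ⟨q, rfl⟩ := AlgSt.Points.mk_surjective w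
    have h1 : Q₀'' q.obj.obj.snd := by
      rw [hQ''eq]
      refine ptsIn_of_mk_mem T'' (q.map (FibCat.fpSnd ζ₁ (FibCat.fpFst z f))) ?_
      rw [← hw2] at ht
      exact ht
    have h2' : Q₀'' ((fpPre ζ₁ z f).obj ((paste1 ζ₁ z f).obj q.obj)) :=
      hcl''.of_iso (prePasteIso ζ₁ z f q.obj).symm h1
    have h3' : Q₀ q.obj.obj.snd.obj.snd := (iff_of_eq (congrFun hab ((paste1 ζ₁ z f).obj q.obj))).1 h2'
    rw [← hw2, hTQdef]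
    exact mk_mem_range_of_mem Q₀
      ((q.map (FibCat.fpSnd ζ₁ (FibCat.fpFst z f))).map (FibCat.fpSnd z f)) h3'
  rw [hQ''eq] at hb''
  exact (hiff b).2 (ptsIn_mono hsub hb'')

end Groth.Agent.Lib.Helper16.Lg
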