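import Mathlib
import Groth.Agent.Lib.Helper16.AlgSt.Cube

/-!
# Base change of `LocQ`
-/

set_option autoImplicit false
set_option backward.isDefEq.respectTransparency false
set_option backward.isDefEq.respectTransparency.types false

universe u

open CategoryTheory CategoryTheory.Limits AlgebraicGeometry Opposite

namespace Groth.Agent.Lib.Helper16.AlgStDC

open Groth.Agent.Lib.Helper10.Fib Groth.Agent.Lib.Helper10.StkPsh
open Groth.Agent.Lib.Helper10.AlgStRep Groth.Agent.Lib.Helper10.LiftSqBC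
open Groth.Agent.Lib.Helper28.AlgSt.PshFun Groth.Agent.Lib.Helper28.AlgSt.PshPull
open Groth.Agent.Lib.Helper28.AlgSt.ClsPsh Groth.Agent.Lib.Helper28.AlgSt.Bridge
open Groth.Agent.Lib.Helper28.AlgSt.Key Groth.Agent.Lib.Helper28.AlgSt.PropInst
open Groth.Agent.Lib.Helper28.AlgSt.Comp Groth.Agent.Lib.Helper28.AlgSt.Whisker
open Groth.Agent.Lib.Helper28.AlgSt.SpaceCalc Groth.Agent.Lib.Helper28.AlgSt.Chart
open Groth.Agent.Lib.Helper28.AlgSt.ChartOver Groth.Agent.Lib.Helper28.AlgSt.FpStack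
open Groth.Agent.Lib.Helper28.AlgSt.DiagComp Groth.Agent.Lib.Helper28.AlgSt.Descent

variable {S : Scheme.{u}} {𝒳 𝒴 𝒴' : AlgSt.Cat S}

/-- `LocQ P` is stable under base change, for `P` smooth local on source-and-target and stable
under base change. -/
theorem locQ_baseChange {P : MorphismProperty (AlgSp.Sp S)} (hP : AlgSp.IsSmoothLocalST P)
    (hPb : BC P) (h𝒳 : AlgSt.IsAlgStack Scheme.fppfPrecoverage 𝒳)
    (h𝒴 : AlgSt.IsAlgStack Scheme.fppfPrecoverage 𝒴)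
    (h𝒴' : AlgSt.IsAlgStack Scheme.fppfPrecoverage 𝒴') (f : 𝒳 ⥤ᵇ 𝒴) (g : 𝒴' ⥤ᵇ 𝒴)
    (hQ : AlgSt.LocQ P f) : AlgSt.LocQ P (FibCat.fpFst g f) := by
  obtain ⟨V, y, hy₁, hy₂⟩ := h𝒴.atlas
  have hVa := H10PT.isAlgStack_overCat V
  have hfy : AlgSt.IsAlgStack Scheme.fppfPrecoverage (FibCat.fp f y) :=
    isAlgStack_fp h𝒴.isStack h𝒴.diag h𝒳 hVa f y
  obtain ⟨U, u, hu₁, hu₂⟩ := hfy.atlas
  have hPh := all_squares_atlas f y u hP h𝒳.isStack.1 h𝒴.isStack.1 hQ hy₁ hu₁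
  have hgy : AlgSt.IsAlgStack Scheme.fppfPrecoverage (FibCat.fp g y) :=
    isAlgStack_fp h𝒴.isStack h𝒴.diag h𝒴' hVa g y
  obtain ⟨V', v', hv'₁, hv'₂⟩ := hgy.atlas
  have hV' := isFibGrpd_overForget V'
  have hy'₁ : AlgSt.RepByAlgSpWith (AlgSp.LocP @Smooth)
      (BasedFunctor.comp v' (FibCat.fpFst g y)) :=
    repByAlgSpWith_comp_smooth hV' hgy.isStack.1 v' _ hv'₁ (repByAlgSpWith_fpFst _ y g hy₁)
  have hy'₂ : AlgSt.RepByAlgSpWith AlgSp.IsSurjectiveMor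
      (BasedFunctor.comp v' (FibCat.fpFst g y)) :=
    repByAlgSpWith_comp_surjective hV' hgy.isStack.1 v' _ hv'₂ (repByAlgSpWith_fpFst _ y g hy₂)
  obtain ⟨u', hu', ⟨i⟩⟩ := cube_scheme f g y (BasedFunctor.comp v' (FibCat.fpFst g y))
    (homOfOver (BasedFunctor.comp v' (FibCat.fpSnd g y))) (sqAlpha g y v') u
  have h𝒬 : FibCat.IsFibGrpd (FibCat.fp g f).p :=
    isFibGrpd_fp g f h𝒴'.isStack.1 h𝒳.isStack.1 h𝒴.isStack.1
  have hqy' : FibCat.IsFibGrpd (FibCat.fp (FibCat.fpFst g f)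
      (BasedFunctor.comp v' (FibCat.fpFst g y))).p :=
    isFibGrpd_fp _ _ h𝒬 hV' h𝒴'.isStack.1
  have hU' := isFibGrpd_overForget
    (pullback (homOfOver (BasedFunctor.comp u (FibCat.fpSnd f y)))
      (homOfOver (BasedFunctor.comp v' (FibCat.fpSnd g y))))
  have hx'₁ := repByAlgSpWith_comp_smooth hU' hqy' u' _ (hu' _ hu₁)
    (repByAlgSpWith_fpFst _ (BasedFunctor.comp v' (FibCat.fpFst g y)) (FibCat.fpFst g f) hy'₁)
  have hx'₂ := repByAlgSpWith_comp_surjective hU' hqy' u' _ (hu' _ hu₂)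
    (repByAlgSpWith_fpFst _ (BasedFunctor.comp v' (FibCat.fpFst g y)) (FibCat.fpFst g f) hy'₂)
  let α' : BasedFunctor.comp (BasedFunctor.comp u' (FibCat.fpFst (FibCat.fpFst g f)
        (BasedFunctor.comp v' (FibCat.fpFst g y)))) (FibCat.fpFst g f) ≅
      BasedFunctor.comp (AlgSt.overMap (pullback.snd
        (homOfOver (BasedFunctor.comp u (FibCat.fpSnd f y)))
        (homOfOver (BasedFunctor.comp v' (FibCat.fpSnd g y)))))
        (BasedFunctor.comp v' (FibCat.fpFst g y)) :=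
    (show BasedFunctor.comp (BasedFunctor.comp u' (FibCat.fpFst (FibCat.fpFst g f)
        (BasedFunctor.comp v' (FibCat.fpFst g y)))) (FibCat.fpFst g f) ≅
      BasedFunctor.comp u' (BasedFunctor.comp (FibCat.fpFst (FibCat.fpFst g f)
        (BasedFunctor.comp v' (FibCat.fpFst g y))) (FibCat.fpFst g f)) from Iso.refl _) ≪≫
    wl u' (FibCat.fpIso (FibCat.fpFst g f) (BasedFunctor.comp v' (FibCat.fpFst g y))) ≪≫
    (show BasedFunctor.comp u' (BasedFunctor.comp (FibCat.fpSnd (FibCat.fpFst g f)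
        (BasedFunctor.comp v' (FibCat.fpFst g y))) (BasedFunctor.comp v' (FibCat.fpFst g y))) ≅
      BasedFunctor.comp (BasedFunctor.comp u' (FibCat.fpSnd (FibCat.fpFst g f)
        (BasedFunctor.comp v' (FibCat.fpFst g y)))) (BasedFunctor.comp v' (FibCat.fpFst g y)) from
      Iso.refl _) ≪≫
    wr i (BasedFunctor.comp v' (FibCat.fpFst g y))
  refine ⟨_, V', _, _, _, α', hx'₁, hx'₂, hy'₁, ?_⟩
  exact hPb (AlgSp.IsAlgSpace.yon_obj U) (AlgSp.IsAlgSpace.yon_obj V)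
    (AlgSp.IsAlgSpace.yon_obj _) (AlgSp.IsAlgSpace.yon_obj V') _ _ _ _
    ((IsPullback.of_hasPullback (homOfOver (BasedFunctor.comp u (FibCat.fpSnd f y)))
      (homOfOver (BasedFunctor.comp v' (FibCat.fpSnd g y)))).map (AlgSp.yon S)) hPh

end Groth.Agent.Lib.Helper16.AlgStDC
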