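import Mathlib
import Groth.Agent.Lib.Helper16.AlgSt.LocQOne
import Groth.Agent.Lib.Helper16.Misc2

/-!
# `LocQ` rows provable from one chart
-/

set_option autoImplicit false
set_option backward.isDefEq.respectTransparency false
set_option backward.isDefEq.respectTransparency.types false

universe u

open CategoryTheory CategoryTheory.Limits AlgebraicGeometry Opposite

namespace Groth.Agent.Lib.Helper16.AlgStDC

open Groth.Agent.Lib.Helper10.Fib Groth.Agent.Lib.Helper10.StkPsh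
open Groth.Agent.Lib.Helper10.AlgStRep Groth.Agent.Lib.Helper10.LiftSqBC
open Groth.Agent.Lib.Helper28.AlgSt.PshFun Groth.Agent.Lib.Helper28.AlgSt.PshPull
open Groth.Agent.Lib.Helper28.AlgSt.ClsPsh Groth.Agent.Lib.Helper28.AlgSt.Bridge
open Groth.Agent.Lib.Helper28.AlgSt.Key Groth.Agent.Lib.Helper28.AlgSt.PropInst
open Groth.Agent.Lib.Helper28.AlgSt.Comp Groth.Agent.Lib.Helper28.AlgSt.Whisker
open Groth.Agent.Lib.Helper28.AlgSt.SpaceCalc Groth.Agent.Lib.Helper28.AlgSt.Chart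
open Groth.Agent.Lib.Helper28.AlgSt.ChartOver Groth.Agent.Lib.Helper28.AlgSt.FpStack
open Groth.Agent.Lib.Helper28.AlgSt.DiagComp Groth.Agent.Lib.Helper28.AlgSt.Descent

variable {S : Scheme.{u}} {𝒳 𝒴 𝒵 : AlgSt.Cat S}

/-- If `f ≫ g` is locally of finite type then so is `f`. -/
theorem locQ_lft_of_comp (h𝒳 : AlgSt.IsAlgStack Scheme.fppfPrecoverage 𝒳)
    (h𝒴 : AlgSt.IsAlgStack Scheme.fppfPrecoverage 𝒴)
    (h𝒵 : AlgSt.IsAlgStack Scheme.fppfPrecoverage 𝒵) (f : 𝒳 ⥤ᵇ 𝒴) (g : 𝒴 ⥤ᵇ 𝒵)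
    (hQ : AlgSt.LocQ (AlgSp.LocP @LocallyOfFiniteType) (BasedFunctor.comp f g)) :
    AlgSt.LocQ (AlgSp.LocP @LocallyOfFiniteType) f := by
  obtain ⟨U, W, x, w, h, α, hx₁, hx₂, hw, hPh⟩ := hQ
  have hlft : LocallyOfFiniteType h.left := AlgSp.locP_yon_map hPh
  have hWa := H10PT.isAlgStack_overCat W
  have hUa := H10PT.isAlgStack_overCat U
  have h𝒫 : AlgSt.IsAlgStack Scheme.fppfPrecoverage (FibCat.fp g w) :=
    isAlgStack_fp h𝒵.isStack h𝒵.diag h𝒴 hWa g w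
  obtain ⟨V, y', hy'₁, hy'₂⟩ := h𝒫.atlas
  let α' : BasedFunctor.comp (BasedFunctor.comp x f) g ≅ BasedFunctor.comp (AlgSt.overMap h) w :=
    (show BasedFunctor.comp (BasedFunctor.comp x f) g ≅
      BasedFunctor.comp x (BasedFunctor.comp f g) from Iso.refl _) ≪≫ α
  let u : FibCat.overCat U ⥤ᵇ FibCat.fp g w :=
    FibCat.fpLift (BasedFunctor.comp x f) (AlgSt.overMap h) α'
  obtain ⟨U', t, k', α'', ht, -, -, hts⟩ := exists_good_square hUa h𝒫 u V y' hy'₁
  have hts' := hts hy'₂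
  have hO' := isFibGrpd_overForget U'
  have hO := isFibGrpd_overForget U
  have hV := isFibGrpd_overForget V
  have hx'₁ := repByAlgSpWith_comp_smooth hO' hO t x ht hx₁
  have hx'₂ := repByAlgSpWith_comp_surjective hO' hO t x hts' hx₂
  have hy : AlgSt.RepByAlgSpWith (AlgSp.LocP @Smooth)
      (BasedFunctor.comp y' (FibCat.fpFst g w)) :=
    repByAlgSpWith_comp_smooth hV h𝒫.isStack.1 y' _ hy'₁ (repByAlgSpWith_fpFst _ w g hw)
  let γ : BasedFunctor.comp (BasedFunctor.comp t x) f ≅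
      BasedFunctor.comp (AlgSt.overMap k') (BasedFunctor.comp y' (FibCat.fpFst g w)) :=
    (show BasedFunctor.comp (BasedFunctor.comp t x) f ≅
      BasedFunctor.comp (BasedFunctor.comp t u) (FibCat.fpFst g w) from Iso.refl _) ≪≫
    wr α'' (FibCat.fpFst g w) ≪≫
    (show BasedFunctor.comp (BasedFunctor.comp (AlgSt.overMap k') y') (FibCat.fpFst g w) ≅
      BasedFunctor.comp (AlgSt.overMap k') (BasedFunctor.comp y' (FibCat.fpFst g w)) from
      Iso.refl _)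
  refine ⟨U', V, BasedFunctor.comp t x, BasedFunctor.comp y' (FibCat.fpFst g w), k', γ,
    hx'₁, hx'₂, hy, ?_⟩
  have e : AlgSt.overMap (k' ≫ homOfOver (BasedFunctor.comp y' (FibCat.fpSnd g w))) ≅
      AlgSt.overMap (homOfOver t ≫ h) :=
    (overMapCompIso k' (homOfOver (BasedFunctor.comp y' (FibCat.fpSnd g w)))).symm ≪≫
    wl (AlgSt.overMap k') (isoOverMap (BasedFunctor.comp y' (FibCat.fpSnd g w))).symm ≪≫
    (show BasedFunctor.comp (AlgSt.overMap k') (BasedFunctor.comp y' (FibCat.fpSnd g w)) ≅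
      BasedFunctor.comp (BasedFunctor.comp (AlgSt.overMap k') y') (FibCat.fpSnd g w) from
      Iso.refl _) ≪≫
    wr α''.symm (FibCat.fpSnd g w) ≪≫
    (show BasedFunctor.comp (BasedFunctor.comp t u) (FibCat.fpSnd g w) ≅
      BasedFunctor.comp t (AlgSt.overMap h) from Iso.refl _) ≪≫
    wr (isoOverMap t) (AlgSt.overMap h) ≪≫ overMapCompIso (homOfOver t) h
  have heq := overMap_inj e
  haveI htsm : Smooth (homOfOver t).left := prop_homOfOver' good_smooth t ht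
  have h1 : LocallyOfFiniteType (homOfOver t ≫ h).left := by
    rw [Over.comp_left]; infer_instance
  rw [← heq, Over.comp_left] at h1
  haveI := h1
  have h2 : LocallyOfFiniteType k'.left := locallyOfFiniteType_of_comp k'.left
    (homOfOver (BasedFunctor.comp y' (FibCat.fpSnd g w))).left
  exact locP_yon_of Groth.Agent.Lib.Helper16.etLocalST_locallyOfFiniteType k' h2

/-- Refinement of a chart square of `f ≫ g` along a smooth surjective chart of `𝒴 ×_𝒵 W`. -/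
theorem chart_refine (h𝒳 : AlgSt.IsAlgStack Scheme.fppfPrecoverage 𝒳)
    (h𝒴 : AlgSt.IsAlgStack Scheme.fppfPrecoverage 𝒴)
    (h𝒵 : AlgSt.IsAlgStack Scheme.fppfPrecoverage 𝒵) (f : 𝒳 ⥤ᵇ 𝒴) (g : 𝒴 ⥤ᵇ 𝒵)
    {U W : Over S} (x : FibCat.overCat U ⥤ᵇ 𝒳) (w : FibCat.overCat W ⥤ᵇ 𝒵) (h : U ⟶ W)
    (α : BasedFunctor.comp x (BasedFunctor.comp f g) ≅ BasedFunctor.comp (AlgSt.overMap h) w)
    (hx₁ : AlgSt.RepByAlgSpWith (AlgSp.LocP @Smooth) x)
    (hx₂ : AlgSt.RepByAlgSpWith AlgSp.IsSurjectiveMor x)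
    (hw : AlgSt.RepByAlgSpWith (AlgSp.LocP @Smooth) w) {V : Over S}
    (p : FibCat.overCat V ⥤ᵇ FibCat.fp g w)
    (hp₁ : AlgSt.RepByAlgSpWith (AlgSp.LocP @Smooth) p)
    (hp₂ : AlgSt.RepByAlgSpWith AlgSp.IsSurjectiveMor p) :
    ∃ (U' : Over S) (t : FibCat.overCat U' ⥤ᵇ FibCat.overCat U) (k' : U' ⟶ V)
      (_ : BasedFunctor.comp (BasedFunctor.comp t x) f ≅
        BasedFunctor.comp (AlgSt.overMap k') (BasedFunctor.comp p (FibCat.fpFst g w))),
      Smooth (homOfOver t).left ∧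
      AlgSt.RepByAlgSpWith (AlgSp.LocP @Smooth) (BasedFunctor.comp t x) ∧
      AlgSt.RepByAlgSpWith AlgSp.IsSurjectiveMor (BasedFunctor.comp t x) ∧
      AlgSt.RepByAlgSpWith (AlgSp.LocP @Smooth) (BasedFunctor.comp p (FibCat.fpFst g w)) ∧
      k' ≫ homOfOver (BasedFunctor.comp p (FibCat.fpSnd g w)) = homOfOver t ≫ h := by
  have hWa := H10PT.isAlgStack_overCat W
  have hUa := H10PT.isAlgStack_overCat U
  have h𝒫 : AlgSt.IsAlgStack Scheme.fppfPrecoverage (FibCat.fp g w) :=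
    isAlgStack_fp h𝒵.isStack h𝒵.diag h𝒴 hWa g w
  let α' : BasedFunctor.comp (BasedFunctor.comp x f) g ≅ BasedFunctor.comp (AlgSt.overMap h) w :=
    (show BasedFunctor.comp (BasedFunctor.comp x f) g ≅
      BasedFunctor.comp x (BasedFunctor.comp f g) from Iso.refl _) ≪≫ α
  let u : FibCat.overCat U ⥤ᵇ FibCat.fp g w :=
    FibCat.fpLift (BasedFunctor.comp x f) (AlgSt.overMap h) α'
  obtain ⟨U', t, k', α'', ht, -, -, hts⟩ := exists_good_square hUa h𝒫 u V p hp₁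
  have hts' := hts hp₂
  have hO' := isFibGrpd_overForget U'
  have hO := isFibGrpd_overForget U
  have hV := isFibGrpd_overForget V
  have hx'₁ := repByAlgSpWith_comp_smooth hO' hO t x ht hx₁
  have hx'₂ := repByAlgSpWith_comp_surjective hO' hO t x hts' hx₂
  have hy : AlgSt.RepByAlgSpWith (AlgSp.LocP @Smooth)
      (BasedFunctor.comp p (FibCat.fpFst g w)) :=
    repByAlgSpWith_comp_smooth hV h𝒫.isStack.1 p _ hp₁ (repByAlgSpWith_fpFst _ w g hw)
  let γ : BasedFunctor.comp (BasedFunctor.comp t x) f ≅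
      BasedFunctor.comp (AlgSt.overMap k') (BasedFunctor.comp p (FibCat.fpFst g w)) :=
    (show BasedFunctor.comp (BasedFunctor.comp t x) f ≅
      BasedFunctor.comp (BasedFunctor.comp t u) (FibCat.fpFst g w) from Iso.refl _) ≪≫
    wr α'' (FibCat.fpFst g w) ≪≫
    (show BasedFunctor.comp (BasedFunctor.comp (AlgSt.overMap k') p) (FibCat.fpFst g w) ≅
      BasedFunctor.comp (AlgSt.overMap k') (BasedFunctor.comp p (FibCat.fpFst g w)) from
      Iso.refl _)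
  have e : AlgSt.overMap (k' ≫ homOfOver (BasedFunctor.comp p (FibCat.fpSnd g w))) ≅
      AlgSt.overMap (homOfOver t ≫ h) :=
    (overMapCompIso k' (homOfOver (BasedFunctor.comp p (FibCat.fpSnd g w)))).symm ≪≫
    wl (AlgSt.overMap k') (isoOverMap (BasedFunctor.comp p (FibCat.fpSnd g w))).symm ≪≫
    (show BasedFunctor.comp (AlgSt.overMap k') (BasedFunctor.comp p (FibCat.fpSnd g w)) ≅
      BasedFunctor.comp (BasedFunctor.comp (AlgSt.overMap k') p) (FibCat.fpSnd g w) from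
      Iso.refl _) ≪≫
    wr α''.symm (FibCat.fpSnd g w) ≪≫
    (show BasedFunctor.comp (BasedFunctor.comp t u) (FibCat.fpSnd g w) ≅
      BasedFunctor.comp t (AlgSt.overMap h) from Iso.refl _) ≪≫
    wr (isoOverMap t) (AlgSt.overMap h) ≪≫ overMapCompIso (homOfOver t) h
  exact ⟨U', t, k', γ, prop_homOfOver' good_smooth t ht, hx'₁, hx'₂, hy, overMap_inj e⟩

/-- If `f ≫ g` is locally of finite presentation and `g` is locally of finite type then `f` is
locally of finite presentation. -/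
theorem locQ_lfp_of_comp (h𝒳 : AlgSt.IsAlgStack Scheme.fppfPrecoverage 𝒳)
    (h𝒴 : AlgSt.IsAlgStack Scheme.fppfPrecoverage 𝒴)
    (h𝒵 : AlgSt.IsAlgStack Scheme.fppfPrecoverage 𝒵) (f : 𝒳 ⥤ᵇ 𝒴) (g : 𝒴 ⥤ᵇ 𝒵)
    (hQ : AlgSt.LocQ (AlgSp.LocP @LocallyOfFinitePresentation) (BasedFunctor.comp f g))
    (hg : AlgSt.LocQ (AlgSp.LocP @LocallyOfFiniteType) g) :
    AlgSt.LocQ (AlgSp.LocP @LocallyOfFinitePresentation) f := by
  obtain ⟨U, W, x, w, h, α, hx₁, hx₂, hw, hPh⟩ := hQ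
  obtain ⟨V₁, W₁, y₁, w₁, k₁, β₁, hy₁₁, hy₁₂, hw₁, hPk₁⟩ := hg
  have hlfp : LocallyOfFinitePresentation h.left := AlgSp.locP_yon_map hPh
  haveI hk₁ : LocallyOfFiniteType k₁.left := AlgSp.locP_yon_map hPk₁
  have hWa := H10PT.isAlgStack_overCat W
  have h𝒫 : AlgSt.IsAlgStack Scheme.fppfPrecoverage (FibCat.fp g w) :=
    isAlgStack_fp h𝒵.isStack h𝒵.diag h𝒴 hWa g w
  obtain ⟨V₃, p, m, γ₀, hp, hl, -, hps⟩ :=
    exists_good_square h𝒫 h𝒴 (FibCat.fpFst g w) V₁ y₁ hy₁₁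
  have hps' := hps hy₁₂
  have hπ : AlgSt.RepByAlgSpWith (AlgSp.LocP @Smooth) (FibCat.fpFst g w) :=
    repByAlgSpWith_fpFst _ w g hw
  have hV₃ := isFibGrpd_overForget V₃
  have hV₁ := isFibGrpd_overForget V₁
  have hfpπ : FibCat.IsFibGrpd (FibCat.fp (FibCat.fpFst g w) y₁).p :=
    isFibGrpd_fp _ _ h𝒫.isStack.1 hV₁ h𝒴.isStack.1
  have hm : AlgSt.RepByAlgSpWith (AlgSp.LocP @Smooth) (AlgSt.overMap m) :=
    repByAlgSpWith_iso _
      (show AlgSt.overMap m ≅ BasedFunctor.comp (FibCat.fpLift p (AlgSt.overMap m) γ₀)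
        (FibCat.fpSnd (FibCat.fpFst g w) y₁) from Iso.refl _)
      (repByAlgSpWith_comp_smooth hV₃ hfpπ _ _ hl
        (repByAlgSpWith_fpSnd _ (FibCat.fpFst g w) y₁ hπ))
  haveI hmsm : Smooth m.left := by
    have := prop_homOfOver' good_smooth (AlgSt.overMap m) hm
    rwa [homOfOver_overMap] at this
  let δ : BasedFunctor.comp (AlgSt.overMap (homOfOver (BasedFunctor.comp p (FibCat.fpSnd g w)))) w ≅
      BasedFunctor.comp (AlgSt.overMap (m ≫ k₁)) w₁ :=
    wr (isoOverMap (BasedFunctor.comp p (FibCat.fpSnd g w))).symm w ≪≫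
    (show BasedFunctor.comp (BasedFunctor.comp p (FibCat.fpSnd g w)) w ≅
      BasedFunctor.comp p (BasedFunctor.comp (FibCat.fpSnd g w) w) from Iso.refl _) ≪≫
    wl p (FibCat.fpIso g w).symm ≪≫
    (show BasedFunctor.comp p (BasedFunctor.comp (FibCat.fpFst g w) g) ≅
      BasedFunctor.comp (BasedFunctor.comp p (FibCat.fpFst g w)) g from Iso.refl _) ≪≫
    wr γ₀ g ≪≫
    (show BasedFunctor.comp (BasedFunctor.comp (AlgSt.overMap m) y₁) g ≅
      BasedFunctor.comp (AlgSt.overMap m) (BasedFunctor.comp y₁ g) from Iso.refl _) ≪≫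
    wl (AlgSt.overMap m) β₁ ≪≫
    (show BasedFunctor.comp (AlgSt.overMap m) (BasedFunctor.comp (AlgSt.overMap k₁) w₁) ≅
      BasedFunctor.comp (BasedFunctor.comp (AlgSt.overMap m) (AlgSt.overMap k₁)) w₁ from
      Iso.refl _) ≪≫
    wr (overMapCompIso m k₁) w₁
  have hmk : LocallyOfFiniteType (m ≫ k₁).left := by
    rw [Over.comp_left]; infer_instance
  have hk₃ : LocallyOfFiniteType (homOfOver (BasedFunctor.comp p (FibCat.fpSnd g w))).left :=
    lft_of_two_charts h𝒵 w w₁ hw₁ _ (m ≫ k₁) δ hmk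
  obtain ⟨U', t, k', γ, hts, hx'₁, hx'₂, hy, heq⟩ :=
    chart_refine h𝒳 h𝒴 h𝒵 f g x w h α hx₁ hx₂ hw p hp hps'
  refine ⟨U', V₃, BasedFunctor.comp t x, BasedFunctor.comp p (FibCat.fpFst g w), k', γ,
    hx'₁, hx'₂, hy, ?_⟩
  haveI := hts
  have h1 : LocallyOfFinitePresentation (homOfOver t ≫ h).left := by
    rw [Over.comp_left]; infer_instance
  rw [← heq, Over.comp_left] at h1
  have h2 : LocallyOfFinitePresentation k'.left :=
    Groth.Agent.Lib.Helper16.lfp_of_comp_of_lft h1 hk₃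
  exact locP_yon_of Groth.Agent.Lib.Helper16.etLocalST_locallyOfFinitePresentation k' h2

end Groth.Agent.Lib.Helper16.AlgStDC
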