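import Mathlib
import Groth.Agent.Lib.Helper16.AlgSt.FppfLocQ
import Groth.Agent.Lib.Helper16.AlgSt.LocQRows
import Groth.Agent.Lib.Helper16.AlgSt.LocQBC
import Groth.Agent.Lib.Helper16.AlgSt.LocQLocP
import Groth.Agent.Lib.Helper16.FppfSmoothLocal

/-!
# `LocQ` rows using that finite type / finite presentation are fppf local on the source
-/

set_option autoImplicit false
set_option backward.isDefEq.respectTransparency false
set_option backward.isDefEq.respectTransparency.types false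

universe u

open CategoryTheory CategoryTheory.Limits AlgebraicGeometry Opposite

namespace Groth.Agent.Lib.Helper16.AlgStDC

open Groth.Agent.Lib.Helper10.Fib Groth.Agent.Lib.Helper10.StkPsh
open Groth.Agent.Lib.Helper10.AlgStRep Groth.Agent.Lib.Helper10.LiftSqBC
open Groth.Agent.Lib.Helper28.AlgSt.PshFun Groth.Agent.Lib.Helper28.AlgSt.PshPull
open Groth.Agent.Lib.Helper28.AlgSt.ClsPsh Groth.Agent.Lib.Helper28.AlgSt.Bridge
open Groth.Agent.Lib.Helper28.AlgSt.Key Groth.Agent.Lib.Helper28.AlgSt.PropInst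
open Groth.Agent.Lib.Helper28.AlgSt.Comp Groth.Agent.Lib.Helper28.AlgSt.Whisker
open Groth.Agent.Lib.Helper28.AlgSt.SpaceCalc Groth.Agent.Lib.Helper28.AlgSt.Chart
open Groth.Agent.Lib.Helper28.AlgSt.ChartOver Groth.Agent.Lib.Helper28.AlgSt.FpStack
open Groth.Agent.Lib.Helper28.AlgSt.DiagComp Groth.Agent.Lib.Helper28.AlgSt.Descent

variable {S : Scheme.{u}} {𝒳 𝒴 𝒵 : AlgSt.Cat S}

/-- `LocQ P` is invariant under 2-isomorphism. -/
theorem locQ_of_iso {P : MorphismProperty (AlgSp.Sp S)} {f f' : 𝒳 ⥤ᵇ 𝒴} (e : f ≅ f')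
    (hf : AlgSt.LocQ P f) : AlgSt.LocQ P f' := by
  obtain ⟨U, V, x, y, h, α, hx₁, hx₂, hy, hPh⟩ := hf
  exact ⟨U, V, x, y, h, wl x e.symm ≪≫ α, hx₁, hx₂, hy, hPh⟩

/-- If `f` is flat, locally of finite presentation and surjective and `f ≫ g` has a property
`P₀` which is fppf local on the source, then `g` has `P₀`. -/
theorem locQ_of_comp_of_fppf {P₀ : MorphismProperty Scheme.{u}}
    (hP₀ : Groth.Agent.Lib.Helper16.EtLocalST P₀)
    (hP : AlgSp.IsSmoothLocalST (S := S) (AlgSp.LocP P₀))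
    (hsrc : Groth.Agent.Lib.Helper16.FppfSrc P₀)
    (h𝒳 : AlgSt.IsAlgStack Scheme.fppfPrecoverage 𝒳)
    (h𝒴 : AlgSt.IsAlgStack Scheme.fppfPrecoverage 𝒴)
    (h𝒵 : AlgSt.IsAlgStack Scheme.fppfPrecoverage 𝒵) (f : 𝒳 ⥤ᵇ 𝒴) (g : 𝒴 ⥤ᵇ 𝒵)
    (hf₁ : AlgSt.LocQ (AlgSp.LocP @Flat) f)
    (hf₁' : AlgSt.LocQ (AlgSp.LocP @LocallyOfFinitePresentation) f)
    (hf₂ : AlgSt.IsSurjective f)
    (hfg : AlgSt.LocQ (AlgSp.LocP P₀) (BasedFunctor.comp f g)) :
    AlgSt.LocQ (AlgSp.LocP P₀) g := by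
  have hPfl := Groth.Agent.Lib.Helper16.isSmoothLocalST_locP_flat (S := S)
  have hPfp := Groth.Agent.Lib.Helper16.isSmoothLocalST_locP_lfp (S := S)
  haveI := hP₀.baseChange
  obtain ⟨W, w, hw₁, hw₂⟩ := h𝒵.atlas
  have hWa := H10PT.isAlgStack_overCat W
  have h𝒫 : AlgSt.IsAlgStack Scheme.fppfPrecoverage (FibCat.fp g w) :=
    isAlgStack_fp h𝒵.isStack h𝒵.diag h𝒴 hWa g w
  obtain ⟨V, v, hv₁, hv₂⟩ := h𝒫.atlas
  have hV := isFibGrpd_overForget V
  have hy₁ : AlgSt.RepByAlgSpWith (AlgSp.LocP @Smooth)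
      (BasedFunctor.comp v (FibCat.fpFst g w)) :=
    repByAlgSpWith_comp_smooth hV h𝒫.isStack.1 v _ hv₁ (repByAlgSpWith_fpFst _ w g hw₁)
  have hy₂ : AlgSt.RepByAlgSpWith AlgSp.IsSurjectiveMor
      (BasedFunctor.comp v (FibCat.fpFst g w)) :=
    repByAlgSpWith_comp_surjective hV h𝒫.isStack.1 v _ hv₂ (repByAlgSpWith_fpFst _ w g hw₂)
  have hVa := H10PT.isAlgStack_overCat V
  have h𝒬 : AlgSt.IsAlgStack Scheme.fppfPrecoverage
      (FibCat.fp f (BasedFunctor.comp v (FibCat.fpFst g w))) :=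
    isAlgStack_fp h𝒴.isStack h𝒴.diag h𝒳 hVa f _
  obtain ⟨U, u, hu₁, hu₂⟩ := h𝒬.atlas
  have hU := isFibGrpd_overForget U
  have hh : Flat (homOfOver (BasedFunctor.comp u
      (FibCat.fpSnd f (BasedFunctor.comp v (FibCat.fpFst g w))))).left :=
    AlgSp.locP_yon_map (all_squares_atlas f _ u hPfl h𝒳.isStack.1 h𝒴.isStack.1 hf₁ hy₁ hu₁)
  have hh' : LocallyOfFinitePresentation (homOfOver (BasedFunctor.comp u
      (FibCat.fpSnd f (BasedFunctor.comp v (FibCat.fpFst g w))))).left :=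
    AlgSp.locP_yon_map (all_squares_atlas f _ u hPfp h𝒳.isStack.1 h𝒴.isStack.1 hf₁' hy₁ hu₁)
  have hs : Surjective (homOfOver (BasedFunctor.comp u
      (FibCat.fpSnd f (BasedFunctor.comp v (FibCat.fpFst g w))))).left :=
    surjective_homOfOver_of_points _ (by
      rw [Groth.Agent.Lib.Helper10.AlgStRep.points_map_comp]
      exact (surjective_points_fpSnd h𝒳.isStack.1 h𝒴.isStack.1 hV f _ hf₂).comp
        (H10PT.isSurjective_of_rep h𝒬.isStack.1 u hu₂))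
  obtain ⟨Θ, hΘ, ⟨iΘ⟩⟩ := exists_compLift f g w v
  have hu₂' : AlgSt.RepByAlgSpWith (AlgSp.LocP @Smooth) (BasedFunctor.comp u Θ) :=
    repByAlgSpWith_comp_smooth hU h𝒬.isStack.1 u Θ hu₁ (hΘ _ hv₁)
  have hκ := AlgSp.locP_yon_map (all_squares_atlas (BasedFunctor.comp f g) w
    (BasedFunctor.comp u Θ) hP h𝒳.isStack.1 h𝒵.isStack.1 hfg hw₁ hu₂')
  have e : BasedFunctor.comp (BasedFunctor.comp u Θ) (FibCat.fpSnd (BasedFunctor.comp f g) w) ≅
      AlgSt.overMap (homOfOver (BasedFunctor.comp u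
          (FibCat.fpSnd f (BasedFunctor.comp v (FibCat.fpFst g w)))) ≫
        homOfOver (BasedFunctor.comp v (FibCat.fpSnd g w))) :=
    (show BasedFunctor.comp (BasedFunctor.comp u Θ) (FibCat.fpSnd (BasedFunctor.comp f g) w) ≅
      BasedFunctor.comp u (BasedFunctor.comp Θ (FibCat.fpSnd (BasedFunctor.comp f g) w)) from
      Iso.refl _) ≪≫
    wl u iΘ ≪≫
    (show BasedFunctor.comp u (BasedFunctor.comp
        (FibCat.fpSnd f (BasedFunctor.comp v (FibCat.fpFst g w)))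
        (BasedFunctor.comp v (FibCat.fpSnd g w))) ≅
      BasedFunctor.comp (BasedFunctor.comp u
        (FibCat.fpSnd f (BasedFunctor.comp v (FibCat.fpFst g w))))
        (BasedFunctor.comp v (FibCat.fpSnd g w)) from Iso.refl _) ≪≫
    wr (isoOverMap (BasedFunctor.comp u
      (FibCat.fpSnd f (BasedFunctor.comp v (FibCat.fpFst g w)))))
      (BasedFunctor.comp v (FibCat.fpSnd g w)) ≪≫
    wl (AlgSt.overMap (homOfOver (BasedFunctor.comp u
      (FibCat.fpSnd f (BasedFunctor.comp v (FibCat.fpFst g w))))))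
      (isoOverMap (BasedFunctor.comp v (FibCat.fpSnd g w))) ≪≫
    overMapCompIso _ _
  have heq := (homOfOver_eq_of_iso e).trans (homOfOver_overMap _)
  rw [heq, Over.comp_left] at hκ
  have hk : P₀ (homOfOver (BasedFunctor.comp v (FibCat.fpSnd g w))).left :=
    hsrc.of_comp (homOfOver (BasedFunctor.comp u
        (FibCat.fpSnd f (BasedFunctor.comp v (FibCat.fpFst g w))))).left _ hs hh hh' hκ
  exact ⟨V, W, BasedFunctor.comp v (FibCat.fpFst g w), w,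
    homOfOver (BasedFunctor.comp v (FibCat.fpSnd g w)), sqAlpha g w v, hy₁, hy₂, hw₁,
    locP_yon_of hP₀ _ hk⟩

/-- S13007: finite presentation descends along an fppf cover of the source. -/
theorem locQ_lfp_of_comp_of_fppf (h𝒳 : AlgSt.IsAlgStack Scheme.fppfPrecoverage 𝒳)
    (h𝒴 : AlgSt.IsAlgStack Scheme.fppfPrecoverage 𝒴)
    (h𝒵 : AlgSt.IsAlgStack Scheme.fppfPrecoverage 𝒵) (f : 𝒳 ⥤ᵇ 𝒴) (g : 𝒴 ⥤ᵇ 𝒵)
    (hf₁ : AlgSt.LocQ (AlgSp.LocP @Flat) f)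
    (hf₁' : AlgSt.LocQ (AlgSp.LocP @LocallyOfFinitePresentation) f)
    (hf₂ : AlgSt.IsSurjective f)
    (hfg : AlgSt.LocQ (AlgSp.LocP @LocallyOfFinitePresentation) (BasedFunctor.comp f g)) :
    AlgSt.LocQ (AlgSp.LocP @LocallyOfFinitePresentation) g :=
  locQ_of_comp_of_fppf Groth.Agent.Lib.Helper16.etLocalST_locallyOfFinitePresentation
    Groth.Agent.Lib.Helper16.isSmoothLocalST_locP_lfp Groth.Agent.Lib.Helper16.fppfSrc_lfp
    h𝒳 h𝒴 h𝒵 f g hf₁ hf₁' hf₂ hfg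

/-- S13001: finite type descends along a representable fppf cover of the source. -/
theorem locQ_lft_of_comp_of_rep_fppf (h𝒳 : AlgSt.IsAlgStack Scheme.fppfPrecoverage 𝒳)
    (h𝒴 : AlgSt.IsAlgStack Scheme.fppfPrecoverage 𝒴)
    (h𝒵 : AlgSt.IsAlgStack Scheme.fppfPrecoverage 𝒵) (f : 𝒳 ⥤ᵇ 𝒴) (g : 𝒴 ⥤ᵇ 𝒵)
    (hf₁ : AlgSt.RepByAlgSpWith (AlgSp.LocP @Flat) f)
    (hf₂ : AlgSt.RepByAlgSpWith (AlgSp.LocP @LocallyOfFinitePresentation) f)
    (hf₃ : AlgSt.RepByAlgSpWith AlgSp.IsSurjectiveMor f)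
    (hfg : AlgSt.LocQ (AlgSp.LocP @LocallyOfFiniteType) (BasedFunctor.comp f g)) :
    AlgSt.LocQ (AlgSp.LocP @LocallyOfFiniteType) g :=
  locQ_of_comp_of_fppf Groth.Agent.Lib.Helper16.etLocalST_locallyOfFiniteType
    Groth.Agent.Lib.Helper16.isSmoothLocalST_locP_lft Groth.Agent.Lib.Helper16.fppfSrc_lft
    h𝒳 h𝒴 h𝒵 f g
    (locQ_locP_of_repByAlgSpWith Groth.Agent.Lib.Helper16.etLocalST_flat h𝒳 h𝒴 f hf₁)
    (locQ_locP_of_repByAlgSpWith Groth.Agent.Lib.Helper16.etLocalST_locallyOfFinitePresentation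
      h𝒳 h𝒴 f hf₂)
    (H10PT.isSurjective_of_rep h𝒴.isStack.1 f hf₃) hfg

/-- S13000: finite type descends along a representable fppf cover of the target by a space. -/
theorem locQ_lft_of_fpFst_of_space_cover (h𝒳 : AlgSt.IsAlgStack Scheme.fppfPrecoverage 𝒳)
    (h𝒴 : AlgSt.IsAlgStack Scheme.fppfPrecoverage 𝒴) (f : 𝒳 ⥤ᵇ 𝒴)
    (W : AlgSp.Space S) (w : AlgSt.ofSp W.obj ⥤ᵇ 𝒴)
    (hw₁ : AlgSt.RepByAlgSpWith (AlgSp.LocP @Flat) w)
    (hw₂ : AlgSt.RepByAlgSpWith (AlgSp.LocP @LocallyOfFinitePresentation) w)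
    (hw₃ : AlgSt.RepByAlgSpWith AlgSp.IsSurjectiveMor w)
    (hq : AlgSt.LocQ (AlgSp.LocP @LocallyOfFiniteType) (FibCat.fpFst w f)) :
    AlgSt.LocQ (AlgSp.LocP @LocallyOfFiniteType) f := by
  have hW := H10PT.isAlgStack_ofSp W
  exact locQ_of_locQ_fpFst_of_fppf Groth.Agent.Lib.Helper16.isSmoothLocalST_locP_lft
    good_lft.loc h𝒳 h𝒴 hW f w
    (locQ_locP_of_repByAlgSpWith Groth.Agent.Lib.Helper16.etLocalST_flat hW h𝒴 w hw₁)
    (locQ_locP_of_repByAlgSpWith Groth.Agent.Lib.Helper16.etLocalST_locallyOfFinitePresentation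
      hW h𝒴 w hw₂)
    (H10PT.isSurjective_of_rep h𝒴.isStack.1 w hw₃) hq

/-- S13006: the diagonal of a morphism locally of finite type is locally of finite
presentation. -/
theorem locQ_lfp_diag_of_lft (h𝒳 : AlgSt.IsAlgStack Scheme.fppfPrecoverage 𝒳)
    (h𝒴 : AlgSt.IsAlgStack Scheme.fppfPrecoverage 𝒴) (f : 𝒳 ⥤ᵇ 𝒴)
    (hf : AlgSt.LocQ (AlgSp.LocP @LocallyOfFiniteType) f) :
    AlgSt.LocQ (AlgSp.LocP @LocallyOfFinitePresentation) (FibCat.diag f) := by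
  have hP := Groth.Agent.Lib.Helper16.isSmoothLocalST_locP_lft (S := S)
  have h𝒫 : AlgSt.IsAlgStack Scheme.fppfPrecoverage (FibCat.fp f f) :=
    isAlgStack_fp h𝒴.isStack h𝒴.diag h𝒳 h𝒳 f f
  have hg : AlgSt.LocQ (AlgSp.LocP @LocallyOfFiniteType) (FibCat.fpFst f f) :=
    locQ_baseChange hP good_lft.bc h𝒳 h𝒴 h𝒳 f f hf
  refine locQ_lfp_of_comp h𝒳 h𝒫 h𝒳 (FibCat.diag f) (FibCat.fpFst f f) ?_ hg
  obtain ⟨U, x, hx₁, hx₂⟩ := h𝒳.atlas
  refine ⟨U, U, x, x, homOfOver (BasedFunctor.id (FibCat.overCat U)), ?_, hx₁, hx₂, hx₁, ?_⟩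
  · exact (show BasedFunctor.comp x (BasedFunctor.comp (FibCat.diag f) (FibCat.fpFst f f)) ≅
        BasedFunctor.comp (BasedFunctor.id _) x from Iso.refl _) ≪≫
      wr (isoOverMap (BasedFunctor.id _)) x
  · apply locP_yon_of Groth.Agent.Lib.Helper16.etLocalST_locallyOfFinitePresentation
    have h1 : homOfOver (BasedFunctor.id (FibCat.overCat U)) = 𝟙 U := by
      simp [homOfOver]
      rfl
    rw [h1]
    exact (inferInstance : LocallyOfFinitePresentation (𝟙 U.left))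

end Groth.Agent.Lib.Helper16.AlgStDC
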