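import Mathlib
import Groth.Agent.Lib.Helper16.AlgSt.LocQOne
import Groth.Agent.Lib.Helper16.AlgSt.LocQSch
import Groth.Agent.Lib.Helper1.LciLocal

/-!
# Cancelling a smooth morphism from a local complete intersection morphism of algebraic stacks
-/

set_option autoImplicit false
set_option backward.isDefEq.respectTransparency false
set_option backward.isDefEq.respectTransparency.types false

universe u

open CategoryTheory CategoryTheory.Limits AlgebraicGeometry Opposite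

namespace Groth.Agent.Lib.Helper16.AlgStDC

open Groth.Agent.Lib.Helper10.Fib Groth.Agent.Lib.Helper10.StkPsh
open Groth.Agent.Lib.Helper10.AlgStRep Groth.Agent.Lib.Helper10.LiftSqBC
open Groth.Agent.Lib.Helper28.AlgSt.PshFun Groth.Agent.Lib.Helper28.AlgSt.PshPull
open Groth.Agent.Lib.Helper28.AlgSt.ClsPsh Groth.Agent.Lib.Helper28.AlgSt.Bridge
open Groth.Agent.Lib.Helper28.AlgSt.Key Groth.Agent.Lib.Helper28.AlgSt.PropInst
open Groth.Agent.Lib.Helper28.AlgSt.Comp Groth.Agent.Lib.Helper28.AlgSt.Whisker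
open Groth.Agent.Lib.Helper28.AlgSt.SpaceCalc Groth.Agent.Lib.Helper28.AlgSt.Chart
open Groth.Agent.Lib.Helper28.AlgSt.ChartOver Groth.Agent.Lib.Helper28.AlgSt.FpStack
open Groth.Agent.Lib.Helper28.AlgSt.DiagComp Groth.Agent.Lib.Helper28.AlgSt.Descent

variable {S : Scheme.{u}} {𝒳 𝒴 𝒵 : AlgSt.Cat S}

section SchemeLevel

theorem koszul_comp {A B C : Scheme.{u}} (f : A ⟶ B) (g : B ⟶ C)
    (hf : ∀ x, Synt.IsKoszulAt f x) (hg : ∀ y, Synt.IsKoszulAt g y) :
    ∀ x, Synt.IsKoszulAt (f ≫ g) x :=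
  fun x => Groth.Agent.Lib.Helper1.LciComp.isKoszulAt_comp f g x (hf x) (hg _)

theorem koszul_of_smooth {A B : Scheme.{u}} (f : A ⟶ B) [Smooth f] :
    ∀ x, Synt.IsKoszulAt f x :=
  fun x => Groth.Agent.Lib.Helper1.KDesc.isKoszulAt_of_smooth f x

theorem koszul_of_comp_smooth {A B C : Scheme.{u}} (m : A ⟶ B) (w : B ⟶ C) [Smooth w]
    (h : ∀ x, Synt.IsKoszulAt (m ≫ w) x) : ∀ x, Synt.IsKoszulAt m x :=
  fun x => Groth.Agent.Lib.Helper1.LciLocal.isKoszulAt_of_comp_smooth m w x (h x)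

/-- A Koszul morphism of schemes gives a Koszul morphism of representable sheaves. -/
theorem isLCIMor_yon_of {T U : Over S} (h : T ⟶ U) (hh : ∀ x, Synt.IsKoszulAt h.left x) :
    AlgSp.IsLCIMor ((AlgSp.yon S).map h) := by
  intro U' V' a b m ha hb hcomm
  obtain ⟨a₀, rfl⟩ := (AlgSp.yon S).map_surjective a
  obtain ⟨b₀, rfl⟩ := (AlgSp.yon S).map_surjective b
  have hae : Etale a₀.left := (AlgSp.repWith_yon_map_iff _ _).1 ha
  have hbe : Etale b₀.left := (AlgSp.repWith_yon_map_iff _ _).1 hb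
  have hc : a₀ ≫ h = m ≫ b₀ := (AlgSp.yon S).map_injective (by
    rw [Functor.map_comp, Functor.map_comp]; exact hcomm)
  have hc' : a₀.left ≫ h.left = m.left ≫ b₀.left := by
    rw [← Over.comp_left, hc, Over.comp_left]
  haveI : Smooth a₀.left := inferInstance
  haveI : Smooth b₀.left := inferInstance
  show ∀ x, Synt.IsKoszulAt m.left x
  apply koszul_of_comp_smooth m.left b₀.left
  rw [← hc']
  exact koszul_comp _ _ (koszul_of_smooth _) hh

end SchemeLevel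

section Cancel

/-- Cancellation of a smooth morphism from a Koszul morphism of algebraic stacks. -/
theorem locQ_isLCIMor_cancel (h𝒳 : AlgSt.IsAlgStack Scheme.fppfPrecoverage 𝒳)
    (h𝒴 : AlgSt.IsAlgStack Scheme.fppfPrecoverage 𝒴)
    (h𝒵 : AlgSt.IsAlgStack Scheme.fppfPrecoverage 𝒵)
    (f : 𝒳 ⥤ᵇ 𝒴) (q : 𝒴 ⥤ᵇ 𝒵) (p : 𝒳 ⥤ᵇ 𝒵) (e : BasedFunctor.comp f q ≅ p)
    (hq : AlgSt.LocQ (AlgSp.LocP @Smooth) q) (hp : AlgSt.LocQ AlgSp.IsLCIMor p) :
    AlgSt.LocQ AlgSp.IsLCIMor f := by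
  obtain ⟨U₁, V₁, x₁, z₁, h₁, α₁, hx₁, hx₁s, hz₁, hP₁⟩ := hp
  obtain ⟨U₂, V₂, y₂, z₂, h₂, α₂, hy₂, hy₂s, hz₂, hP₂⟩ := hq
  have gS := good_smooth (S := S)
  have hU₁a := H10PT.isAlgStack_overCat U₁
  obtain ⟨U, x', h, α, hx', -, -, hx's⟩ :=
    exists_good_square hU₁a h𝒴 (BasedFunctor.comp x₁ f) U₂ y₂ hy₂
  have hx's' := hx's hy₂s
  let a₀ : U ⟶ U₁ := homOfOver x'
  let A : U ⟶ V₁ := a₀ ≫ h₁
  let B : U ⟶ V₂ := h ≫ h₂
  let δ : BasedFunctor.comp (AlgSt.overMap A) z₁ ≅ BasedFunctor.comp (AlgSt.overMap B) z₂ :=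
    (show BasedFunctor.comp (AlgSt.overMap A) z₁ ≅
        BasedFunctor.comp (BasedFunctor.comp (AlgSt.overMap a₀) (AlgSt.overMap h₁)) z₁ from
      wr (overMapCompIso a₀ h₁).symm z₁) ≪≫
    (show BasedFunctor.comp (BasedFunctor.comp (AlgSt.overMap a₀) (AlgSt.overMap h₁)) z₁ ≅
        BasedFunctor.comp (AlgSt.overMap a₀) (BasedFunctor.comp x₁ p) from
      wl (AlgSt.overMap a₀) α₁.symm) ≪≫
    (show BasedFunctor.comp (AlgSt.overMap a₀) (BasedFunctor.comp x₁ p) ≅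
        BasedFunctor.comp x' (BasedFunctor.comp x₁ p) from
      wr (isoOverMap x').symm (BasedFunctor.comp x₁ p)) ≪≫
    (show BasedFunctor.comp x' (BasedFunctor.comp x₁ p) ≅
        BasedFunctor.comp (BasedFunctor.comp x' x₁) (BasedFunctor.comp f q) from
      wl (BasedFunctor.comp x' x₁) e.symm) ≪≫
    (show BasedFunctor.comp (BasedFunctor.comp x' x₁) (BasedFunctor.comp f q) ≅
        BasedFunctor.comp (BasedFunctor.comp (AlgSt.overMap h) y₂) q from
      wr α q) ≪≫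
    (show BasedFunctor.comp (BasedFunctor.comp (AlgSt.overMap h) y₂) q ≅
        BasedFunctor.comp (BasedFunctor.comp (AlgSt.overMap h) (AlgSt.overMap h₂)) z₂ from
      wl (AlgSt.overMap h) α₂) ≪≫
    wr (overMapCompIso h h₂) z₂
  have hV₁a := H10PT.isAlgStack_overCat V₁
  have hV₂a := H10PT.isAlgStack_overCat V₂
  have hWa : AlgSt.IsAlgStack Scheme.fppfPrecoverage (FibCat.fp z₁ z₂) :=
    isAlgStack_fp h𝒵.isStack h𝒵.diag hV₁a hV₂a z₁ z₂
  let G : FibCat.overCat U ⥤ᵇ FibCat.fp z₁ z₂ :=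
    FibCat.fpLift (AlgSt.overMap A) (AlgSt.overMap B) δ
  obtain ⟨W₀, c, hc, hcs⟩ := hWa.atlas
  have hUa := H10PT.isAlgStack_overCat U
  obtain ⟨U', x'', g', α', hx'', -, -, hx''s⟩ := exists_good_square hUa hWa G W₀ c hc
  have hx''s' := hx''s hcs
  let s : U' ⟶ U := homOfOver x''
  let π₁ : W₀ ⟶ V₁ := homOfOver (BasedFunctor.comp c (FibCat.fpFst z₁ z₂))
  let π₂ : W₀ ⟶ V₂ := homOfOver (BasedFunctor.comp c (FibCat.fpSnd z₁ z₂))
  have e1 : s ≫ A = g' ≫ π₁ := overMap_inj (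
    (overMapCompIso s A).symm ≪≫
    (show BasedFunctor.comp (AlgSt.overMap s) (AlgSt.overMap A) ≅
        BasedFunctor.comp x'' (AlgSt.overMap A) from
      wr (isoOverMap x'').symm (AlgSt.overMap A)) ≪≫
    (show BasedFunctor.comp x'' (AlgSt.overMap A) ≅
        BasedFunctor.comp (BasedFunctor.comp x'' G) (FibCat.fpFst z₁ z₂) from Iso.refl _) ≪≫
    wr α' (FibCat.fpFst z₁ z₂) ≪≫
    (show BasedFunctor.comp (BasedFunctor.comp (AlgSt.overMap g') c) (FibCat.fpFst z₁ z₂) ≅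
        BasedFunctor.comp (AlgSt.overMap g') (AlgSt.overMap π₁) from
      wl (AlgSt.overMap g') (isoOverMap (BasedFunctor.comp c (FibCat.fpFst z₁ z₂)))) ≪≫
    overMapCompIso g' π₁)
  have e2 : s ≫ B = g' ≫ π₂ := overMap_inj (
    (overMapCompIso s B).symm ≪≫
    (show BasedFunctor.comp (AlgSt.overMap s) (AlgSt.overMap B) ≅
        BasedFunctor.comp x'' (AlgSt.overMap B) from
      wr (isoOverMap x'').symm (AlgSt.overMap B)) ≪≫
    (show BasedFunctor.comp x'' (AlgSt.overMap B) ≅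
        BasedFunctor.comp (BasedFunctor.comp x'' G) (FibCat.fpSnd z₁ z₂) from Iso.refl _) ≪≫
    wr α' (FibCat.fpSnd z₁ z₂) ≪≫
    (show BasedFunctor.comp (BasedFunctor.comp (AlgSt.overMap g') c) (FibCat.fpSnd z₁ z₂) ≅
        BasedFunctor.comp (AlgSt.overMap g') (AlgSt.overMap π₂) from
      wl (AlgSt.overMap g') (isoOverMap (BasedFunctor.comp c (FibCat.fpSnd z₁ z₂)))) ≪≫
    overMapCompIso g' π₂)
  -- smoothness of the scheme maps
  have hOW₀ := isFibGrpd_overForget W₀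
  have hπ₁ : Smooth π₁.left := prop_homOfOver' gS _
    (repByAlgSpWith_comp_smooth hOW₀ hWa.isStack.1 c _ hc (repByAlgSpWith_fpFst _ z₂ z₁ hz₂))
  have hπ₂ : Smooth π₂.left := prop_homOfOver' gS _
    (repByAlgSpWith_comp_smooth hOW₀ hWa.isStack.1 c _ hc (repByAlgSpWith_fpSnd _ z₁ z₂ hz₁))
  have ha₀ : Smooth a₀.left := prop_homOfOver' gS x' hx'
  have hs : Smooth s.left := prop_homOfOver' gS x'' hx''
  have hh₂ : Smooth h₂.left := AlgSp.locP_yon_map hP₂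
  have hh₁ : ∀ x, Synt.IsKoszulAt h₁.left x := AlgSp.locP_yon_map hP₁
  -- Koszul chain
  have k1 : ∀ x, Synt.IsKoszulAt (s ≫ A).left x := by
    show ∀ x, Synt.IsKoszulAt (s.left ≫ a₀.left ≫ h₁.left) x
    exact koszul_comp _ _ (koszul_of_smooth _) (koszul_comp _ _ (koszul_of_smooth _) hh₁)
  have k2 : ∀ x, Synt.IsKoszulAt g'.left x := by
    apply koszul_of_comp_smooth g'.left π₁.left
    rw [← Over.comp_left, ← e1]
    exact k1
  have k3 : ∀ x, Synt.IsKoszulAt (s ≫ B).left x := by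
    rw [e2, Over.comp_left]
    exact koszul_comp _ _ k2 (koszul_of_smooth _)
  have k4 : ∀ x, Synt.IsKoszulAt (s ≫ h).left x := by
    apply koszul_of_comp_smooth (s ≫ h).left h₂.left
    rw [← Over.comp_left, Category.assoc]
    exact k3
  -- the square
  have hOU' := isFibGrpd_overForget U'
  have hOU := isFibGrpd_overForget U
  have hOU₁ := isFibGrpd_overForget U₁
  let x : FibCat.overCat U' ⥤ᵇ 𝒳 := BasedFunctor.comp x'' (BasedFunctor.comp x' x₁)
  let γ : BasedFunctor.comp x f ≅ BasedFunctor.comp (AlgSt.overMap (s ≫ h)) y₂ :=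
    (show BasedFunctor.comp x f ≅
        BasedFunctor.comp x'' (BasedFunctor.comp (AlgSt.overMap h) y₂) from wl x'' α) ≪≫
    (show BasedFunctor.comp x'' (BasedFunctor.comp (AlgSt.overMap h) y₂) ≅
        BasedFunctor.comp (BasedFunctor.comp (AlgSt.overMap s) (AlgSt.overMap h)) y₂ from
      wr (isoOverMap x'') (BasedFunctor.comp (AlgSt.overMap h) y₂)) ≪≫
    wr (overMapCompIso s h) y₂
  refine ⟨U', U₂, x, y₂, s ≫ h, γ, ?_, ?_, hy₂, isLCIMor_yon_of _ k4⟩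
  · exact repByAlgSpWith_comp_smooth hOU' hOU x'' _ hx''
      (repByAlgSpWith_comp_smooth hOU hOU₁ x' x₁ hx' hx₁)
  · exact repByAlgSpWith_comp_surjective hOU' hOU x'' _ hx''s'
      (repByAlgSpWith_comp_surjective hOU hOU₁ x' x₁ hx's' hx₁s)

end Cancel

end Groth.Agent.Lib.Helper16.AlgStDC
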