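import Mathlib
import Groth.Agent.Lib.Helper16.AlgSt.DiagToSelf
import Groth.Agent.Lib.Helper28.AlgSt.DiagTFAE

/-!
# Cancellation for properties of the diagonal: `Δ_{f ⋙ g}` has `P` ⟹ `Δ_f` has `P`
-/

set_option autoImplicit false
set_option backward.isDefEq.respectTransparency false
set_option backward.isDefEq.respectTransparency.types false

universe u

open CategoryTheory CategoryTheory.Limits AlgebraicGeometry Opposite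

namespace Groth.Agent.Lib.Helper16.AlgStDC

open Groth.Agent.Lib.Helper10.Fib Groth.Agent.Lib.Helper10.AlgStRep
open Groth.Agent.Lib.Helper28.AlgSt.FpStack Groth.Agent.Lib.Helper28.AlgSt.DiagComp
open Groth.Agent.Lib.Helper28.AlgSt.Key

variable {S : Scheme.{u}} {𝒳 𝒴 𝒵 : AlgSt.Cat S}

/-- If the diagonal of `f ⋙ g` and the diagonal of the comparison functor
`𝒳 ×_𝒴 𝒳 ⟶ 𝒳 ×_𝒵 𝒳` have the good property `P`, then so does the diagonal of `f`. -/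
theorem repByAlgSpWith_diag_of_comp {P : MorphismProperty (AlgSp.Sp S)}
    (hP : Groth.Agent.Lib.Helper28.AlgSt.PropInst.Good P)
    (h𝒳 : FibCat.IsFibGrpd 𝒳.p) (h𝒴 : FibCat.IsFibGrpd 𝒴.p) (h𝒵 : FibCat.IsFibGrpd 𝒵.p)
    (f : 𝒳 ⥤ᵇ 𝒴) (g : 𝒴 ⥤ᵇ 𝒵)
    (hΔc : AlgSt.RepByAlgSpWith P (FibCat.diag (fpComp f g)))
    (h : AlgSt.RepByAlgSpWith P (FibCat.diag (BasedFunctor.comp f g))) :
    AlgSt.RepByAlgSpWith P (FibCat.diag f) := by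
  have hff := isFibGrpd_fp f f h𝒳 h𝒳 h𝒴
  have hgg := isFibGrpd_fp (BasedFunctor.comp f g) (BasedFunctor.comp f g) h𝒳 h𝒳 h𝒵
  have hab : AlgSt.RepByAlgSpWith P (BasedFunctor.comp (FibCat.diag f) (fpComp f g)) :=
    repByAlgSpWith_iso P (diagCompIso f g).symm h
  exact repByAlgSpWith_of_comp hP h𝒳 hff hgg (FibCat.diag f) (fpComp f g) hab hΔc

/-- The comparison functor `𝒳 ×_𝒴 𝒳 ⟶ 𝒳 ×_𝒵 𝒳` is representable by algebraic spaces, for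
morphisms of algebraic stacks. -/
theorem repByAlgSp1_fpComp (h𝒳 : FibCat.IsFibGrpd 𝒳.p)
    (h𝒴 : AlgSt.IsAlgStack Scheme.fppfPrecoverage 𝒴)
    (h𝒵 : AlgSt.IsAlgStack Scheme.fppfPrecoverage 𝒵) (f : 𝒳 ⥤ᵇ 𝒴) (g : 𝒴 ⥤ᵇ 𝒵) :
    AlgSt.RepByAlgSp1 (fpComp f g) :=
  repByAlgSp1_of_with ⊤ _ (repByAlgSpWith_fpComp ⊤ h𝒳 h𝒴.isStack.1 h𝒵.isStack.1 f g
    (repByAlgSpWith_top _
      (repByAlgSp1_diag_of_diag_toSelf h𝒴.isStack.1 h𝒵.isStack.1 h𝒴.diag h𝒵.diag g)))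

/-- Version where `P` holds for all diagonals of morphisms of algebraic spaces. -/
theorem repByAlgSpWith_diag_of_comp' {P : MorphismProperty (AlgSp.Sp S)}
    (hP : Groth.Agent.Lib.Helper28.AlgSt.PropInst.Good P)
    (hPΔ : ∀ (A B : AlgSp.Space S) (m : A ⟶ B), P (pullback.diagonal m.hom))
    (h𝒳 : FibCat.IsFibGrpd 𝒳.p)
    (h𝒴 : AlgSt.IsAlgStack Scheme.fppfPrecoverage 𝒴)
    (h𝒵 : AlgSt.IsAlgStack Scheme.fppfPrecoverage 𝒵) (f : 𝒳 ⥤ᵇ 𝒴) (g : 𝒴 ⥤ᵇ 𝒵)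
    (h : AlgSt.RepByAlgSpWith P (FibCat.diag (BasedFunctor.comp f g))) :
    AlgSt.RepByAlgSpWith P (FibCat.diag f) :=
  repByAlgSpWith_diag_of_comp hP h𝒳 h𝒴.isStack.1 h𝒵.isStack.1 f g
    (Groth.Agent.Lib.Helper28.AlgSt.SpaceCalc.repByAlgSpWith_diag_of_forall
      (isFibGrpd_fp f f h𝒳 h𝒳 h𝒴.isStack.1)
      (isFibGrpd_fp (BasedFunctor.comp f g) (BasedFunctor.comp f g) h𝒳 h𝒳 h𝒵.isStack.1)
      P hP.bc _ (repByAlgSp1_fpComp h𝒳 h𝒴 h𝒵 f g) hPΔ) h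

/-- Version where the diagonal of `g` has a property `Q` whose diagonal property is `P`. -/
theorem repByAlgSpWith_diag_of_comp'' {P Q : MorphismProperty (AlgSp.Sp S)}
    (hP : Groth.Agent.Lib.Helper28.AlgSt.PropInst.Good P)
    (H : ∀ (A B : AlgSp.Space S) (m : A ⟶ B), Q m.hom → P (pullback.diagonal m.hom))
    (h𝒳 : FibCat.IsFibGrpd 𝒳.p) (h𝒴 : FibCat.IsFibGrpd 𝒴.p) (h𝒵 : FibCat.IsFibGrpd 𝒵.p)
    (f : 𝒳 ⥤ᵇ 𝒴) (g : 𝒴 ⥤ᵇ 𝒵)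
    (h : AlgSt.RepByAlgSpWith P (FibCat.diag (BasedFunctor.comp f g)))
    (hg : AlgSt.RepByAlgSpWith Q (FibCat.diag g)) :
    AlgSt.RepByAlgSpWith P (FibCat.diag f) :=
  repByAlgSpWith_diag_of_comp hP h𝒳 h𝒴 h𝒵 f g
    (Groth.Agent.Lib.Helper28.AlgSt.DiagTFAE.diag_of_rep
      (isFibGrpd_fp f f h𝒳 h𝒳 h𝒴)
      (isFibGrpd_fp (BasedFunctor.comp f g) (BasedFunctor.comp f g) h𝒳 h𝒳 h𝒵)
      hP.bc (fpComp f g) H (repByAlgSpWith_fpComp Q h𝒳 h𝒴 h𝒵 f g hg)) h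

end Groth.Agent.Lib.Helper16.AlgStDC
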